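import Groth.Agent.DCohRestrLib.Scheme
import Groth.Agent.DerLib.KInjUse
import Groth.Agent.KFlatLib.LpullAdj

/-!
# The adjunction `j^* ⊣ Rj_*` for an open immersion
-/

set_option autoImplicit false
set_option linter.style.haveILetI false
set_option backward.isDefEq.respectTransparency false
set_option backward.isDefEq.respectTransparency.types false

universe u

open CategoryTheory CategoryTheory.Limits AlgebraicGeometry
open Groth.Agent.DerLib

attribute [local instance] HasDerivedCategory.standard

namespace Groth.Agent.KoszOrthLib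

variable {X W : Scheme.{u}} (j : W ⟶ X) [IsOpenImmersion j]
  [PreservesFiniteLimits (Scheme.Modules.restrictFunctor j)] [DCoh.HasRpush j]

/-- `j^* ⊣ Rj_*`. -/
noncomputable def restrictRpushAdj : DCoh.restrictD j ⊣ DCoh.Rpush j :=
  KInjDerived.derivedAdj (Scheme.Modules.restrictAdjunction j) (DCoh.Rpush j)
    (DCohRestrLib.pushUnit j) KFlatLib.enoughKInj_modules

/-- The counit of any adjunction `j^* ⊣ Rj_*` is invertible. -/
theorem isIso_counit (adj : DCoh.restrictD j ⊣ DCoh.Rpush j) : IsIso adj.counit := by
  haveI : IsIso (restrictRpushAdj j).counit :=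
    KInjDerived.isIso_counit (Scheme.Modules.restrictAdjunction j) (DCoh.Rpush j)
      (DCohRestrLib.pushUnit j) KFlatLib.enoughKInj_modules
  exact adj.isIso_counit_of_iso (asIso (restrictRpushAdj j).counit)

theorem isIso_restrictD_unit (adj : DCoh.restrictD j ⊣ DCoh.Rpush j) (E : DCoh.D X) :
    IsIso ((DCoh.restrictD j).map (adj.unit.app E)) := by
  haveI := isIso_counit j adj
  haveI : IsIso ((DCoh.restrictD j).map (adj.unit.app E) ≫ adj.counit.app ((DCoh.restrictD j).obj E)) := by
    change IsIso ((DCoh.restrictD j).map (adj.unit.app E) ≫ _)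
    rw [show (DCoh.restrictD j).map (adj.unit.app E) ≫ adj.counit.app ((DCoh.restrictD j).obj E) = 𝟙 _ from
      adj.left_triangle_components E]
    infer_instance
  exact IsIso.of_isIso_comp_right _ (adj.counit.app ((DCoh.restrictD j).obj E))

end Groth.Agent.KoszOrthLib
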