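import Groth.Agent.DCohRestrLib.Scheme
import Groth.Agent.DerLib.KInjUse
import Groth.Agent.QCohLib.Gen
import Mathlib.Algebra.Homology.HomotopyCategory.HomComplexSingle
import Mathlib.Algebra.Homology.ShortComplex.Ab

/-!
# Vanishing of global cohomology kills maps from the structure sheaf
-/

set_option autoImplicit false
set_option linter.style.haveILetI false
set_option backward.isDefEq.respectTransparency false
set_option backward.isDefEq.respectTransparency.types false
set_option maxHeartbeats 1000000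

universe u

open CategoryTheory CategoryTheory.Limits AlgebraicGeometry TopologicalSpace Opposite
open Groth.Agent.DerLib
open CochainComplex.HomComplex

attribute [local instance] HasDerivedCategory.standard

namespace Groth.Agent.KoszOrthLib

variable {X : Scheme.{u}}

theorem quotient_map_eq_zero_of_gamma (J : CochainComplex X.Modules ℤ)
    (hJ : (((DCoh.gammaAb X).mapHomologicalComplex (ComplexShape.up ℤ)).obj J).ExactAt 0)
    (f : (CochainComplex.singleFunctor X.Modules 0).obj (Coh.structureModule X) ⟶ J) :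
    (HomotopyCategory.quotient X.Modules (ComplexShape.up ℤ)).map f = 0 := by
  let φ : Coh.structureModule X ⟶ J.X 0 :=
    (HomologicalComplex.singleObjXSelf (ComplexShape.up ℤ) 0 (Coh.structureModule X)).inv ≫ f.f 0
  have hφ : φ ≫ J.d 0 1 = 0 := by
    rw [Category.assoc, f.comm 0 1]
    simp
  let z : Γ(J.X 0, ⊤) := φ.app ⊤ (1 : Γ(X, ⊤))
  have hz : (J.d 0 1).app ⊤ z = 0 := by
    have := congrArg (fun t : Coh.structureModule X ⟶ J.X 1 => t.app ⊤ (1 : Γ(X, ⊤))) hφ
    simpa [z] using this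
  rw [HomologicalComplex.exactAt_iff' _ (-1) 0 1 (by simp) (by simp), ShortComplex.ab_exact_iff] at hJ
  obtain ⟨w, hw⟩ := hJ z hz
  change Γ(J.X (-1), ⊤) at w
  change (J.d (-1) 0).app ⊤ w = z at hw
  have hγ : QCohLib.unitHom (J.X (-1)) w ≫ J.d (-1) 0 = φ := by
    rw [QCohLib.app_unitHom_app, hw]
    refine Scheme.Modules.hom_ext _ _ fun V => ?_
    refine ConcreteCategory.hom_ext _ _ fun r => ?_
    rw [QCohLib.unitHom_app, ← QCohLib.app_map φ, ← QCohLib.app_smul φ]
    refine congrArg (φ.app V) ?_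
    change (show Γ(X, V) from r) * X.presheaf.map (homOfLE (le_top : V ≤ ⊤)).op 1 = (show Γ(X, V) from r)
    rw [map_one, mul_one]
  let γ : Cochain ((CochainComplex.singleFunctor X.Modules 0).obj (Coh.structureModule X)) J (-1) :=
    Cochain.fromSingleMk (QCohLib.unitHom (J.X (-1)) w) (zero_add (-1))
  have hδ : Cochain.ofHom f = δ (-1) 0 γ + Cochain.ofHom (0 : _ ⟶ J) := by
    rw [Cochain.ofHom_zero, add_zero, Cochain.δ_fromSingleMk _ _ 0 0 (add_zero 0), hγ]
    refine (Cochain.fromSingleEquiv (add_zero 0)).injective ?_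
    rw [Cochain.fromSingleEquiv_fromSingleMk]
    simp [Cochain.fromSingleEquiv, φ]
  rw [HomotopyCategory.eq_of_homotopy f 0 ((Cochain.equivHomotopy f 0).symm ⟨γ, hδ⟩), Functor.map_zero]

/-- If `H^p(X, K) = 0` then every map `O ⟶ K⟦p⟧` vanishes. -/
theorem hom_unit_shift_eq_zero [DCoh.HasRΓ X] (K : DCoh.D X) (p : ℤ)
    (h : IsZero ((DerivedCategory.homologyFunctor AddCommGrpCat.{u} p).obj ((DCoh.RΓ X).obj K)))
    (φ : DCoh.inD X (Coh.structureModule X) ⟶ K⟦p⟧) : φ = 0 := by
  obtain ⟨I, hI, ⟨e⟩⟩ := KInjDerived.essSurj_kInjective KFlatLib.enoughKInj_modules K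
  let G := (DCoh.gammaAb X).mapHomologicalComplex (ComplexShape.up ℤ)
  haveI := KInjDerived.isIso_app (DCoh.RΓ X) (DCohRestrLib.gammaUnit X) KFlatLib.enoughKInj_modules I
  let eΓ : DerivedCategory.Q.obj (G.obj I) ≅ (DCoh.RΓ X).obj K :=
    ((DerivedCategory.quotientCompQhIso AddCommGrpCat.{u}).app (G.obj I)).symm ≪≫
      DerivedCategory.Qh.mapIso (((DCoh.gammaAb X).mapHomotopyCategoryFactors (ComplexShape.up ℤ)).app I).symm ≪≫
      asIso ((DCohRestrLib.gammaUnit X).app ((HomotopyCategory.quotient X.Modules (ComplexShape.up ℤ)).obj I)) ≪≫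
        (DCoh.RΓ X).mapIso e
  have hzero : IsZero ((G.obj (I⟦p⟧)).homology 0) :=
    h.of_iso (HomologicalComplex.homologyMapIso ((G.commShiftIso p).app I) 0 ≪≫
      ((HomologicalComplex.homologyFunctor AddCommGrpCat.{u} (ComplexShape.up ℤ) 0).shiftIso p 0 p (by omega)).app
        (G.obj I) ≪≫
      ((DerivedCategory.homologyFunctorFactors AddCommGrpCat.{u} p).app (G.obj I)).symm ≪≫
        (DerivedCategory.homologyFunctor AddCommGrpCat.{u} p).mapIso eΓ)
  let eO := (DerivedCategory.singleFunctorIsoCompQ X.Modules 0).app (Coh.structureModule X)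
  let eK : DerivedCategory.Q.obj (I⟦p⟧) ≅ K⟦p⟧ :=
    (DerivedCategory.Q.commShiftIso p).app I ≪≫ (shiftFunctor _ p).mapIso e
  obtain ⟨f, hf⟩ := DerLib.KInjUse.Q_map_surjective _ (I⟦p⟧) (eO.inv ≫ φ ≫ eK.inv)
  have h0 : DerivedCategory.Q.map f = 0 := DerLib.KInjUse.Q_map_zero_of_quotient
    (quotient_map_eq_zero_of_gamma (I⟦p⟧) ((HomologicalComplex.exactAt_iff_isZero_homology _ _).2 hzero) f)
  exact zero_of_epi_comp eO.inv (zero_of_comp_mono eK.inv (by rw [Category.assoc]; exact hf.symm.trans h0))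

end Groth.Agent.KoszOrthLib
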