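import Groth.Agent.KoszOrthLib.Window
import Groth.Agent.KoszOrthLib.GammaHom
import Groth.Agent.IntMultLib.Asymp

/-!
# Powers of an ample invertible module detect nonzero objects of `D_QCoh`
-/

set_option autoImplicit false
set_option linter.style.haveILetI false
set_option backward.isDefEq.respectTransparency false
set_option backward.isDefEq.respectTransparency.types false
set_option maxHeartbeats 1000000

universe u v' u'

open CategoryTheory CategoryTheory.Limits AlgebraicGeometry TopologicalSpace CategoryTheory.Pretriangulated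
open scoped ZeroObject

attribute [local instance] HasDerivedCategory.standard

namespace Groth.Agent.KoszOrthLib

/-- The identity functor derives to the identity. -/
noncomputable def mapDerivedIdIso (A : Type u') [Category.{v'} A] [Abelian A] :
    (𝟭 A).mapDerivedCategory ≅ 𝟭 (DerivedCategory A) :=
  letI : Localization.Lifting DerivedCategory.Q (HomologicalComplex.quasiIso A (ComplexShape.up ℤ))
      ((𝟭 A).mapHomologicalComplex (ComplexShape.up ℤ) ⋙ DerivedCategory.Q) (𝟭 (DerivedCategory A)) :=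
    ⟨Functor.rightUnitor _ ≪≫ (Functor.leftUnitor _).symm ≪≫
      Functor.isoWhiskerRight (Functor.mapHomologicalComplexIdIso A (ComplexShape.up ℤ)).symm _⟩
  Localization.liftNatIso DerivedCategory.Q (HomologicalComplex.quasiIso A (ComplexShape.up ℤ))
    ((𝟭 A).mapHomologicalComplex (ComplexShape.up ℤ) ⋙ DerivedCategory.Q)
    ((𝟭 A).mapHomologicalComplex (ComplexShape.up ℤ) ⋙ DerivedCategory.Q) _ _ (Iso.refl _)

variable {X : Scheme.{u}}

/-- `- ⊗^L L` is the exact functor `- ⊗ L` for invertible `L`. -/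
theorem nonempty_LTensorMod_iso_TD (L : X.Modules) [PreservesFiniteLimits (DCoh.tensorRightMod L)]
    [PreservesFiniteColimits (DCoh.tensorRightMod L)] [DCoh.HasLTensorMod L] :
    Nonempty (DCoh.LTensorMod L ≅ TD L) := by
  haveI : (TD L).IsLeftDerivedFunctor (DCoh.tensorRightMod L).mapDerivedCategoryFactorsh.hom
      (HomotopyCategory.quasiIso X.Modules (ComplexShape.up ℤ)) :=
    Functor.isLeftDerivedFunctor_of_inverts _ (TD L) (DCoh.tensorRightMod L).mapDerivedCategoryFactorsh
  exact ⟨(Functor.leftDerivedUnique (DCoh.LTensorMod L) (TD L)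
    (DCoh.tensorRightMod L).mapDerivedCategoryFactorsh.hom
    ((DCoh.tensorModKh L).totalLeftDerivedCounit DerivedCategory.Qh
      (HomotopyCategory.quasiIso X.Modules (ComplexShape.up ℤ)))
    (HomotopyCategory.quasiIso X.Modules (ComplexShape.up ℤ))).symm⟩

theorem nonempty_TD_congr {L L' : X.Modules} (e : L ≅ L') [PreservesFiniteLimits (DCoh.tensorRightMod L)]
    [PreservesFiniteColimits (DCoh.tensorRightMod L)] [PreservesFiniteLimits (DCoh.tensorRightMod L')]
    [PreservesFiniteColimits (DCoh.tensorRightMod L')] : Nonempty (TD L ≅ TD L') :=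
  ⟨Groth.DescLib.mapDerivedIso (KiehlLib.tensRightNatIso e)⟩

theorem nonempty_TD_unit [PreservesFiniteLimits (DCoh.tensorRightMod (Coh.structureModule X))]
    [PreservesFiniteColimits (DCoh.tensorRightMod (Coh.structureModule X))] :
    Nonempty (TD (Coh.structureModule X) ≅ 𝟭 (DCoh.D X)) :=
  ⟨Groth.DescLib.mapDerivedIso tRUnit ≪≫ mapDerivedIdIso X.Modules⟩

theorem nonempty_TD_comp (L L' : X.Modules) [PreservesFiniteLimits (DCoh.tensorRightMod L)]
    [PreservesFiniteColimits (DCoh.tensorRightMod L)] [PreservesFiniteLimits (DCoh.tensorRightMod L')]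
    [PreservesFiniteColimits (DCoh.tensorRightMod L')]
    [PreservesFiniteLimits (DCoh.tensorRightMod (CohB1.tensorMod L L'))]
    [PreservesFiniteColimits (DCoh.tensorRightMod (CohB1.tensorMod L L'))] :
    Nonempty (TD L ⋙ TD L' ≅ TD (CohB1.tensorMod L L')) := by
  haveI : PreservesFiniteLimits (DCoh.tensorRightMod L ⋙ DCoh.tensorRightMod L') := comp_preservesFiniteLimits _ _
  haveI : PreservesFiniteColimits (DCoh.tensorRightMod L ⋙ DCoh.tensorRightMod L') := comp_preservesFiniteColimits _ _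
  exact ⟨Groth.DescLib.mapDerivedCompIso _ _ ≪≫ Groth.DescLib.mapDerivedIso (tRComp L L')⟩

/-- If all `H^p(X, K ⊗ L^n)` vanish for an ample `L`, then `K` vanishes. -/
theorem isZero_of_cohomology_twists [DCoh.HasRΓ X] {L : X.Modules} (hL : CohB1.IsAmple L)
    [QuasiSeparatedSpace X] [∀ n : ℕ, DCoh.HasLTensorMod (CohB1.tensorPow L n)]
    (K : DCoh.D X) (hK : DCoh.IsQCohD K)
    (h : ∀ (n : ℕ) (p : ℤ), IsZero ((DerivedCategory.homologyFunctor AddCommGrpCat.{u} p).obj
      ((DCoh.RΓ X).obj ((DCoh.LTensorMod (CohB1.tensorPow L n)).obj K)))) : IsZero K := by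
  haveI : CompactSpace X := hL.2.1
  haveI hfl : ∀ n : ℕ, PreservesFiniteLimits (DCoh.tensorRightMod (CohB1.tensorPow L n)) := fun n =>
    preservesFiniteLimits_tensorRightMod (AmpleThLib.tensorPow_isInvertible hL.1 n)
  haveI hfc : ∀ n : ℕ, PreservesFiniteColimits (DCoh.tensorRightMod (CohB1.tensorPow L n)) := fun n =>
    preservesFiniteColimits_tensorRightMod (AmpleThLib.tensorPow_isInvertible hL.1 n)
  have hvan : ∀ (n : ℕ) (p : ℤ) (φ : DCoh.inD X (Coh.structureModule X) ⟶
      ((TD (CohB1.tensorPow L n)).obj K)⟦p⟧), φ = 0 := fun n p φ => by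
    obtain ⟨e⟩ := nonempty_LTensorMod_iso_TD (CohB1.tensorPow L n)
    let e' := (shiftFunctor (DCoh.D X) p).mapIso (e.app K)
    exact zero_of_comp_mono e'.inv (hom_unit_shift_eq_zero _ p (h n p) _)
  refine (DCohRestrLib.isZero_iff_HD K).2 fun i => ?_
  rw [DCohRestrLib.isZero_iff_support_empty, Set.eq_empty_iff_forall_notMem]
  intro x
  obtain ⟨m, s, hx, haff⟩ := hL.2.2 x
  let L' := CohB1.tensorPow L (m + 1)
  have hL' : PicF.IsInvertible L' := AmpleThLib.tensorPow_isInvertible hL.1 (m + 1)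
  let σ : Γ(L', ⊤) := s.app ⊤ (1 : Γ(X, ⊤))
  have hs : s = QCohLib.unitHom L' σ := by
    refine Scheme.Modules.hom_ext _ _ fun V => ?_
    refine ConcreteCategory.hom_ext _ _ fun r => ?_
    rw [QCohLib.unitHom_app, ← QCohLib.app_map s, ← QCohLib.app_smul s]
    refine congrArg (s.app V) ?_
    change (show Γ(X, V) from r) = (show Γ(X, V) from r) * X.presheaf.map (homOfLE (le_top : V ≤ ⊤)).op 1
    rw [map_one, mul_one]
  let U := CycPBLib.genLocus' σ hL'
  have hU : ∀ y, y ∈ U ↔ AmpleLib.GenAt L' σ (show y ∈ (⊤ : X.Opens) from trivial) :=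
    fun y => ⟨fun hy => hy.2, fun hy => ⟨trivial, hy⟩⟩
  rw [hs, AmpleLib.genLocus_eq σ U fun y => (hU y).symm] at hx haff
  have hiter : ∀ k : ℕ, ∃ q, Nonempty (iterT L' k ≅ TD (CohB1.tensorPow L q)) := by
    intro k
    induction k with
    | zero =>
      haveI : PreservesFiniteLimits (DCoh.tensorRightMod (Coh.structureModule X)) := hfl 0
      haveI : PreservesFiniteColimits (DCoh.tensorRightMod (Coh.structureModule X)) := hfc 0
      obtain ⟨e⟩ := nonempty_TD_unit (X := X)
      exact ⟨0, ⟨e.symm⟩⟩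
    | succ k ih =>
      obtain ⟨q, ⟨e⟩⟩ := ih
      have hc : PicF.IsInvertible (CohB1.tensorMod (CohB1.tensorPow L q) L') :=
        HilbPolyLib.isInvertible_tensor (AmpleThLib.tensorPow_isInvertible hL.1 q) hL'
      haveI := preservesFiniteLimits_tensorRightMod hc
      haveI := preservesFiniteColimits_tensorRightMod hc
      obtain ⟨c⟩ := nonempty_TD_comp (CohB1.tensorPow L q) L'
      obtain ⟨a⟩ := IntMultLib.nonempty_tensorPow_add L q (m + 1)
      obtain ⟨c'⟩ := nonempty_TD_congr a.symm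
      exact ⟨q + (m + 1), ⟨Functor.isoWhiskerRight e (TD L') ≪≫ c ≪≫ c'⟩⟩
  refine notMem_support_of_noTwistHom L' σ hL' U hU haff K hK (fun n k φ => ?_) i x hx
  obtain ⟨q, ⟨e⟩⟩ := hiter k
  let e' := e.app (K⟦n⟧) ≪≫ ((TD (CohB1.tensorPow L q)).commShiftIso n).app K
  exact zero_of_comp_mono e'.hom (hvan q n _)

end Groth.Agent.KoszOrthLib
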