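import Groth.Agent.PerfCompLib.Fac
import Mathlib.CategoryTheory.Adjunction.Additive
import Mathlib.CategoryTheory.Limits.Preserves.Shapes.Products

/-!
# Right adjoints and coproducts, tested on objects with finite factorisation
-/

set_option autoImplicit false
set_option linter.unusedSectionVars false

universe w

open CategoryTheory CategoryTheory.Limits
open PerfCompLib (FinFac cut proj)

namespace Groth.Agent.KoszOrthLib

variable {D E : Type*} [Category D] [Category E] [Preadditive D] [Preadditive E]

theorem map_ι_iso (ι : D ⥤ E) {J : Type w} (X : J → D) [HasCoproduct X]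
    [HasCoproduct fun j => ι.obj (X j)] [PreservesColimit (Discrete.functor X) ι] (j : J) :
    ι.map (Sigma.ι X j) ≫ (PreservesCoproduct.iso ι X).hom = Sigma.ι (fun j => ι.obj (X j)) j := by
  rw [← Iso.eq_comp_inv, PreservesCoproduct.inv_hom, ι_comp_sigmaComparison]

/-- Finite factorisation descends along fully faithful functors preserving the coproduct. -/
theorem finFac_of_fullyFaithful (ι : D ⥤ E) [ι.Full] [ι.Faithful] [ι.Additive] {J : Type w}
    (X : J → D) [HasCoproduct X] [HasCoproduct fun j => ι.obj (X j)]
    [PreservesColimit (Discrete.functor X) ι] {K : D}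
    (h : FinFac (fun j => ι.obj (X j)) (ι.obj K)) : FinFac X K := by
  classical
  intro f
  let c := PreservesCoproduct.iso ι X
  obtain ⟨S, hS⟩ := h (ι.map f ≫ c.hom)
  refine ⟨S, ι.map_injective ((cancel_mono c.hom).1 ?_)⟩
  have hc : ι.map (cut X S) ≫ c.hom = c.hom ≫ cut (fun j => ι.obj (X j)) S := by
    rw [← cancel_epi c.inv, Iso.inv_hom_id_assoc]
    refine Limits.Sigma.hom_ext _ _ fun j => ?_
    rw [PerfCompLib.ι_cut, PreservesCoproduct.inv_hom, ι_comp_sigmaComparison_assoc,
      ← ι.map_comp_assoc, PerfCompLib.ι_cut]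
    split_ifs
    · exact map_ι_iso ι X j
    · rw [Functor.map_zero, zero_comp]
  rw [ι.map_comp, Category.assoc, hc, ← Category.assoc]
  exact hS

variable {F : D ⥤ E} {G : E ⥤ D}

theorem comparison_proj [G.Additive] {J : Type w} (X : J → E) [HasCoproduct X]
    [HasCoproduct fun j => G.obj (X j)] (k : J) :
    sigmaComparison G X ≫ G.map (proj X k) = proj (fun j => G.obj (X j)) k := by
  classical
  refine Limits.Sigma.hom_ext _ _ fun j => ?_
  rw [ι_comp_sigmaComparison_assoc, ← G.map_comp]
  simp only [proj, Sigma.ι_desc]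
  split_ifs with hjk
  · exact eqToHom_map _ _
  · exact G.map_zero _ _

/-- A right adjoint commutes with a coproduct as seen from an object `T` such that maps out of
`T` and out of its image factor through finite subfamilies. -/
theorem bijective_comp_sigmaComparison (adj : F ⊣ G) [F.Additive] [G.Additive] {J : Type w}
    (X : J → E) [HasCoproduct X] [HasCoproduct fun j => G.obj (X j)] {T : D}
    (hT : FinFac (fun j => G.obj (X j)) T) (hFT : FinFac X (F.obj T)) :
    Function.Bijective fun v : T ⟶ ∐ (fun j => G.obj (X j)) => v ≫ sigmaComparison G X := by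
  classical
  refine ⟨fun v w h => ?_, fun t => ?_⟩
  · obtain ⟨S, hS⟩ := hT (v - w)
    have h0 : (v - w) ≫ sigmaComparison G X = 0 := by rw [Preadditive.sub_comp, sub_eq_zero]; exact h
    rw [← sub_eq_zero, ← hS, PerfCompLib.cut_eq_sum, Preadditive.comp_sum]
    refine Finset.sum_eq_zero fun k _ => ?_
    rw [← comparison_proj, Category.assoc, ← Category.assoc (v - w), h0, zero_comp]
  · obtain ⟨S, hS⟩ := hFT ((adj.homEquiv _ _).symm t)
    refine ⟨∑ k ∈ S, adj.homEquiv _ _ ((adj.homEquiv _ _).symm t ≫ proj X k) ≫
      Sigma.ι (fun j => G.obj (X j)) k, ?_⟩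
    conv_rhs => rw [← (adj.homEquiv _ _).apply_symm_apply t, ← hS, PerfCompLib.cut_eq_sum,
      Preadditive.comp_sum, ← adj.homAddEquiv_apply, map_sum]
    dsimp only
    rw [Preadditive.sum_comp]
    refine Finset.sum_congr rfl fun k _ => ?_
    rw [adj.homAddEquiv_apply, Category.assoc, ι_comp_sigmaComparison, ← adj.homEquiv_naturality_right,
      Category.assoc]

end Groth.Agent.KoszOrthLib
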