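import Groth.Agent.KoszOrthLib.DQCohPush
import Groth.Agent.KoszOrthLib.FacAdj

/-!
# When the right adjoint of `Rf_*` preserves sums
-/

set_option autoImplicit false
set_option linter.style.haveILetI false
set_option backward.isDefEq.respectTransparency false
set_option backward.isDefEq.respectTransparency.types false
set_option maxHeartbeats 1000000

universe u

open CategoryTheory CategoryTheory.Limits AlgebraicGeometry CategoryTheory.Pretriangulated
open PerfCompLib (FinFac)

attribute [local instance] HasDerivedCategory.standard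

namespace Groth.Agent.KoszOrthLib

variable {X Y : Scheme.{u}}

theorem finFac_DQCoh [CompactSpace X] [QuasiSeparatedSpace X] {J : Type u} (M : J → DCoh.DQCoh X)
    (K : DCoh.DQCoh X) (hK : DCoh.IsPerfect K.obj) : FinFac M K :=
  finFac_of_fullyFaithful (DCoh.IsQCohD (X := X)).ι M
    (finFac_of_isQCohD hK (fun j => (DCoh.IsQCohD (X := X)).ι.obj (M j)) fun j => (M j).property)

theorem preservesCoproducts_rightAdjoint [CompactSpace X] [QuasiSeparatedSpace X] [CompactSpace Y]
    [QuasiSeparatedSpace Y] (f : X ⟶ Y) [DCoh.HasRpush f]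
    (h : ∀ K : DCoh.D X, DCoh.IsQCohD K → DCoh.IsQCohD ((DCoh.Rpush f).obj K))
    (hperf : ∀ K : DCoh.D X, DCoh.IsPerfect K → DCoh.IsPerfect ((DCoh.Rpush f).obj K))
    (a : DCoh.DQCoh Y ⥤ DCoh.DQCoh X)
    (adj : (ObjectProperty.lift DCoh.IsQCohD (ObjectProperty.ι DCoh.IsQCohD ⋙ DCoh.Rpush f)
      (fun K => h K.obj K.property)) ⊣ a) (J : Type u) :
    PreservesColimitsOfShape (Discrete J) a := by
  obtain ⟨_, _⟩ := QRlimLib.exists_isTriangulated_rpush f
  let F := ObjectProperty.lift DCoh.IsQCohD (ObjectProperty.ι DCoh.IsQCohD ⋙ DCoh.Rpush f)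
    (fun K => h K.obj K.property)
  haveI : F.Additive := ⟨fun {U V p q} => (DCoh.IsQCohD (X := Y)).ι.map_injective
    ((ObjectProperty.ι DCoh.IsQCohD ⋙ DCoh.Rpush f).map_add (f := p) (g := q))⟩
  haveI : a.Additive := adj.right_adjoint_additive
  haveI : HasCoproducts.{u} (DCoh.DQCoh X) := fun J => hasCoproductsQ J
  refine ⟨fun {K} => ?_⟩
  let M := fun j : J => K.obj ⟨j⟩
  haveI : IsIso (sigmaComparison a M) := BrownLS.isIso_of_bijective_comp
    (E := fun _ : PUnit.{u + 1} => genQ X) isZero_of_forall_hom_genQ _ fun p => by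
      have hP : DCoh.IsPerfect (BrownLS.sh (fun _ : PUnit.{u + 1} => genQ X) p).obj :=
        PerfLib.isPerfect_of_iso
          (((DCoh.IsQCohD (X := X)).ι.commShiftIso p.2).app (genQ X)).symm
          (PerfLib.isPerfect_shift isPerfect_genQ p.2)
      exact bijective_comp_sigmaComparison adj M (finFac_DQCoh _ _ hP) (finFac_DQCoh _ _ (hperf _ hP))
  haveI := PreservesCoproduct.of_iso_comparison a M
  exact preservesColimit_of_iso_diagram a (Discrete.natIso fun _ => Iso.refl _ : Discrete.functor M ≅ K)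

end Groth.Agent.KoszOrthLib
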