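import Groth.Agent.KoszOrthLib.Factor
import Groth.Agent.TildePCLib.Main
import Groth.Agent.PerfLib.PCohSummand
import Groth.Agent.HensSchLib.Flat
import Groth.Agent.DCohRestrLib.MV

/-!
# Modules and quasi-coherent objects on affine schemes
-/

set_option autoImplicit false
set_option linter.style.haveILetI false
set_option backward.isDefEq.respectTransparency false
set_option backward.isDefEq.respectTransparency.types false
set_option maxHeartbeats 1000000

universe u

open CategoryTheory CategoryTheory.Limits AlgebraicGeometry CategoryTheory.Pretriangulated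

attribute [local instance] HasDerivedCategory.standard

namespace Groth.Agent.KoszOrthLib

section Restrict

variable {X Y : Scheme.{u}}

theorem isPerfect_restrictD (j : X ⟶ Y) [IsOpenImmersion j] {K : DCoh.D Y} (h : DCoh.IsPerfect K) :
    DCoh.IsPerfect ((DCoh.restrictD j).obj K) := by
  rw [PerfLib.isPerfect_iff]
  intro v
  obtain ⟨U, hx, hU⟩ := h (j v)
  obtain ⟨E, hE, ⟨e⟩⟩ := hU _ ⟨DerivedCategory.Q.objObjPreimageIso K⟩
  have hU' : PerfLib.HasModel U.ι K := ⟨E, hE,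
    ⟨(PerfLib.resD U.ι).mapIso (DerivedCategory.Q.objObjPreimageIso K).symm ≪≫
      PerfLib.resDQIso U.ι _ ≪≫ e⟩⟩
  obtain ⟨E', hE', ⟨e'⟩⟩ := PerfLib.hasModel_congr (morphismRestrict_ι j U)
    (PerfLib.hasModel_comp (j ∣_ U) U.ι hU')
  obtain ⟨c⟩ := PerfLib.nonempty_resD_comp (j ⁻¹ᵁ U).ι j K
  exact ⟨_, (j ⁻¹ᵁ U).ι, inferInstance, ⟨v, hx⟩, rfl, E', hE', ⟨c.symm ≪≫ e'⟩⟩

theorem isPC_restrictD (j : X ⟶ Y) [IsOpenImmersion j] {m : ℤ} {K : DCoh.D Y}
    (h : DCoh.IsPseudoCoherentD m K) : DCoh.IsPseudoCoherentD m ((DCoh.restrictD j).obj K) :=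
  PerfLib.isPC_res h j

theorem isQCohD_restrictD (j : X ⟶ Y) [IsOpenImmersion j] {K : DCoh.D Y} (h : DCoh.IsQCohD K) :
    DCoh.IsQCohD ((DCoh.restrictD j).obj K) := fun i => by
  haveI := h i
  haveI := KFlatLib.isQCoh_pullback j (DCoh.HD K i)
  haveI : Coh.IsQCoh ((DCoh.HD K i).restrict j) :=
    QCohLib.isQCoh_of_iso ((Scheme.Modules.restrictFunctorIsoPullback j).app _).symm
  exact QCohLib.isQCoh_of_iso (DCohRestrLib.restrictHDIso j K i).symm

variable (j : X ⟶ Y) [IsIso j]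

theorem isZero_of_restrictD_iso {K : DCoh.D Y} (h : IsZero ((DCoh.restrictD j).obj K)) : IsZero K := by
  rw [DCohRestrLib.isZero_iff_HD] at h ⊢
  intro i
  rw [DCohRestrLib.isZero_iff_support_empty, Set.eq_empty_iff_forall_notMem]
  intro y hy
  obtain ⟨x, rfl⟩ : ∃ x, j x = y := (Scheme.homeoOfIso (asIso j)).surjective y
  have := (DCohRestrLib.isZero_iff_support_empty _).1 (h i)
  rw [DCohRestrLib.support_HD_restrictD, Set.eq_empty_iff_forall_notMem] at this
  exact this x hy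

theorem isIso_unit_restrictRpushAdj [DCoh.HasRpush j] (K : DCoh.D Y) :
    IsIso ((restrictRpushAdj j).unit.app K) := by
  obtain ⟨Z, π, δ, hT⟩ := Pretriangulated.distinguished_cocone_triangle ((restrictRpushAdj j).unit.app K)
  refine ((Triangle.mk _ π δ).isZero₃_iff_isIso₁ hT).1 (isZero_of_restrictD_iso j ?_)
  exact (((DCoh.restrictD j).mapTriangle.obj (Triangle.mk _ π δ)).isZero₃_iff_isIso₁
    ((DCoh.restrictD j).map_distinguished _ hT)).2 (isIso_restrictD_unit j _ K)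

theorem full_restrictD_iso : (DCoh.restrictD j).Full ∧ (DCoh.restrictD j).Faithful := by
  haveI := DCohRestrLib.hasRpush j
  haveI : ∀ K, IsIso ((restrictRpushAdj j).unit.app K) := isIso_unit_restrictRpushAdj j
  haveI : IsIso (restrictRpushAdj j).unit := NatIso.isIso_of_isIso_app _
  exact ⟨(restrictRpushAdj j).fullyFaithfulLOfIsIsoUnit.full,
    (restrictRpushAdj j).fullyFaithfulLOfIsIsoUnit.faithful⟩

theorem exists_restrictD_iso {K : DCoh.D X} (hK : DCoh.IsQCohD K) :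
    ∃ L : DCoh.D Y, DCoh.IsQCohD L ∧ Nonempty ((DCoh.restrictD j).obj L ≅ K) := by
  haveI := DCohRestrLib.hasRpush j
  haveI := isIso_counit j (restrictRpushAdj j)
  exact ⟨_, QRlimLib.isQCohD_rpush j hK, ⟨(asIso (restrictRpushAdj j).counit).app K⟩⟩

end Restrict

variable (X : Scheme.{u}) [IsAffine X]

/-- The ring of functions. -/
abbrev AX : Type u := Γ(X, ⊤)

instance preservesFiniteLimits_tilde_AX : PreservesFiniteLimits (tilde.functor (CommRingCat.of (AX X))) :=
  HensSchLib.tilde_preservesFiniteLimits _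

/-- Complexes of modules over `Γ(X, ⊤)` as objects of `D(O_X)`. -/
noncomputable def tX : DerivedCategory (ModuleCat.{u} (AX X)) ⥤ DCoh.D X :=
  tD (AX X) ⋙ DCoh.restrictD X.isoSpec.hom

noncomputable instance : (tX X).CommShift ℤ := by unfold tX; infer_instance

instance : (tX X).IsTriangulated :=
  inferInstanceAs ((tD (AX X) ⋙ DCoh.restrictD X.isoSpec.hom).IsTriangulated)

instance full_tX : (tX X).Full :=
  haveI := (full_restrictD_iso X.isoSpec.hom).1
  inferInstanceAs ((tD (AX X) ⋙ DCoh.restrictD X.isoSpec.hom).Full)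

instance faithful_tX : (tX X).Faithful :=
  haveI := (full_restrictD_iso X.isoSpec.hom).2
  inferInstanceAs ((tD (AX X) ⋙ DCoh.restrictD X.isoSpec.hom).Faithful)

variable {X}

theorem isQCohD_tX (M : DerivedCategory (ModuleCat.{u} (AX X))) : DCoh.IsQCohD ((tX X).obj M) :=
  isQCohD_restrictD _ (TildeDerLib.isQCohD_tildeD (CommRingCat.of (AX X)) M)

theorem exists_tX_iso {K : DCoh.D X} (hK : DCoh.IsQCohD K) :
    ∃ M, Nonempty ((tX X).obj M ≅ K) := by
  obtain ⟨L, hL, ⟨e⟩⟩ := exists_restrictD_iso X.isoSpec.hom hK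
  obtain ⟨M, ⟨c⟩⟩ := (TildeDerLib.isQCohD_iff (CommRingCat.of (AX X)) L).1 hL
  exact ⟨M, ⟨(DCoh.restrictD X.isoSpec.hom).mapIso c ≪≫ e⟩⟩

theorem isPerfect_tX {M : DerivedCategory (ModuleCat.{u} (AX X))} (h : DRing.IsPerfect (AX X) M) :
    DCoh.IsPerfect ((tX X).obj M) :=
  isPerfect_restrictD _ (TildePCLib.isPerfect_tildeD h)

theorem nonempty_restrictD_inv_tX (M : DerivedCategory (ModuleCat.{u} (AX X))) :
    Nonempty ((DCoh.restrictD X.isoSpec.inv).obj ((tX X).obj M) ≅ (tD (AX X)).obj M) := by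
  obtain ⟨c⟩ := PerfLib.nonempty_resD_comp X.isoSpec.inv X.isoSpec.hom ((tD (AX X)).obj M)
  obtain ⟨c'⟩ := PerfLib.nonempty_resD_congr X.isoSpec.inv_hom_id ((tD (AX X)).obj M)
  obtain ⟨c''⟩ := TildePCLib.nonempty_resD_id ((tD (AX X)).obj M)
  exact ⟨c.symm ≪≫ c' ≪≫ c''⟩

theorem isPerfect_of_tX {M : DerivedCategory (ModuleCat.{u} (AX X))} (h : DCoh.IsPerfect ((tX X).obj M)) :
    DRing.IsPerfect (AX X) M := by
  obtain ⟨e⟩ := nonempty_restrictD_inv_tX M
  exact TildePCLib.isPerfect_of_tildeD (PerfLib.isPerfect_of_iso e (isPerfect_restrictD X.isoSpec.inv h))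

theorem isPC_tX {M : DerivedCategory (ModuleCat.{u} (AX X))} {m : ℤ}
    (h : DRing.IsPseudoCoherent (AX X) m M) : DCoh.IsPseudoCoherentD m ((tX X).obj M) :=
  isPC_restrictD _ (TildePCLib.isPC_tildeD h)

theorem isPC_of_tX {M : DerivedCategory (ModuleCat.{u} (AX X))} {m : ℤ}
    (h : DCoh.IsPseudoCoherentD m ((tX X).obj M)) : DRing.IsPseudoCoherent (AX X) m M := by
  obtain ⟨e⟩ := nonempty_restrictD_inv_tX M
  exact TildePCLib.isPseudoCoherent_of_tildeD (PerfLib.isPC_of_iso e (isPC_restrictD X.isoSpec.inv h))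

/-- Cohomology of `tX`. -/
noncomputable def tXHIso (i : ℤ) (M : DerivedCategory (ModuleCat.{u} (AX X))) :
    DCoh.HD ((tX X).obj M) i ≅ (Scheme.Modules.restrictFunctor X.isoSpec.hom).obj
      ((tilde.functor (CommRingCat.of (AX X))).obj
        ((DerivedCategory.homologyFunctor (ModuleCat.{u} (AX X)) i).obj M)) :=
  DCohRestrLib.restrictHDIso X.isoSpec.hom ((tD (AX X)).obj M) i ≪≫
    (Scheme.Modules.restrictFunctor X.isoSpec.hom).mapIso
      (TildeDerLib.tildeHIso (CommRingCat.of (AX X)) i M)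

theorem notMem_support_tX_iff (i : ℤ) (M : DerivedCategory (ModuleCat.{u} (AX X))) (x : X) :
    x ∉ CohB1.support (DCoh.HD ((tX X).obj M) i) ↔
      ∀ m : (DerivedCategory.homologyFunctor (ModuleCat.{u} (AX X)) i).obj M,
        ∃ r ∉ (X.isoSpec.hom x : PrimeSpectrum (AX X)).asIdeal, r • m = 0 := by
  refine not_not.trans ((DCohRestrLib.subsingleton_stalk_of_iso (tXHIso i M) x).trans
    ((DCohRestrLib.subsingleton_stalk_restrict X.isoSpec.hom _ x).trans ?_))
  exact subsingleton_stalk_tilde_iff (R := CommRingCat.of (AX X)) _ _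

theorem notMem_asIdeal_iff (f : AX X) (x : X) :
    f ∉ (X.isoSpec.hom x : PrimeSpectrum (AX X)).asIdeal ↔ x ∈ X.basicOpen f := by
  rw [← Scheme.toSpecΓ_preimage_basicOpen X f]
  rfl

/-- Torsion in degree `i` is support on the zero locus. -/
theorem torsion_iff_support (i : ℤ) (M : DerivedCategory (ModuleCat.{u} (AX X))) (f : AX X) :
    (∀ m : (DerivedCategory.homologyFunctor (ModuleCat.{u} (AX X)) i).obj M, ∃ k : ℕ, f ^ k • m = 0) ↔
      ∀ x ∈ X.basicOpen f, x ∉ CohB1.support (DCoh.HD ((tX X).obj M) i) := by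
  rw [forall_torsion_iff]
  constructor
  · intro h x hx
    exact (notMem_support_tX_iff i M x).2 (h _ ((notMem_asIdeal_iff f x).2 hx))
  · intro h p hp
    obtain ⟨x, hx⟩ : ∃ x, X.isoSpec.hom x = p := (Scheme.homeoOfIso X.isoSpec).surjective p
    subst hx
    exact (notMem_support_tX_iff i M x).1 (h x ((notMem_asIdeal_iff f x).1 hp))

theorem torsH_iff_support (M : DerivedCategory (ModuleCat.{u} (AX X))) (f : AX X) :
    TorsH f M ↔ ∀ i : ℤ, ∀ x ∈ X.basicOpen f, x ∉ CohB1.support (DCoh.HD ((tX X).obj M) i) :=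
  forall_congr' fun i => torsion_iff_support i M f

theorem mem_zeroLocus_iff_list (fs : List (AX X)) (x : X) :
    x ∈ X.zeroLocus (U := ⊤) {a : Γ(X, ⊤) | a ∈ fs} ↔ ∀ f ∈ fs, x ∉ X.basicOpen f :=
  Scheme.mem_zeroLocus_iff X _ x

theorem torsAll_iff_support (fs : List (AX X)) (M : DerivedCategory (ModuleCat.{u} (AX X))) :
    TorsAll fs M ↔ ∀ i : ℤ, CohB1.support (DCoh.HD ((tX X).obj M) i) ⊆
      X.zeroLocus (U := ⊤) {a : Γ(X, ⊤) | a ∈ fs} :=
  ⟨fun h i x hx => (mem_zeroLocus_iff_list fs x).2 fun f hf hxf =>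
    (torsH_iff_support M f).1 (h f hf) i x hxf hx,
  fun h f hf => (torsH_iff_support M f).2 fun i x hxf hx =>
    (mem_zeroLocus_iff_list fs x).1 (h i hx) f hf hxf⟩

/-- The complement of a quasi-compact open is a finite zero locus. -/
theorem exists_list_zeroLocus {T : Set X} (hT : IsClosed T) (hTc : IsCompact Tᶜ) :
    ∃ fs : List (AX X), T = X.zeroLocus (U := ⊤) {a : Γ(X, ⊤) | a ∈ fs} := by
  classical
  obtain ⟨s, hs, hU⟩ := (isBasis_basicOpen X).exists_finite_of_isCompact (U := ⟨Tᶜ, hT.isOpen_compl⟩) hTc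
  choose g hg using fun O : s => hs O.2
  haveI := hU.1.fintype
  refine ⟨(Finset.univ.image g).toList, ?_⟩
  ext x
  rw [mem_zeroLocus_iff_list]
  constructor
  · intro hx f hf hxf
    obtain ⟨O, -, rfl⟩ := Finset.mem_image.1 (Finset.mem_toList.1 hf)
    have : x ∈ (⟨Tᶜ, hT.isOpen_compl⟩ : X.Opens) := by
      rw [hU.2]
      exact TopologicalSpace.Opens.mem_sSup.2 ⟨O, O.2, (hg O) ▸ hxf⟩
    exact this hx
  · intro h
    by_contra hx
    have : x ∈ (⟨Tᶜ, hT.isOpen_compl⟩ : X.Opens) := hx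
    rw [hU.2] at this
    obtain ⟨O, hO, hxO⟩ := TopologicalSpace.Opens.mem_sSup.1 this
    exact h (g ⟨O, hO⟩) (Finset.mem_toList.2 (Finset.mem_image.2 ⟨_, Finset.mem_univ _, rfl⟩))
      ((hg ⟨O, hO⟩).symm ▸ hxO)

end Groth.Agent.KoszOrthLib
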