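import Groth.Agent.KiehlLib.PushFree
import Groth.Agent.RpushLib.Sections
import Groth.Agent.QRlimLib.Unbounded
import Groth.Agent.KFlatLib.QCohTerms
import Groth.Agent.PnCohLib.Twist
import Groth.Agent.PicPnLib.Twist
import Groth.Agent.GenusZeroLib.PSmooth
import Groth.Agent.TwistLib.SpecSections
import Groth.Agent.FormalCohLib.ProjAmple

/-!
# Vanishing of direct images of twists on projective space
-/

set_option autoImplicit false
set_option linter.style.haveILetI false
set_option backward.isDefEq.respectTransparency false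
set_option backward.isDefEq.respectTransparency.types false
set_option maxHeartbeats 1000000
set_option synthInstance.maxHeartbeats 400000

universe u

open CategoryTheory CategoryTheory.Limits AlgebraicGeometry TopologicalSpace

attribute [local instance] HasDerivedCategory.standard

namespace Groth.Agent.KoszOrthLib

theorem isZero_rpush_of_subsingleton_HH {X : Scheme.{u}} {A : Type u} [CommRing A]
    (f : X ⟶ Spec (CommRingCat.of A)) [QuasiCompact f] [QuasiSeparated f] [HasInjectiveResolutions X.Modules]
    (M : X.Modules) [Coh.IsQCoh M] (n : ℕ) (h : Subsingleton (Coh.HH X M n))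
    (hq : Coh.IsQCoh ((Coh.Rpush f n).obj M)) : IsZero ((Coh.Rpush f n).obj M) := by
  let W : (Spec (CommRingCat.of A)).Opens := ⊤
  have hW : IsAffineOpen W := isAffineOpen_top _
  let F := RpushLib.FlRes.ofInjective (injectiveResolution M)
  let e : Γ((Coh.Rpush f n).obj M, W) ≃+ Coh.HH X M n :=
    ((AddEquiv.ofBijective ((RpushLib.rpushIso f (injectiveResolution M) n).hom.app W).hom
        (ConcreteCategory.bijective_of_isIso ((RpushLib.rpushIso f (injectiveResolution M) n).hom.app W))).trans
      (LinearEquiv.ofBijective (RpushLib.toHom (RpushLib.pushCx f F.K) n W)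
        (RpushLib.toHom_bijective (RpushLib.localizes_pushCx f F n) hW)).symm.toAddEquiv).trans
      ((AddEquiv.ofBijective (RpushLib.phPush f F.K n W).toAddMonoidHom
          (RpushLib.phPush_bijective f F.K n W)).trans
        (F.hhEquiv (f.app W).hom n))
  haveI := KFlatLib.isIso_counit_of_qcoh _ hq
  refine IsZero.of_iso ?_ (asIso ((tilde.adjunction (R := CommRingCat.of A)).counit.app ((Coh.Rpush f n).obj M))).symm
  refine (tilde.functor (CommRingCat.of A)).map_isZero ?_
  rw [ModuleCat.isZero_iff_subsingleton]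
  exact e.injective.subsingleton

theorem projSpace_hyps (n : ℕ) (A : Type u) [CommRing A] :
    IsProper (CohB1.ProjSpace.toSpec n A) ∧ Flat (CohB1.ProjSpace.toSpec n A) ∧
      LocallyOfFinitePresentation (CohB1.ProjSpace.toSpec n A) := by
  haveI := GenusZeroLib.smooth_toSpec n A
  exact ⟨FormalCohLib.isProper_projToSpec n A, inferInstance, inferInstance⟩

/-- `Rπ_* O(j)` sits in degree at most zero for `j ≥ -n`. -/
theorem isLE_rpush_twist (n : ℕ) (A : Type u) [CommRing A] [DCoh.HasRpush (CohB1.ProjSpace.toSpec n A)]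
    (j : ℤ) (hj : -(n : ℤ) ≤ j) :
    ((DCoh.Rpush (CohB1.ProjSpace.toSpec n A)).obj
      (DCoh.inD _ (Twist.twistProjSpace n A j))).IsLE 0 := by
  obtain ⟨hp, hf, hl⟩ := projSpace_hyps n A
  haveI := hp
  let P := CohB1.ProjSpace n A
  haveI : IsGrothendieckAbelian.{u} P.Modules :=
    inferInstanceAs (IsGrothendieckAbelian.{u} (SheafOfModules.{u} P.ringCatSheaf))
  haveI : CompactSpace ↥P := (FormalCohLib.isAmple_twistProjSpace n A).2.1
  let M := Twist.twistProjSpace n A j
  haveI hM : Coh.IsQCoh M := TwistLib.isQCoh_of_isInvertible (PicPnLib.twist_inv n A j)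
  rw [DerivedCategory.isLE_iff]
  intro i hi
  obtain ⟨k, rfl⟩ : ∃ k : ℕ, i = (k : ℤ) := ⟨i.toNat, by omega⟩
  obtain ⟨e⟩ := KiehlLib.nonempty_HD_rpush_inD (CohB1.ProjSpace.toSpec n A) M k
  have hq : Coh.IsQCoh ((Coh.Rpush (CohB1.ProjSpace.toSpec n A) k).obj M) :=
    @QCohLib.isQCoh_of_iso _ _ _ e
      (QRlimLib.isQCohD_rpush (CohB1.ProjSpace.toSpec n A) (KiehlLib.isQCohD_single M hM 0) (k : ℤ))
  refine (isZero_rpush_of_subsingleton_HH (CohB1.ProjSpace.toSpec n A) M k
    (PnCohLib.subsingleton_HH_twist (n := n) (R := A) j k (by omega) (fun h => by omega)) hq).of_iso e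

end Groth.Agent.KoszOrthLib
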