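import Groth.Agent.KoszOrthLib.PnGen
import Groth.Agent.KoszOrthLib.PnVan
import Groth.Agent.KoszOrthLib.Ample
import Groth.Agent.KiehlLib.ExtFin
import Groth.Agent.KiehlLib.Perfect
import Groth.Agent.PerfLib.PCohSummand
import Groth.Agent.DRingLib.PCohTop
import Groth.Agent.RelFlatLib.Absolute
import Groth.Agent.PnCohLib.FlatTensor

/-!
# Pseudo-coherence on projective space from finitely many twists
-/

set_option autoImplicit false
set_option linter.style.haveILetI false
set_option backward.isDefEq.respectTransparency false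
set_option backward.isDefEq.respectTransparency.types false
set_option maxHeartbeats 1000000

universe u

open CategoryTheory CategoryTheory.Limits AlgebraicGeometry TopologicalSpace CategoryTheory.Pretriangulated
open scoped ZeroObject

attribute [local instance] HasDerivedCategory.standard

namespace Groth.Agent.KoszOrthLib

section General

theorem bijective_iso_comp {D : Type*} [Category D] {A B : D} (e : A ≅ B) (E : D) :
    Function.Bijective (fun φ : B ⟶ E => e.hom ≫ φ) :=
  Function.bijective_iff_has_inverse.2 ⟨fun ψ => e.inv ≫ ψ, fun φ => by simp, fun ψ => by simp⟩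

theorem bijective_unit_comp {C D : Type*} [Category C] [Category D] (T : C ⥤ C) (R : C ⥤ D)
    [T.Full] [T.Faithful] {O X₀ : C} {P : D} (η : P ⟶ R.obj O)
    (hη : ∀ E : C, Function.Bijective fun φ : O ⟶ E => η ≫ R.map φ) (e : O ≅ T.obj X₀) (E : C) :
    Function.Bijective fun φ : X₀ ⟶ E => (η ≫ R.map e.hom) ≫ (T ⋙ R).map φ := by
  have h : (fun φ : X₀ ⟶ E => (η ≫ R.map e.hom) ≫ (T ⋙ R).map φ) =
      (fun ψ => η ≫ R.map ψ) ∘ (fun ξ => e.hom ≫ ξ) ∘ T.map := funext fun φ => by simp [Functor.map_comp]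
  rw [h]
  exact (hη _).comp ((bijective_iso_comp e _).comp ⟨T.map_injective, T.map_surjective⟩)

/-- An invertible module in degree zero is perfect. -/
theorem isPerfect_inD_invertible {X : Scheme.{u}} {M : X.Modules} (hM : PicF.IsInvertible M) :
    DCoh.IsPerfect (DCoh.inD X M) := by
  refine Groth.Agent.PerfDualLib.isPerfect_of_local fun x => ?_
  obtain ⟨U, hx, ⟨i⟩⟩ := hM x
  exact ⟨U, hx, PerfLib.isPerfect_of_iso (DualCxLib.restrictInD U.ι M ≪≫
    (DerivedCategory.singleFunctor _ 0).mapIso i).symm (isPerfect_inD_unit _)⟩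

variable {X S : Scheme.{u}} (f : X ⟶ S) [DCoh.HasRpush f]

/-- Maps out of the structure sheaf and derived direct image. -/
theorem exists_unit_rpush :
    ∃ η : DCoh.inD S (Coh.structureModule S) ⟶ (DCoh.Rpush f).obj (DCoh.inD X (Coh.structureModule X)),
      ∀ E : DCoh.D X, Function.Bijective
        fun φ : DCoh.inD X (Coh.structureModule X) ⟶ E => η ≫ (DCoh.Rpush f).map φ := by
  haveI := KFlatLib.hasLpull f
  let adj := KFlatLib.lpullRpushAdj f
  let e : (DCoh.Lpull f).obj (DCoh.inD S (Coh.structureModule S)) ≅ DCoh.inD X (Coh.structureModule X) :=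
    (DCoh.Lpull f).mapIso ((DerivedCategory.singleFunctorIsoCompQ S.Modules 0).app (Coh.structureModule S)) ≪≫
      KiehlLib.lpullUnitIso f ≪≫
        ((DerivedCategory.singleFunctorIsoCompQ X.Modules 0).app (Coh.structureModule X)).symm
  refine ⟨adj.homEquiv _ _ e.hom, fun E => ?_⟩
  have h : (fun φ : DCoh.inD X (Coh.structureModule X) ⟶ E => adj.homEquiv _ _ e.hom ≫ (DCoh.Rpush f).map φ) =
      adj.homEquiv _ E ∘ fun φ => e.hom ≫ φ := funext fun φ => (adj.homEquiv_naturality_right e.hom φ).symm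
  rw [h]
  exact (adj.homEquiv _ E).bijective.comp (bijective_iso_comp e E)

/-- On an affine scheme, objects in degrees at most `c` receive no maps from `O` in higher degrees. -/
theorem hom_unit_shift_eq_zero_of_isLE {S : Scheme.{u}} [IsAffine S] {E : DCoh.D S} (hE : DCoh.IsQCohD E)
    (c : ℤ) [E.IsLE c] {i : ℤ} (hi : c < i) (φ : DCoh.inD S (Coh.structureModule S) ⟶ E⟦i⟧) : φ = 0 := by
  obtain ⟨M, ⟨e⟩⟩ := exists_tX_iso hE
  obtain ⟨a⟩ := nonempty_tX_kA_nil S
  let b : (tX S).obj (M⟦i⟧) ≅ E⟦i⟧ := ((tX S).commShiftIso i).app M ≪≫ (shiftFunctor _ i).mapIso e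
  obtain ⟨ψ, hψ⟩ := (tX S).map_surjective (a.hom ≫ φ ≫ b.inv)
  have hz : IsZero ((DerivedCategory.homologyFunctor (ModuleCat.{u} (AX S)) i).obj M) := by
    have h1 : IsZero (DCoh.HD ((tX S).obj M) i) :=
      (DerivedCategory.isZero_of_isLE E c i hi).of_iso ((DerivedCategory.homologyFunctor _ i).mapIso e)
    have h2 : ∀ x : S, x ∉ CohB1.support (DCoh.HD ((tX S).obj M) i) := by
      rw [DCohRestrLib.isZero_iff_support_empty] at h1
      simp [h1]
    rw [ModuleCat.isZero_iff_subsingleton]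
    refine subsingleton_of_forall_eq 0 fun m => ?_
    by_contra hm
    let I : Ideal (AX S) := LinearMap.ker (LinearMap.toSpanSingleton (AX S) _ m)
    have hI : ∀ r : AX S, r ∈ I ↔ r • m = 0 := fun r => Iff.rfl
    have hne : I ≠ ⊤ := fun h => hm (by
      have h1 := (hI 1).1 (by rw [h]; trivial)
      rwa [one_smul] at h1)
    obtain ⟨p, hp, hle⟩ := Ideal.exists_le_maximal I hne
    obtain ⟨x, hx⟩ : ∃ x, S.isoSpec.hom x = (⟨p, hp.isPrime⟩ : PrimeSpectrum (AX S)) :=
      (Scheme.homeoOfIso S.isoSpec).surjective _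
    obtain ⟨r, hr, hrm⟩ := (notMem_support_tX_iff i M x).1 (h2 x) m
    rw [hx] at hr
    exact hr (hle ((hI r).2 hrm))
  have h0 : ψ = 0 := (orth_nil_iff M i).2 hz ψ
  rw [h0, (tX S).map_zero] at hψ
  exact zero_of_comp_mono b.inv (zero_of_epi_comp a.hom hψ.symm)

/-- Maps from objects to shifts of `C` vanish above `D`. -/
def HomGT (C : DCoh.D X) (D : ℤ) (E : DCoh.D X) : Prop := ∀ i : ℤ, D < i → ∀ φ : E ⟶ C⟦i⟧, φ = 0

variable {C : DCoh.D X} {D : ℤ}

theorem HomGT.of_iso {E E' : DCoh.D X} (e : E ≅ E') (h : HomGT C D E) : HomGT C D E' :=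
  fun i hi φ => zero_of_epi_comp e.hom (h i hi _)

theorem HomGT.obj₁ (T : Triangle (DCoh.D X)) (hT : T ∈ distTriang _) (h₂ : HomGT C D T.obj₂)
    (h₃ : HomGT C (D + 1) T.obj₃) : HomGT C D T.obj₁ := fun i hi φ => by
  obtain ⟨ψ, hψ⟩ := Triangle.yoneda_exact₂ _ (inv_rot_of_distTriang _ hT) φ
    ((forall_shift_iff T.obj₃ (C⟦i⟧) (-1) 1 (by omega)).2 (fun ξ => zero_of_comp_mono
      ((shiftFunctorAdd' (DCoh.D X) i 1 (i + 1) rfl).app C).inv (h₃ _ (by omega) _)) _)
  rw [hψ, h₂ i hi ψ]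
  exact comp_zero

theorem HomGT.obj₃ (T : Triangle (DCoh.D X)) (hT : T ∈ distTriang _) (h₁ : HomGT C D T.obj₁)
    (h₂ : HomGT C D T.obj₂) : HomGT C (D + 1) T.obj₃ := fun i hi φ => by
  obtain ⟨ψ, hψ⟩ := Triangle.yoneda_exact₃ _ hT φ (h₂ i (by omega) _)
  rw [hψ, (forall_shift_iff T.obj₁ (C⟦i⟧) 1 (-1) (by omega)).2 (fun ξ => zero_of_comp_mono
    ((shiftFunctorAdd' (DCoh.D X) i (-1) (i + -1) rfl).app C).inv (h₁ _ (by omega) _)) ψ]
  exact comp_zero

/-- The bound on maps out of `E` follows from the same bound for enough of its twists. -/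
theorem homGT_of_twists (L : X.Modules) [PreservesFiniteLimits (DCoh.tensorRightMod L)]
    [PreservesFiniteColimits (DCoh.tensorRightMod L)] (hL : PicF.IsInvertible L) (C : DCoh.D X) :
    ∀ (l : List Γ(L, ⊤)) (D : ℤ) (E : DCoh.D X) (T : Set X), IsClosed T →
      (∀ i : ℤ, CohB1.support (DCoh.HD E i) ⊆ T) →
      (∀ y ∈ T, ∃ σ ∈ l, AmpleLib.GenAt L σ (show y ∈ (⊤ : X.Opens) from trivial)) →
      (∀ r : ℕ, 1 ≤ r → r ≤ l.length → HomGT C D ((iterT L r).obj E)) → HomGT C D E
  | [], D, E, T, _, hE, hl, _ => by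
    have hz : IsZero E := (DCohRestrLib.isZero_iff_HD E).2 fun i => by
      rw [DCohRestrLib.isZero_iff_support_empty, Set.eq_empty_iff_forall_notMem]
      intro y hy
      obtain ⟨σ, hσ, -⟩ := hl y (hE i hy)
      simp at hσ
    exact fun i _ φ => hz.eq_of_src _ _
  | σ :: l, D, E, T, hT, hE, hl, hr => by
    obtain ⟨B, h, h', hTr⟩ := distinguished_cocone_triangle ((sD L σ).app E)
    have hB : HomGT C (D + 1) B := by
      refine homGT_of_twists L hL C l (D + 1) B
        (T ∩ {y | ¬ AmpleLib.GenAt L σ (show y ∈ (⊤ : X.Opens) from trivial)})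
        (hT.inter (TwistLib.isOpen_genAt hL σ).isClosed_compl)
        (support_obj₃_sD L hL σ h h' hTr hE hT) (fun y hy => ?_) fun r h1 h2 => ?_
      · obtain ⟨τ, hτ, hg⟩ := hl y hy.1
        rcases List.mem_cons.1 hτ with rfl | hτ'
        · exact absurd hg hy.2
        · exact ⟨τ, hτ', hg⟩
      · obtain ⟨d, hd⟩ := exists_iterT_triangle L _ _ _ hTr r
        obtain ⟨e⟩ := nonempty_iterT_succ L r E
        exact HomGT.obj₃ _ hd (hr r h1 (by simp; omega))
          ((hr (r + 1) (by omega) (by simp; omega)).of_iso e.symm)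
    exact HomGT.obj₁ _ hTr (hr 1 le_rfl (by simp)) hB

end General

section Pn

variable (n : ℕ) (A : Type u) [CommRing A]

theorem isFlatOver_twist (d : ℤ) :
    FlatMod.IsFlatOver (CohB1.ProjSpace.toSpec n A) (Twist.twistProjSpace n A d) := by
  haveI := (projSpace_hyps n A).2.1
  exact RelFlatLib.isFlatOver_of_iso _ (HilbPolyLib.unitLeft (Twist.twistProjSpace n A d))
    (PnCohLib.isFlatOver_tensor _ (PerfBaseLib.isFlatOver_unit _) (PicPnLib.twist_inv n A d))

local notation "PP" => CohB1.ProjSpace n A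
local notation "OS" => DCoh.inD (Spec (CommRingCat.of A)) (Coh.structureModule (Spec (CommRingCat.of A)))

instance preservesFiniteLimits_twist (d : ℤ) :
    PreservesFiniteLimits (DCoh.tensorRightMod (Twist.twistProjSpace n A d)) :=
  preservesFiniteLimits_tensorRightMod (PicPnLib.twist_inv n A d)

instance preservesFiniteColimits_twist (d : ℤ) :
    PreservesFiniteColimits (DCoh.tensorRightMod (Twist.twistProjSpace n A d)) :=
  preservesFiniteColimits_tensorRightMod (PicPnLib.twist_inv n A d)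

theorem nonempty_TD_OD (e d : ℤ) :
    Nonempty ((TD (Twist.twistProjSpace n A d)).obj (OD n A e) ≅ OD n A (e + d)) := by
  obtain ⟨c⟩ := PicPnLib.twist_add n A e d
  exact ⟨((DCoh.tensorRightMod (Twist.twistProjSpace n A d)).mapDerivedCategorySingleFunctor 0).app _ ≪≫
    (DerivedCategory.singleFunctor _ 0).mapIso c⟩

variable [DCoh.HasRpush (CohB1.ProjSpace.toSpec n A)]

/-- `Rπ_*(- ⊗ O(d))`. -/
noncomputable abbrev G (d : ℤ) : DCoh.D (CohB1.ProjSpace n A) ⥤ DCoh.D (Spec (CommRingCat.of A)) :=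
  TD (Twist.twistProjSpace n A d) ⋙ DCoh.Rpush (CohB1.ProjSpace.toSpec n A)

theorem isQCohD_G {C : DCoh.D PP} (hC : DCoh.IsQCohD C) (d : ℤ) : DCoh.IsQCohD ((G n A d).obj C) := by
  obtain ⟨hp, -, -⟩ := projSpace_hyps n A
  haveI := hp
  exact QRlimLib.isQCohD_rpush _ (isQCohD_TD (PicPnLib.twist_inv n A d) hC)

/-- Maps `O(-d) ⟶ E` correspond to maps `O_S ⟶ Rπ_*(E(d))`. -/
theorem exists_unit_G (d : ℤ) :
    ∃ η : OS ⟶ (G n A d).obj (OD n A (-d)),
      ∀ E : DCoh.D PP, Function.Bijective fun φ : OD n A (-d) ⟶ E => η ≫ (G n A d).map φ := by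
  obtain ⟨η, hη⟩ := exists_unit_rpush (CohB1.ProjSpace.toSpec n A)
  obtain ⟨e⟩ := nonempty_TD_OD n A (-d) d
  obtain ⟨c⟩ := PicPnLib.twist_zero n A
  let e' : DCoh.inD PP (Coh.structureModule PP) ≅ (TD (Twist.twistProjSpace n A d)).obj (OD n A (-d)) :=
    (DerivedCategory.singleFunctor _ 0).mapIso c.symm ≪≫ eqToIso (congrArg (OD n A) (by omega)) ≪≫ e.symm
  haveI := isEquivalence_TD (PicPnLib.twist_inv n A d)
  exact ⟨_, fun E => bijective_unit_comp (TD (Twist.twistProjSpace n A d))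
    (DCoh.Rpush (CohB1.ProjSpace.toSpec n A)) η hη e' E⟩

/-- All twists `Rπ_*(C(d))`, `d ≤ n`, are in degrees at most `c`. -/
def TwLE (c : ℤ) (C : DCoh.D (CohB1.ProjSpace n A)) : Prop := ∀ d : ℕ, d ≤ n → ((G n A d).obj C).IsLE c

/-- All twists `Rπ_*(C(d))`, `d ≤ n`, are pseudo-coherent. -/
def TwPC (C : DCoh.D (CohB1.ProjSpace n A)) : Prop :=
  ∀ d : ℕ, d ≤ n → ∀ m : ℤ, DCoh.IsPseudoCoherentD m ((G n A d).obj C)

variable [(DCoh.Rpush (CohB1.ProjSpace.toSpec n A)).CommShift ℤ]
  [(DCoh.Rpush (CohB1.ProjSpace.toSpec n A)).IsTriangulated]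

/-- Bounds on twisted direct images bound the cohomology. -/
theorem isLE_of_twLE {C : DCoh.D PP} (hC : DCoh.IsQCohD C) {c : ℤ} (h : TwLE n A c C) : C.IsLE c := by
  let L := O1 n A
  have hL : PicF.IsInvertible L := PicPnLib.twist_inv n A 1
  haveI : CompactSpace ↥PP := (FormalCohLib.isAmple_twistProjSpace n A).2.1
  haveI : IsProper (CohB1.ProjSpace.toSpec n A) := (projSpace_hyps n A).1
  haveI : QuasiSeparatedSpace ↥PP := quasiSeparatedSpace_of_quasiSeparated (CohB1.ProjSpace.toSpec n A)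
  have hbase : ∀ d : ℕ, d ≤ n → HomGT C c (OD n A (-(d : ℤ))) := fun d hd i hi φ => by
    obtain ⟨η, hη⟩ := exists_unit_G n A (d : ℤ)
    haveI := h d hd
    refine (hη _).1 (?_ : η ≫ (G n A d).map φ = η ≫ (G n A d).map 0)
    rw [(G n A d).map_zero, comp_zero]
    let e := ((G n A d).commShiftIso i).app C
    exact zero_of_comp_mono e.hom (hom_unit_shift_eq_zero_of_isLE (isQCohD_G n A hC d) c hi _)
  have hall : ∀ j : ℕ, HomGT C c (OD n A (-(j : ℤ))) := by
    intro j
    induction j using Nat.strong_induction_on with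
    | _ j ih =>
      by_cases hj : j ≤ n
      · exact hbase j hj
      · refine homGT_of_twists L hL C (List.ofFn (coordSec n A)) c _ Set.univ isClosed_univ
          (fun i => Set.subset_univ _) (fun y _ => exists_genAt_coordSec n A y) fun r h1 h2 => ?_
        rw [List.length_ofFn] at h2
        obtain ⟨e⟩ := nonempty_iterT_OD n A (-(j : ℤ)) r
        have h3 := ih (j - r) (by omega)
        rw [show -((j - r : ℕ) : ℤ) = -(j : ℤ) + r by omega] at h3
        exact h3.of_iso e.symm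
  obtain ⟨c₀⟩ := PicPnLib.twist_zero n A
  have hno : ∀ i, c < i → ∀ (k : ℕ) (φ : DCoh.inD PP (Coh.structureModule PP) ⟶ (iterT L k).obj (C⟦i⟧)),
      φ = 0 := fun i hi k φ => by
    haveI := isEquivalence_iterT hL k
    haveI := additive_iterT L k
    obtain ⟨e⟩ := nonempty_iterT_OD n A (-(k : ℤ)) k
    let e' : (iterT L k).obj (OD n A (-(k : ℤ))) ≅ DCoh.inD PP (Coh.structureModule PP) :=
      e ≪≫ eqToIso (congrArg (OD n A) (by omega)) ≪≫ (DerivedCategory.singleFunctor _ 0).mapIso c₀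
    obtain ⟨ψ, hψ⟩ := (iterT L k).map_surjective (e'.hom ≫ φ)
    rw [hall k i hi ψ, (iterT L k).map_zero] at hψ
    exact zero_of_epi_comp e'.hom hψ.symm
  rw [DerivedCategory.isLE_iff]
  intro i hi
  rw [DCohRestrLib.isZero_iff_support_empty, Set.eq_empty_iff_forall_notMem]
  intro x
  obtain ⟨j, hj⟩ := Opens.mem_iSup.mp
    (show x ∈ ⨆ i : Fin (n + 1), Proj.basicOpen (CohB1.polyGrading n A) (MvPolynomial.X i) by
      exact (QCohLib.iSup_stdOpen n A).symm ▸ (trivial : x ∈ (⊤ : (CohB1.ProjSpace n A).Opens)))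
  let U : (CohB1.ProjSpace n A).Opens := Proj.basicOpen (CohB1.polyGrading n A) (MvPolynomial.X j)
  have hUa : IsAffineOpen U :=
    Proj.isAffineOpen_basicOpen _ (MvPolynomial.X j) (MvPolynomial.isHomogeneous_X A j) one_pos
  haveI : IsAffine (U : Scheme.{u}) := hUa
  intro hx
  obtain ⟨M, ⟨e⟩⟩ := exists_tX_iso (isQCohD_restrictD U.ι hC)
  obtain ⟨a⟩ := nonempty_tX_kA_nil (U : Scheme.{u})
  have hz : Orth ([] : List (AX (U : Scheme.{u}))) M i := fun φ => by
    refine (tX _).map_injective ?_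
    let b : (tX _).obj (M⟦i⟧) ≅ (DCoh.restrictD U.ι).obj (C⟦i⟧) :=
      ((tX _).commShiftIso i).app M ≪≫ (shiftFunctor _ i).mapIso e ≪≫
        (((DCoh.restrictD U.ι).commShiftIso i).app C).symm
    rw [(tX _).map_zero, ← cancel_mono b.hom, ← cancel_epi a.inv, zero_comp, comp_zero]
    exact hom_restrictD_eq_zero L (coordSec n A j) hL U (fun y => (genAt_coordSec_iff n A j y).symm)
      hUa.isCompact _ (KFlatLib.isQCohD_shift hC i) (hno i hi) _
  have hM := (orth_nil_iff M i).1 hz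
  have h1 : IsZero (DCoh.HD ((DCoh.restrictD U.ι).obj C) i) :=
    ((Scheme.Modules.restrictFunctor (U : Scheme.{u}).isoSpec.hom).map_isZero
      ((tilde.functor _).map_isZero hM)).of_iso (((DerivedCategory.homologyFunctor _ i).mapIso e.symm) ≪≫ tXHIso i M)
  rw [DCohRestrLib.isZero_iff_support_empty, DCohRestrLib.support_HD_restrictD, Set.eq_empty_iff_forall_notMem] at h1
  exact h1 ⟨x, hj⟩ hx

/-- A perfect object whose twisted direct images are in degree at most zero. -/
def Small (P : DCoh.D (CohB1.ProjSpace n A)) : Prop := DCoh.IsPerfect P ∧ TwLE n A 0 P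

theorem small_OD (d : ℕ) (hd : d ≤ n) : Small n A (OD n A (-(d : ℤ))) := by
  refine ⟨?_, fun d' _ => ?_⟩
  · exact isPerfect_inD_invertible (PicPnLib.twist_inv n A (-(d : ℤ)))
  · obtain ⟨e⟩ := nonempty_TD_OD n A (-(d : ℤ)) (d' : ℤ)
    haveI := isLE_rpush_twist n A (-(d : ℤ) + d') (by omega)
    exact DerivedCategory.TStructure.t.isLE_of_iso ((DCoh.Rpush _).mapIso e.symm) 0

theorem small_zero : Small n A 0 :=
  ⟨PerfLib.isPerfect_of_isZero (isZero_zero _), fun d _ => DerivedCategory.TStructure.t.isLE_of_isZero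
    ((G n A (d : ℤ)).map_isZero (isZero_zero _)) 0⟩

theorem small_biprod {P Q : DCoh.D PP} (hP : Small n A P) (hQ : Small n A Q) : Small n A (P ⊞ Q) := by
  refine ⟨isPerfect_biprod hP.1 hQ.1, fun d hd => ?_⟩
  exact DerivedCategory.TStructure.t.isLE₂ _
    ((G n A (d : ℤ)).map_distinguished _ (binaryBiproductTriangle_distinguished P Q)) 0 (hP.2 d hd) (hQ.2 d hd)

/-- A map to a twisted direct image factors through a small object. -/
def Fac (C : DCoh.D (CohB1.ProjSpace n A)) (d : ℕ) {F : DCoh.D (Spec (CommRingCat.of A))}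
    (h : F ⟶ (G n A d).obj C) : Prop :=
  ∃ (P : DCoh.D (CohB1.ProjSpace n A)) (f : P ⟶ C) (u : F ⟶ (G n A d).obj P),
    Small n A P ∧ u ≫ (G n A d).map f = h

theorem fac_unit {C : DCoh.D PP} {d : ℕ} (hd : d ≤ n) (h : OS ⟶ (G n A d).obj C) : Fac n A C d h := by
  obtain ⟨η, hη⟩ := exists_unit_G n A (d : ℤ)
  obtain ⟨φ, hφ⟩ := (hη C).2 h
  exact ⟨_, φ, η, small_OD n A d hd, hφ⟩

theorem fac_biprod {C : DCoh.D PP} {d : ℕ} {F F' : DCoh.D (Spec (CommRingCat.of A))}
    {h : F ⟶ (G n A d).obj C} {h' : F' ⟶ (G n A d).obj C} (hh : Fac n A C d h) (hh' : Fac n A C d h') :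
    Fac n A C d (biprod.desc h h') := by
  obtain ⟨P, f, u, hP, hu⟩ := hh
  obtain ⟨Q, g, v, hQ, hv⟩ := hh'
  refine ⟨P ⊞ Q, biprod.desc f g,
    biprod.desc (u ≫ (G n A d).map biprod.inl) (v ≫ (G n A d).map biprod.inr), small_biprod n A hP hQ, ?_⟩
  ext
  · rw [biprod.inl_desc, biprod.inl_desc_assoc, Category.assoc, ← Functor.map_comp, biprod.inl_desc, hu]
  · rw [biprod.inr_desc, biprod.inr_desc_assoc, Category.assoc, ← Functor.map_comp, biprod.inr_desc, hv]

theorem exists_fac_list {C : DCoh.D PP} {d : ℕ} (hd : d ≤ n)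
    (M : DerivedCategory (ModuleCat.{u} (AX (Spec (CommRingCat.of A)))))
    (e : (tX (Spec (CommRingCat.of A))).obj M ≅ (G n A d).obj C) :
    ∀ l : List ((DerivedCategory.homologyFunctor (ModuleCat.{u} (AX (Spec (CommRingCat.of A)))) 0).obj M),
      ∃ (F : DerivedCategory (ModuleCat.{u} (AX (Spec (CommRingCat.of A))))) (h : F ⟶ M),
        Fac n A C d ((tX (Spec (CommRingCat.of A))).map h ≫ e.hom) ∧
          ∀ x ∈ l, x ∈ LinearMap.range
            ((DerivedCategory.homologyFunctor (ModuleCat.{u} (AX (Spec (CommRingCat.of A)))) 0).map h).hom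
  | [] => ⟨0, 0, ⟨0, 0, 0, small_zero n A, by
      rw [(tX (Spec (CommRingCat.of A))).map_zero, zero_comp, zero_comp]⟩, fun x hx => by simp at hx⟩
  | x :: l => by
    let S := Spec (CommRingCat.of A)
    obtain ⟨F, h, hF, hl⟩ := exists_fac_list hd M e l
    obtain ⟨a⟩ := nonempty_tX_kA_nil S
    obtain ⟨g, hg⟩ := (TildeDerLib.bijective_ev 0 M).2 (ModuleCat.ofHom (LinearMap.toSpanSingleton (AX S) _ x))
    change kA ([] : List (AX S)) ⟶ M at g
    have hFg : Fac n A C d ((tX S).map g ≫ e.hom) := by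
      obtain ⟨P, f, u, hP, hu⟩ := fac_unit n A hd (a.inv ≫ (tX S).map g ≫ e.hom)
      exact ⟨P, f, a.hom ≫ u, hP, by rw [Category.assoc, hu, Iso.hom_inv_id_assoc]⟩
    refine ⟨kA ([] : List (AX S)) ⊞ F, biprod.desc g h, ?_, fun y hy => ?_⟩
    · obtain ⟨P, f, u, hP, hu⟩ := fac_biprod n A hFg hF
      refine ⟨P, f, biprod.lift ((tX S).map biprod.fst) ((tX S).map biprod.snd) ≫ u, hP, ?_⟩
      rw [Category.assoc, hu, biprod.lift_desc, ← Functor.map_comp_assoc, ← Functor.map_comp_assoc,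
        ← Preadditive.add_comp, ← (tX S).map_add]
      congr 2
      ext <;> simp
    · rcases List.mem_cons.1 hy with rfl | hy'
      · refine ⟨((DerivedCategory.homologyFunctor (ModuleCat.{u} (AX S)) 0).map biprod.inl).hom
          ((TildeDerLib.genH (AX S) 0).hom.hom (1 : AX S)), ?_⟩
        rw [← LinearMap.comp_apply, ← ModuleCat.hom_comp, ← Functor.map_comp, biprod.inl_desc]
        refine (congrArg (fun t => t.hom (1 : AX S)) hg).trans ?_
        exact one_smul (AX S) _
      · obtain ⟨z, rfl⟩ := hl y hy'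
        refine ⟨((DerivedCategory.homologyFunctor (ModuleCat.{u} (AX S)) 0).map biprod.inr).hom z, ?_⟩
        rw [← LinearMap.comp_apply, ← ModuleCat.hom_comp, ← Functor.map_comp, biprod.inr_desc]

/-- One descent step: kill the top degree by a small object. -/
theorem exists_step {C : DCoh.D PP} (hC : DCoh.IsQCohD C) (hpc : TwPC n A C) (hle : TwLE n A 0 C) :
    ∃ (P C' : DCoh.D PP) (f : P ⟶ C) (g : C ⟶ C') (h : C' ⟶ P⟦(1 : ℤ)⟧),
      Triangle.mk f g h ∈ distTriang _ ∧ Small n A P ∧ TwLE n A (-1) C' := by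
  let S := Spec (CommRingCat.of A)
  let H := DerivedCategory.homologyFunctor S.Modules 0
  have hsingle : ∀ d : ℕ, d ≤ n → ∃ (P : DCoh.D PP) (f : P ⟶ C),
      Small n A P ∧ Epi (H.map ((G n A d).map f)) := by
    intro d hd
    obtain ⟨M, ⟨e⟩⟩ := exists_tX_iso (isQCohD_G n A hC (d : ℤ))
    have hM : DRing.IsPseudoCoherent (AX S) 0 M := isPC_of_tX (PerfLib.isPC_of_iso e.symm (hpc d hd 0))
    have hMz : ∀ i, (0 : ℤ) < i → IsZero ((DerivedCategory.homologyFunctor (ModuleCat.{u} (AX S)) i).obj M) := by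
      intro i hi
      haveI := hle d hd
      haveI : ((tX S).obj M).IsLE 0 := DerivedCategory.TStructure.t.isLE_of_iso e.symm 0
      refine (orth_nil_iff M i).1 fun φ => ?_
      obtain ⟨a⟩ := nonempty_tX_kA_nil S
      refine (tX S).map_injective ?_
      let b := ((tX S).commShiftIso i).app M
      rw [(tX S).map_zero, ← cancel_mono b.hom, ← cancel_epi a.inv, zero_comp, comp_zero]
      exact hom_unit_shift_eq_zero_of_isLE (isQCohD_tX M) 0 hi _
    haveI := DRingLib.finite_of_isPseudoCoherent hM hMz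
    obtain ⟨s, hs⟩ := Module.Finite.fg_top (R := AX S)
      (M := (DerivedCategory.homologyFunctor (ModuleCat.{u} (AX S)) 0).obj M)
    obtain ⟨F, h, ⟨P, f, u, hP, hu⟩, hl⟩ := exists_fac_list n A hd M e s.toList
    refine ⟨P, f, hP, ?_⟩
    haveI : Epi ((DerivedCategory.homologyFunctor (ModuleCat.{u} (AX S)) 0).map h) := by
      rw [ModuleCat.epi_iff_range_eq_top, eq_top_iff, ← hs, Submodule.span_le]
      exact fun x hx => hl x (Finset.mem_toList.2 hx)
    haveI : Epi (H.map ((tX S).map h)) := by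
      have he := (MorphismProperty.epimorphisms _).arrow_mk_iso_iff (Arrow.isoMk
        (((DerLib.ExactHomology.homologyIso (Scheme.Modules.restrictFunctor S.isoSpec.hom) 0).app
          ((tD (AX S)).obj F)) ≪≫ (Scheme.Modules.restrictFunctor S.isoSpec.hom).mapIso
            ((DerLib.ExactHomology.homologyIso (tilde.functor (CommRingCat.of (AX S))) 0).app F))
        (((DerLib.ExactHomology.homologyIso (Scheme.Modules.restrictFunctor S.isoSpec.hom) 0).app
          ((tD (AX S)).obj M)) ≪≫ (Scheme.Modules.restrictFunctor S.isoSpec.hom).mapIso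
            ((DerLib.ExactHomology.homologyIso (tilde.functor (CommRingCat.of (AX S))) 0).app M))
        (f := Arrow.mk (H.map ((tX S).map h)))
        (g := Arrow.mk ((Scheme.Modules.restrictFunctor S.isoSpec.hom).map ((tilde.functor (CommRingCat.of (AX S))).map
          ((DerivedCategory.homologyFunctor (ModuleCat.{u} (AX S)) 0).map h)))) (by
          simp only [Arrow.mk_hom, Iso.trans_hom, Functor.mapIso_hom, Category.assoc]
          have n1 := (DerLib.ExactHomology.homologyIso (Scheme.Modules.restrictFunctor S.isoSpec.hom) 0).hom.naturality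
            ((tD (AX S)).map h)
          have n2 := (DerLib.ExactHomology.homologyIso (tilde.functor (CommRingCat.of (AX S))) 0).hom.naturality h
          simp only [Functor.comp_map, Iso.app_hom] at n1 n2 ⊢
          rw [← Functor.map_comp, ← n2, Functor.map_comp]
          exact (reassoc_of% n1) _ |>.symm))
      haveI := Functor.preservesEpimorphisms_of_adjunction (tilde.adjunction (R := CommRingCat.of (AX S)))
      haveI := Functor.preservesEpimorphisms_of_adjunction (Scheme.Modules.restrictAdjunction S.isoSpec.hom)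
      refine he.2 ?_
      exact @CategoryTheory.Functor.map_epi _ _ _ _ _ _ _ _ _ (CategoryTheory.Functor.map_epi _ _)
    haveI : Epi (H.map ((tX S).map h ≫ e.hom)) := by
      rw [Functor.map_comp]
      infer_instance
    rw [← hu, Functor.map_comp] at *
    exact epi_of_epi (H.map u) _
  have hmany : ∀ k : ℕ, k ≤ n + 1 → ∃ (P : DCoh.D PP) (f : P ⟶ C),
      Small n A P ∧ ∀ d : ℕ, d < k → Epi (H.map ((G n A d).map f)) := by
    intro k
    induction k with
    | zero => exact fun _ => ⟨0, 0, small_zero n A, fun d hd => by omega⟩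
    | succ k ih =>
      intro hk
      obtain ⟨P, f, hP, hf⟩ := ih (by omega)
      obtain ⟨Q, g, hQ, hg⟩ := hsingle k (by omega)
      refine ⟨P ⊞ Q, biprod.desc f g, small_biprod n A hP hQ, fun d hd => ?_⟩
      rcases Nat.lt_succ_iff_lt_or_eq.1 hd with hd' | rfl
      · haveI := hf d hd'
        haveI : Epi (H.map ((G n A d).map biprod.inl) ≫ H.map ((G n A d).map (biprod.desc f g))) := by
          rw [← Functor.map_comp, ← Functor.map_comp, biprod.inl_desc]
          infer_instance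
        exact epi_of_epi (H.map ((G n A d).map biprod.inl)) _
      · haveI := hg
        haveI : Epi (H.map ((G n A d).map biprod.inr) ≫ H.map ((G n A d).map (biprod.desc f g))) := by
          rw [← Functor.map_comp, ← Functor.map_comp, biprod.inr_desc]
          infer_instance
        exact epi_of_epi (H.map ((G n A d).map biprod.inr)) _
  obtain ⟨P, f, hP, hf⟩ := hmany (n + 1) le_rfl
  obtain ⟨C', g, h, hT⟩ := distinguished_cocone_triangle f
  refine ⟨P, C', f, g, h, hT, hP, fun d hd => ?_⟩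
  let T := (G n A (d : ℤ)).mapTriangle.obj (Triangle.mk f g h)
  have hGT : T ∈ distTriang _ := (G n A (d : ℤ)).map_distinguished _ hT
  rw [DerivedCategory.isLE_iff]
  intro i hi
  haveI : Epi ((DerivedCategory.homologyFunctor S.Modules 0).map T.mor₁) := hf d (by omega)
  have hP1 : IsZero ((DerivedCategory.homologyFunctor S.Modules (i + 1)).obj T.obj₁) := by
    haveI := hP.2 d hd
    exact DerivedCategory.isZero_of_isLE ((G n A (d : ℤ)).obj P) 0 (i + 1) (by omega)
  refine (DerivedCategory.HomologySequence.exact₃ _ hGT i (i + 1) rfl).isZero_of_both_zeros ?_ (hP1.eq_of_tgt _ _)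
  rcases eq_or_lt_of_le (show (0 : ℤ) ≤ i by omega) with rfl | hi'
  · rw [← cancel_epi ((DerivedCategory.homologyFunctor S.Modules 0).map T.mor₁), ← Functor.map_comp,
      comp_distTriang_mor_zero₁₂ _ hGT, Functor.map_zero, comp_zero]
  · haveI := hle d hd
    exact (DerivedCategory.isZero_of_isLE ((G n A (d : ℤ)).obj C) 0 i hi').eq_of_src _ _

theorem twPC_of_isPerfect {P : DCoh.D PP} (hP : DCoh.IsPerfect P) : TwPC n A P := by
  intro d _ m
  obtain ⟨hp, hfl, hl⟩ := projSpace_hyps n A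
  haveI := hp
  haveI := hfl
  haveI := hl
  let L := Twist.twistProjSpace n A (d : ℤ)
  have hL : PicF.IsInvertible L := PicPnLib.twist_inv n A d
  haveI := KFlatLib.hasLTensorMod L
  haveI : Coh.IsQCoh L := TwistLib.isQCoh_of_isInvertible hL
  obtain ⟨e⟩ := nonempty_LTensorMod_iso_TD L
  exact PerfLib.isPC_of_iso ((DCoh.Rpush _).mapIso (e.app P))
    (KiehlLib.isPC_rpush_lTensor (CohB1.ProjSpace.toSpec n A) L
      (CohCmpLib.rank_one_hyps (CohB1.ProjSpace.toSpec n A) ((CohCmpLib.invertible_iff_rank_one L).1 hL)).2.1 (isFlatOver_twist n A d) P (RelFlatLib.isPC_of_isPerfect hP) m)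

theorem isPC_of_twLE : ∀ (k : ℕ) (C : DCoh.D PP), DCoh.IsQCohD C → TwPC n A C → TwLE n A 0 C →
    DCoh.IsPseudoCoherentD (1 - (k : ℤ)) C
  | 0, C, hC, _, hle => by
    haveI := isLE_of_twLE n A hC hle
    exact PerfLib.isPC_of_isZero_above fun i hi => DerivedCategory.isZero_of_isLE C 0 i (by omega)
  | k + 1, C, hC, hpc, hle => by
    obtain ⟨P, C', f, g, h, hT, hP, hle'⟩ := exists_step n A hC hpc hle
    have hPq : DCoh.IsQCohD P := KiehlLib.isQCohD_of_isPC (RelFlatLib.isPC_of_isPerfect hP.1)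
    have hCq : DCoh.IsQCohD C' := KFlatLib.isQCohD₂ (rot_of_distTriang _ hT) hC (KFlatLib.isQCohD_shift hPq 1)
    have hpc' : TwPC n A C' := fun d hd m => PerfLib.isPC_obj₃ _
      ((G n A (d : ℤ)).map_distinguished _ hT) m (twPC_of_isPerfect n A hP.1 d hd _) (hpc d hd m)
    have hle'' : TwLE n A 0 (C'⟦(-1 : ℤ)⟧) := fun d hd => by
      haveI := hle' d hd
      haveI : DerivedCategory.TStructure.t.IsLE
          ((G n A (d : ℤ) ⋙ shiftFunctor (DCoh.D (Spec (CommRingCat.of A))) (-1 : ℤ)).obj C') 0 :=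
        DerivedCategory.TStructure.t.isLE_shift ((G n A (d : ℤ)).obj C') (-1) (-1) 0 (by omega)
      exact DerivedCategory.TStructure.t.isLE_of_iso (((G n A (d : ℤ)).commShiftIso (-1 : ℤ)).app C').symm 0
    have h1 := isPC_of_twLE k (C'⟦(-1 : ℤ)⟧) (KFlatLib.isQCohD_shift hCq (-1))
      (fun d hd m => PerfLib.isPC_of_iso (((G n A (d : ℤ)).commShiftIso (-1 : ℤ)).app C').symm
        (by simpa using PerfLib.isPC_shift (hpc' d hd (m + -1)) (-1))) hle''
    have h2 : DCoh.IsPseudoCoherentD (1 - ((k + 1 : ℕ) : ℤ)) C' := by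
      have h3 := PerfLib.isPC_of_iso ((shiftFunctorCompIsoId (DCoh.D PP) (-1 : ℤ) 1 (by omega)).app C')
        (PerfLib.isPC_shift h1 1)
      rwa [show 1 - (k : ℤ) - 1 = 1 - ((k + 1 : ℕ) : ℤ) by omega] at h3
    exact PerfLib.isPC_obj₂ _ hT _ (RelFlatLib.isPC_of_isPerfect hP.1 _) h2

/-- Pseudo-coherence from the twisted direct images. -/
theorem isPC_of_twPC {C : DCoh.D PP} (hC : DCoh.IsQCohD C) (hpc : TwPC n A C) (m : ℤ) :
    DCoh.IsPseudoCoherentD m C := by
  have hb : ∀ d : ℕ, ∃ b : ℤ, d ≤ n → ((G n A (d : ℤ)).obj C).IsLE b := fun d => by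
    by_cases hd : d ≤ n
    · obtain ⟨b, hb⟩ := KiehlLib.exists_isLE_of_isPC (hpc d hd 0)
      exact ⟨b, fun _ => hb⟩
    · exact ⟨0, fun h => absurd h hd⟩
  choose b hb using hb
  obtain ⟨c, hc⟩ := ((Finset.range (n + 1)).image b).bddAbove
  have hcle : ∀ d : ℕ, d ≤ n → b d ≤ c := fun d hd => hc (Finset.mem_coe.2
    (Finset.mem_image_of_mem b (Finset.mem_range.2 (Nat.lt_succ_of_le hd))))
  have hle : TwLE n A 0 (C⟦c⟧) := fun d hd => by
    haveI := hb d hd
    haveI : ((G n A (d : ℤ)).obj C).IsLE c := DerivedCategory.TStructure.t.isLE_of_le _ (b d) c (hcle d hd)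
    haveI : DerivedCategory.TStructure.t.IsLE
        ((G n A (d : ℤ) ⋙ shiftFunctor (DCoh.D (Spec (CommRingCat.of A))) c).obj C) 0 :=
      DerivedCategory.TStructure.t.isLE_shift ((G n A (d : ℤ)).obj C) c c 0 (by omega)
    exact DerivedCategory.TStructure.t.isLE_of_iso (((G n A (d : ℤ)).commShiftIso c).app C).symm 0
  have hpc' : TwPC n A (C⟦c⟧) := fun d hd j => PerfLib.isPC_of_iso (((G n A (d : ℤ)).commShiftIso c).app C).symm
    (by simpa using PerfLib.isPC_shift (hpc d hd (j + c)) c)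
  have h1 := isPC_of_twLE n A (1 - (m - c)).toNat (C⟦c⟧) (KFlatLib.isQCohD_shift hC c) hpc' hle
  have h2 := PerfLib.isPC_of_iso ((shiftFunctorCompIsoId (DCoh.D PP) c (-c) (by omega)).app C)
    (PerfLib.isPC_shift h1 (-c))
  exact PerfLib.isPC_mono (by omega) h2

end Pn

end Groth.Agent.KoszOrthLib
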