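import Groth.Agent.KoszOrthLib.Glue

/-!
# A single perfect generator with prescribed support
-/

set_option autoImplicit false
set_option linter.style.haveILetI false
set_option backward.isDefEq.respectTransparency false
set_option backward.isDefEq.respectTransparency.types false
set_option maxHeartbeats 1000000

universe u

open CategoryTheory CategoryTheory.Limits AlgebraicGeometry CategoryTheory.Pretriangulated TopologicalSpace
open scoped ZeroObject

attribute [local instance] HasDerivedCategory.standard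

namespace Groth.Agent.KoszOrthLib

variable {X : Scheme.{u}}

/-- `P` generates objects with quasi-coherent cohomology supported in `T`. -/
def Generates (T : Set X) (P : DCoh.D X) : Prop :=
  ∀ E : DCoh.D X, DCoh.IsQCohD E → (∀ i : ℤ, CohB1.support (DCoh.HD E i) ⊆ T) →
    (∀ (n : ℤ) (φ : P⟦n⟧ ⟶ E), φ = 0) → IsZero E

/-- Perfect generators with supports exist. -/
def HasGen (X : Scheme.{u}) : Prop :=
  ∀ T : Set ↥X, IsClosed T → IsRetrocompact Tᶜ →
    ∃ P : DCoh.D X, DCoh.IsPerfect P ∧ (∀ i : ℤ, CohB1.support (DCoh.HD P i) ⊆ T) ∧ Generates T P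

theorem hasGen_empty [IsEmpty X] : HasGen X := fun T _ _ =>
  ⟨0, PerfLib.isPerfect_of_isZero (isZero_zero _), fun _ x => isEmptyElim x, fun E _ _ _ =>
    (DCohRestrLib.isZero_iff_HD E).2 fun i => by
      rw [DCohRestrLib.isZero_iff_support_empty, Set.eq_empty_iff_forall_notMem]
      exact fun x => isEmptyElim x⟩

/-- Maps out of a direct sum vanish on both summands. -/
theorem forall_zero_of_retract {D : Type*} [Category D] [HasShift D ℤ] [Limits.HasZeroMorphisms D]
    {P Q E : D} (i : Q ⟶ P) (r : P ⟶ Q) (hir : i ≫ r = 𝟙 Q) (n : ℤ)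
    (h : ∀ φ : P⟦n⟧ ⟶ E, φ = 0) (φ : Q⟦n⟧ ⟶ E) : φ = 0 := by
  have h1 := h (r⟦n⟧' ≫ φ)
  rw [← Category.id_comp φ, ← CategoryTheory.Functor.map_id, ← hir, Functor.map_comp, Category.assoc, h1,
    comp_zero]

theorem support_obj₁_subset (T : Triangle (DCoh.D X)) (hT : T ∈ distTriang _) {S : Set X} (hS : IsClosed S)
    (h₂ : ∀ i : ℤ, CohB1.support (DCoh.HD T.obj₂ i) ⊆ S)
    (h₃ : ∀ i : ℤ, CohB1.support (DCoh.HD T.obj₃ i) ⊆ S) (i : ℤ) :
    CohB1.support (DCoh.HD T.obj₁ i) ⊆ S := by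
  let V : X.Opens := ⟨Sᶜ, hS.isOpen_compl⟩
  intro x hx
  by_contra hxS
  let R := DCoh.restrictD V.ι
  have hz₂ : IsZero (R.obj T.obj₂) := isZero_restrictD_of_support V h₂ fun y hy => hy
  have hz₃ : IsZero (R.obj T.obj₃) := isZero_restrictD_of_support V h₃ fun y hy => hy
  have hz₁ : IsZero (R.obj T.obj₁) :=
    ((R.mapTriangle.obj T).isZero₁_iff_isIso₂ (R.map_distinguished T hT)).2
      ⟨0, hz₂.eq_of_src _ _, hz₃.eq_of_src _ _⟩
  exact (DCohRestrLib.isZero_restrictD_iff V _).1 hz₁ i x hxS hx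

/-- From `U` to `U ∪ V`, `V` affine. -/
theorem hasGen_step [QuasiSeparatedSpace ↥X] (U V : X.Opens) (hU : IsCompact (U : Set X)) (hV : IsAffineOpen V)
    (hUV : IsCompact ((U ⊓ V : X.Opens) : Set X)) (hcov : U ⊔ V = ⊤)
    (hGU : HasGen (U : Scheme.{u})) : HasGen X := by
  intro T hT hTr
  haveI : IsAffine (V : Scheme.{u}) := hV
  haveI : CompactSpace (U : Scheme.{u}) := isCompact_iff_compactSpace.mp hU
  haveI : QuasiCompact U.ι := quasiCompact_of_compactSpace _
  haveI := DCohRestrLib.hasRpush U.ι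
  have hTU : IsRetrocompact ((fun v : (U : Scheme.{u}) => U.ι v) ⁻¹' T)ᶜ := by
    intro O hOc hOo
    rw [U.ι.isOpenEmbedding.isEmbedding.isCompact_iff]
    have h2 : (fun v : (U : Scheme.{u}) => U.ι v) '' (((fun v : (U : Scheme.{u}) => U.ι v) ⁻¹' T)ᶜ ∩ O) =
        Tᶜ ∩ ((fun v : (U : Scheme.{u}) => U.ι v) '' O) := by
      ext x
      constructor
      · rintro ⟨v, ⟨hv, hvO⟩, rfl⟩
        exact ⟨hv, v, hvO, rfl⟩
      · rintro ⟨hx, v, hv, rfl⟩
        exact ⟨v, ⟨hx, hv⟩, rfl⟩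
    exact h2 ▸ hTr (hOc.image U.ι.continuous) (U.ι.isOpenEmbedding.isOpenMap O hOo)
  obtain ⟨PU, hPU, hPUT, hgen⟩ := hGU _ (hT.preimage U.ι.continuous) hTU
  have hTV : IsCompact ((V : Set X) ∩ Tᶜ) := by
    rw [Set.inter_comm]
    exact hTr hV.isCompact V.isOpen
  let S : Set X := T ∩ (U : Set X)ᶜ
  have hS : IsClosed S := hT.inter U.isOpen.isClosed_compl
  have hSV : S ⊆ (V : Set X) := fun x hx => by
    have : x ∈ U ⊔ V := by rw [hcov]; trivial
    exact this.resolve_left hx.2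
  have hSc : IsCompact ((fun v : (V : Scheme.{u}) => V.ι v) ⁻¹' S)ᶜ := by
    refine isCompact_preimage_ι V Sᶜ ?_
    rw [Set.compl_inter, compl_compl, Set.inter_union_distrib_left]
    exact hTV.union (by rwa [Set.inter_comm])
  obtain ⟨l, hl⟩ := exists_list_zeroLocus (hS.preimage V.ι.continuous) hSc
  let K₀ := (tX (V : Scheme.{u})).obj (kA l)
  let K := (CxOX.extZeroD V.ι).obj K₀
  have hK₀ : ∀ i : ℤ, CohB1.support (DCoh.HD K₀ i) ⊆ {v : ↥(V : Scheme.{u}) | V.ι.base v ∈ S} := fun i v hv => by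
    have h1 := (torsAll_iff_support l (kA l)).1 (fun f hf => torsH_koszul f l hf) i hv
    rw [← hl] at h1
    exact h1
  have hKS : ∀ i : ℤ, CohB1.support (DCoh.HD K i) ⊆ S := support_extZeroD_subset V K₀ hK₀
  have hKp : DCoh.IsPerfect K := isPerfect_extZeroD V hS hSV K₀ (isPerfect_tX (isPerfect_kA l)) hK₀
  obtain ⟨R, -, e, hR, hRT, -⟩ := exists_extend_map U V hV hUV hcov hT hTV hPU hPUT
    ((DCoh.Rpush U.ι).obj PU) (QRlimLib.isQCohD_rpush U.ι (isQCohD_of_isPerfect hPU)) 0 0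
  refine ⟨R ⊞ K, isPerfect_biprod hR hKp, support_biprod_subset hT hRT
    (fun i => (hKS i).trans Set.inter_subset_left), fun E hE hET h => ?_⟩
  have hhR : ∀ (n : ℤ) (φ : R⟦n⟧ ⟶ E), φ = 0 := fun n =>
    forall_zero_of_retract biprod.inl biprod.fst biprod.inl_fst n (h n)
  have hhK : ∀ (n : ℤ) (φ : K⟦n⟧ ⟶ E), φ = 0 := fun n =>
    forall_zero_of_retract biprod.inr biprod.snd biprod.inr_snd n (h n)
  let adj := restrictRpushAdj U.ι
  obtain ⟨L, ι, d, hL⟩ := distinguished_cocone_triangle₁ (adj.unit.app E)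
  have hLU : IsZero ((DCoh.restrictD U.ι).obj L) := by
    haveI := isIso_restrictD_unit U.ι adj E
    exact (((DCoh.restrictD U.ι).mapTriangle.obj (Triangle.mk ι (adj.unit.app E) d)).isZero₁_iff_isIso₂
      ((DCoh.restrictD U.ι).map_distinguished _ hL)).2 ‹_›
  have hpushT : ∀ i : ℤ, CohB1.support (DCoh.HD ((DCoh.Rpush U.ι).obj ((DCoh.restrictD U.ι).obj E)) i) ⊆ T := by
    intro i x hx
    by_contra hxT
    let O : X.Opens := ⟨Tᶜ, hT.isOpen_compl⟩
    haveI := DCohRestrLib.hasRpush (U.ι ∣_ O)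
    obtain ⟨c⟩ := DCohRestrLib.nonempty_restrictD_Rpush U.ι O
    let F := (DCoh.restrictD U.ι).obj E
    have hF : IsZero ((DCoh.restrictD (U.ι ⁻¹ᵁ O).ι).obj F) :=
      (DCohRestrLib.isZero_restrictD_iff (U.ι ⁻¹ᵁ O) F).2 fun j v hv hs => by
        have hs' : v ∈ CohB1.support (DCoh.HD ((DCoh.restrictD U.ι).obj E) j) := hs
        rw [DCohRestrLib.support_HD_restrictD] at hs'
        exact (show v ∈ U.ι ⁻¹ᵁ O from hv) (hET j hs')
    have hz : IsZero ((DCoh.restrictD O.ι).obj ((DCoh.Rpush U.ι).obj F)) :=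
      (DCohRestrLib.isZero_Rpush (U.ι ∣_ O) hF).of_iso (c.app F)
    have hnot := (DCohRestrLib.isZero_restrictD_iff O ((DCoh.Rpush U.ι).obj ((DCoh.restrictD U.ι).obj E))).1 hz i x hxT
    exact hnot hx
  have hLS : ∀ i : ℤ, CohB1.support (DCoh.HD L i) ⊆ S := fun i x hx =>
    ⟨support_obj₁_subset (Triangle.mk ι (adj.unit.app E) d) hL hT hET hpushT i hx,
      fun hxU => (DCohRestrLib.isZero_restrictD_iff U L).1 hLU i x hxU hx⟩
  have hLq : DCoh.IsQCohD L := KFlatLib.isQCohD₂ (inv_rot_of_distTriang _ hL)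
    (KFlatLib.isQCohD_shift (QRlimLib.isQCohD_rpush U.ι (isQCohD_restrictD U.ι hE)) (-1)) hE
  have hKU : IsZero ((DCoh.restrictD U.ι).obj K) :=
    isZero_restrictD_of_support U hKS fun x hx hx' => hx'.2 hx
  have hKpush : ∀ (F : DCoh.D (U : Scheme.{u})) (k n : ℤ) (φ : K⟦n⟧ ⟶ ((DCoh.Rpush U.ι).obj F)⟦k⟧), φ = 0 := by
    intro F k n φ
    refine (forall_shift_iff (K⟦n⟧) ((DCoh.Rpush U.ι).obj F) (-k) k (by omega)).1 (fun ψ => ?_) φ
    have hz : IsZero ((DCoh.restrictD U.ι).obj ((K⟦n⟧)⟦-k⟧)) :=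
      ((shiftFunctor _ (-k)).map_isZero (((shiftFunctor _ n).map_isZero hKU).of_iso
        (((DCoh.restrictD U.ι).commShiftIso n).app _))).of_iso
        (((DCoh.restrictD U.ι).commShiftIso (-k)).app _)
    exact (adj.homEquiv _ _).symm.injective (hz.eq_of_src _ _)
  have hhL : ∀ (n : ℤ) (φ : K⟦n⟧ ⟶ L), φ = 0 := fun n φ => by
    obtain ⟨ψ, hψ⟩ := Triangle.coyoneda_exact₂ _ (inv_rot_of_distTriang _ hL) φ (hhK n _)
    rw [hψ, hKpush _ (-1) n ψ]
    exact zero_comp
  obtain ⟨M, ⟨eM⟩⟩ := exists_tX_iso (isQCohD_restrictD V.ι hLq)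
  haveI : PreservesFiniteLimits (CxOX.extZero V.ι) := PerfCompLib.preservesFiniteLimits_extZero V
  have hM : TorsAll l M := (torsAll_iff_support l M).2 fun i v hv => by
    rw [← hl]
    have h1 : v ∈ CohB1.support (DCoh.HD ((DCoh.restrictD V.ι).obj L) i) := fun h' => hv
      ((DCohRestrLib.subsingleton_stalk_of_iso ((DerivedCategory.homologyFunctor _ i).mapIso eM) v).2 h')
    rw [DCohRestrLib.support_HD_restrictD] at h1
    exact hLS i h1
  have horth : ∀ n : ℤ, Orth l M n := fun n => by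
    refine (forall_shift_iff (kA l) M (-n) n (by omega)).1 fun ψ => ?_
    apply (tX (V : Scheme.{u})).map_injective
    let c := ((tX (V : Scheme.{u})).commShiftIso (-n)).app (kA l)
    rw [Functor.map_zero, ← cancel_epi c.inv, ← cancel_mono eM.hom, comp_zero, zero_comp]
    let c' := ((CxOX.extZeroD V.ι).commShiftIso (-n)).app K₀
    apply ((DCohRestrLib.adjD V).homEquiv _ L).symm.injective
    rw [← cancel_epi c'.inv]
    exact (hhL (-n) _).trans (hhL (-n) _).symm
  have hLV : IsZero ((DCoh.restrictD V.ι).obj L) :=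
    ((DCohRestrLib.isZero_iff_HD _).2 fun i => (isZero_HD_tX_iff i M).2
      (isZero_homology_of_orth l hM i (horth i))).of_iso eM.symm
  have hL0 : IsZero L := (DCohRestrLib.isZero_iff_HD L).2 fun i => by
    rw [DCohRestrLib.isZero_iff_support_empty, Set.eq_empty_iff_forall_notMem]
    exact fun x hx => (DCohRestrLib.isZero_restrictD_iff V L).1 hLV i x (hSV (hLS i hx)) hx
  haveI : IsIso (adj.unit.app E) := ((Triangle.mk ι (adj.unit.app E) d).isZero₁_iff_isIso₂ hL).1 hL0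
  have hEU : IsZero ((DCoh.restrictD U.ι).obj E) := by
    refine hgen _ (isQCohD_restrictD U.ι hE) (fun i v hv => by
      rw [DCohRestrLib.support_HD_restrictD] at hv
      exact hET i hv) fun n => ?_
    refine forall_zero_of_retract (biprod.inl ≫ e.inv) (e.hom ≫ biprod.fst)
      (by rw [Category.assoc, Iso.inv_hom_id_assoc, biprod.inl_fst]) n fun φ => ?_
    let c := ((DCoh.restrictD U.ι).commShiftIso n).app R
    rw [← cancel_epi c.hom, comp_zero]
    apply (adj.homEquiv _ _).injective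
    rw [← cancel_mono (inv (adj.unit.app E))]
    exact (hhR n _).trans (hhR n _).symm
  exact (DCohRestrLib.isZero_Rpush U.ι hEU).of_iso (asIso (adj.unit.app E))

/-- Perfect generators with supports on qcqs schemes. -/
theorem hasGen_of_qcqs (X : Scheme.{u}) [CompactSpace ↥X] [QuasiSeparatedSpace ↥X] : HasGen X := by
  suffices h : ∀ (W : X.Opens), IsCompact (W : Set X) →
      ∀ (Y : Scheme.{u}) (j : Y ⟶ X) [IsOpenImmersion j], Set.range j = (W : Set X) → HasGen Y from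
    h ⊤ isCompact_univ X (𝟙 X) (by simp)
  intro W hW
  refine compact_open_induction_on
    (P := fun W => ∀ (Y : Scheme.{u}) (j : Y ⟶ X) [IsOpenImmersion j],
      Set.range j = (W : Set X) → HasGen Y) W hW ?_ ?_
  · intro Y j _ hj
    haveI : IsEmpty Y := ⟨fun y => by simpa [hj] using Set.mem_range_self (f := j) y⟩
    exact hasGen_empty
  · intro W hW U ih Y j _ hj
    haveI : QuasiSeparatedSpace ↥Y := quasiSeparatedSpace_of_quasiSeparated j
    have him : ∀ O : X.Opens, (O : Set X) ⊆ Set.range j →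
        (fun y : Y => j y) '' ((j ⁻¹ᵁ O : Y.Opens) : Set Y) = (O : Set X) := fun O hO => by
      rw [Scheme.Hom.coe_preimage]
      exact Set.image_preimage_eq_iff.2 hO
    have hle : ∀ O : X.Opens, O ≤ W ⊔ U.1 → (O : Set X) ⊆ Set.range j := fun O hO => by
      rw [hj]
      exact hO
    refine hasGen_step (j ⁻¹ᵁ W) (j ⁻¹ᵁ U.1) ?_ ?_ ?_ ?_ (ih _ ((j ⁻¹ᵁ W).ι ≫ j) ?_)
    · rw [j.isOpenEmbedding.isEmbedding.isCompact_iff, him W (hle W le_sup_left)]
      exact hW
    · exact U.2.preimage_of_isOpenImmersion j (fun x hx => hle U.1 le_sup_right hx)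
    · rw [j.isOpenEmbedding.isEmbedding.isCompact_iff, ← Scheme.Hom.preimage_inf,
        him (W ⊓ U.1) (hle _ (inf_le_left.trans le_sup_left))]
      exact hW.inter_of_isOpen U.2.isCompact W.isOpen U.1.isOpen
    · rw [← Scheme.Hom.preimage_sup, eq_top_iff]
      intro y _
      change j y ∈ (W ⊔ U.1 : X.Opens)
      exact (hj ▸ Set.mem_range_self (f := j) y :)
    · change Set.range ((fun y : Y => j y) ∘ (j ⁻¹ᵁ W).ι) = _
      rw [Set.range_comp, Scheme.Opens.range_ι, him W (hle W le_sup_left)]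

end Groth.Agent.KoszOrthLib
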