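import Groth.Agent.KoszOrthLib.Tower
import Groth.Agent.KoszOrthLib.Gen
import Groth.Agent.PerfHomLib.Van
import Groth.Agent.PerfCompLib.Final
import Groth.Agent.KFlatLib.HomologyCoprod
import Groth.Agent.DerLib.SmallDerived
import Groth.Agent.S0924
import Groth.Prelude.Def_PerfAux

/-!
# Compact objects with quasi-coherent cohomology are the perfect ones
-/

set_option autoImplicit false
set_option linter.style.haveILetI false
set_option backward.isDefEq.respectTransparency false
set_option backward.isDefEq.respectTransparency.types false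
set_option maxHeartbeats 1000000

universe u

open CategoryTheory CategoryTheory.Limits AlgebraicGeometry CategoryTheory.Pretriangulated TopologicalSpace
open scoped ZeroObject
open PerfCompLib (FinFac cut proj)

attribute [local instance] HasDerivedCategory.standard

namespace Groth.Agent.KoszOrthLib

variable {X : Scheme.{u}}

theorem hasCoproducts_D (X : Scheme.{u}) : HasCoproducts.{u} (DCoh.D X) := fun J => ⟨fun F => by
  let P := fun j : J => DerivedCategory.Q.objPreimage (F.obj ⟨j⟩)
  exact ⟨⟨⟨_, (IsColimit.precomposeInvEquiv (Discrete.natIso fun i =>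
    DerivedCategory.Q.objObjPreimageIso (F.obj i) : Discrete.functor (fun j => DerivedCategory.Q.obj (P j)) ≅ F)
      _).symm (KFlatLib.isColimit_Q_sigma P).some⟩⟩⟩⟩

/-- Reindexing along `ULift` preserves factoring through finite subfamilies. -/
theorem finFac_of_ulift {D : Type*} [Category D] [Preadditive D] {K : D} {I : Type u} (M : I → D)
    [HasCoproduct M] [HasCoproduct fun i : ULift.{u + 1} I => M i.down]
    (h : FinFac (fun i : ULift.{u + 1} I => M i.down) K) : FinFac M K := by
  classical
  intro f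
  let M' := fun i : ULift.{u + 1} I => M i.down
  let a : ∐ M ⟶ ∐ M' := Sigma.desc fun i => Sigma.ι M' ⟨i⟩
  let b : ∐ M' ⟶ ∐ M := Sigma.desc fun i => Sigma.ι M i.down
  have hab : a ≫ b = 𝟙 _ := Sigma.hom_ext _ _ fun i => by simp [a, b, M']
  obtain ⟨S, hS⟩ := h (f ≫ a)
  refine ⟨S.image ULift.down, ?_⟩
  have hc : cut M (S.image ULift.down) = a ≫ cut M' S ≫ b := Sigma.hom_ext _ _ fun i => by
    have hi : i ∈ S.image ULift.down ↔ (⟨i⟩ : ULift.{u + 1} I) ∈ S := by
      refine ⟨fun h => ?_, fun h => Finset.mem_image_of_mem _ h⟩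
      obtain ⟨⟨j⟩, hj, rfl⟩ := Finset.mem_image.1 h
      exact hj
    rw [PerfCompLib.ι_cut, Sigma.ι_desc_assoc, ← Category.assoc, PerfCompLib.ι_cut]
    by_cases h : (⟨i⟩ : ULift.{u + 1} I) ∈ S
    · rw [if_pos (hi.2 h), if_pos h]
      simp [b, M']
    · rw [if_neg fun hh => h (hi.1 hh), if_neg h, zero_comp]
  have h2 : f ≫ (a ≫ cut M' S ≫ b) = (f ≫ a ≫ b) :=
    (by simp only [Category.assoc] : f ≫ (a ≫ cut M' S ≫ b) = ((f ≫ a) ≫ cut M' S) ≫ b).trans
      ((congrArg (· ≫ b) hS).trans (Category.assoc _ _ _))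
  rw [hc, h2, hab, Category.comp_id]

theorem bijective_of_finFac' {D : Type*} [Category D] [Preadditive D] {ι : Type u} {M : ι → D}
    [HasCoproduct M] {C : D} (hC : FinFac M C) :
    Function.Bijective (PerfAux.homSumToHomCoprod C M) := by
  classical
  have hof : ∀ (j : ι) (a : C ⟶ M j),
      PerfAux.homSumToHomCoprod C M (DirectSum.of _ j a) = a ≫ Sigma.ι M j := fun j a => by
    simp [PerfAux.homSumToHomCoprod, Preadditive.rightComp]
  refine ⟨?_, fun f => ?_⟩
  · have key : ∀ (x : DirectSum ι (fun i => C ⟶ M i)) (k : ι),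
        PerfAux.homSumToHomCoprod C M x ≫ proj M k = x k := by
      intro x k
      induction x using DirectSum.induction_on with
      | zero => simp
      | of j a =>
        rw [hof, Category.assoc]
        rcases eq_or_ne j k with rfl | hjk
        · simp [proj]
        · simp [proj, hjk, DirectSum.of_eq_of_ne _ _ _ (Ne.symm hjk)]
      | add x y hx hy => rw [map_add, Preadditive.add_comp, hx, hy, DirectSum.add_apply]
    intro x y h
    exact DFunLike.ext _ _ fun k => by rw [← key x k, ← key y k, h]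
  · obtain ⟨S, hS⟩ := hC f
    refine ⟨∑ k ∈ S, DirectSum.of _ k (f ≫ proj M k), ?_⟩
    rw [map_sum]
    conv_rhs => rw [← hS, PerfCompLib.cut_eq_sum, Preadditive.comp_sum]
    exact Finset.sum_congr rfl fun k _ => (hof k _).trans (Category.assoc _ _ _)

theorem finFac_of_surjective {D : Type*} [Category D] [Preadditive D] {ι : Type u} {M : ι → D}
    [HasCoproduct M] {C : D} (hC : Function.Surjective (PerfAux.homSumToHomCoprod C M)) : FinFac M C := by
  classical
  intro f
  obtain ⟨x, rfl⟩ := hC f
  induction x using DirectSum.induction_on with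
  | zero => exact ⟨∅, by simp⟩
  | of j a =>
    refine ⟨{j}, ?_⟩
    simp [PerfAux.homSumToHomCoprod, Preadditive.rightComp, PerfCompLib.ι_cut]
  | add x y hx hy =>
    obtain ⟨S, hS⟩ := hx
    obtain ⟨T, hT⟩ := hy
    refine ⟨S ∪ T, ?_⟩
    rw [map_add, Preadditive.add_comp, PerfCompLib.comp_cut_of_subset hS Finset.subset_union_left,
      PerfCompLib.comp_cut_of_subset hT Finset.subset_union_right]

/-- Compactness against arbitrary families, with quasi-coherent cohomology. -/
theorem finFac_ulift_of_isQCohD [CompactSpace X] [QuasiSeparatedSpace X] {K : DCoh.D X}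
    (hK : DCoh.IsPerfect K) (I : Type u) (M : I → DCoh.D X) (hM : ∀ i, DCoh.IsQCohD (M i))
    [HasCoproduct M] [HasCoproduct fun i : ULift.{u + 1} I => M i.down] :
    FinFac (fun i : ULift.{u + 1} I => M i.down) K := by
  classical
  obtain ⟨lo, hi, -, hvan⟩ := PerfHomLib.exists_van_of_isPerfect hK
  let N₀ := lo - 1
  let N := N₀ + 1
  let P := fun i => DerivedCategory.Q.objPreimage (M i)
  let e := fun i => DerivedCategory.Q.objObjPreimageIso (M i)
  let P' := fun i => (P i).truncGE N
  let M' := fun i => DerivedCategory.Q.obj (P' i)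
  let hU : IsColimit (Cofan.mk (DerivedCategory.Q.obj (∐ P'))
      (fun i : ULift.{u + 1} I => DerivedCategory.Q.map (Sigma.ι P' i.down)) :
        Cofan fun i : ULift.{u + 1} I => M' i.down) :=
    PerfCompLib.isColimitULift (Cofan.mk _ fun j => DerivedCategory.Q.map (Sigma.ι P' j))
      (KFlatLib.isColimit_Q_sigma P').some
  haveI hM' : HasCoproduct fun i : ULift.{u + 1} I => M' i.down := ⟨⟨⟨_, hU⟩⟩⟩
  obtain ⟨E, hE⟩ := PerfCompLib.exists_sigma_iso P M e
  obtain ⟨E', hE'⟩ := PerfCompLib.exists_sigma_iso P' M' fun i => Iso.refl _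
  let τ := Limits.Sigma.map fun i => (P i).πTruncGE N
  let q := E.inv ≫ DerivedCategory.Q.map τ ≫ E'.hom
  have hq : ∀ i : ULift.{u + 1} I, Sigma.ι (fun i : ULift.{u + 1} I => M i.down) i ≫ q =
      ((e i.down).inv ≫ DerivedCategory.Q.map ((P i.down).πTruncGE N)) ≫
        Sigma.ι (fun i : ULift.{u + 1} I => M' i.down) i := fun i => by
    have h : Sigma.ι (fun i : ULift.{u + 1} I => M i.down) i ≫ E.inv =
        (e i.down).inv ≫ DerivedCategory.Q.map (Sigma.ι P i.down) := by
      rw [Iso.comp_inv_eq, Category.assoc, hE, Iso.inv_hom_id_assoc]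
    rw [reassoc_of% h, ← Functor.map_comp_assoc, Sigma.ι_map, Functor.map_comp, Category.assoc, hE']
    simp [Category.assoc]
  haveI : HasFiniteBiproducts X.Modules := Abelian.hasFiniteBiproducts
  haveI : AB4OfSize.{u} X.Modules := AB4.of_AB5 X.Modules
  have hiso : ∀ j, N ≤ j → IsIso ((DerivedCategory.homologyFunctor X.Modules j).map q) := fun j hj => by
    haveI : IsIso (HomologicalComplex.homologyMap τ j) :=
      FiltSectLib.isIso_homologyMap_colimit (coproductIsCoproduct P) (coproductIsCoproduct P')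
        (Discrete.natTrans fun i => (P i.as).πTruncGE N) τ (fun i => Sigma.ι_map _ i.as) j fun i =>
        (quasiIsoAt_iff_isIso_homologyMap _ _).1 ((P i.as).quasiIsoAt_πTruncGE N j hj)
    haveI : IsIso ((DerivedCategory.homologyFunctor X.Modules j).map (DerivedCategory.Q.map τ)) :=
      (NatIso.isIso_map_iff (DerivedCategory.homologyFunctorFactors X.Modules j) τ).2 this
    simp only [q, Functor.map_comp]
    infer_instance
  obtain ⟨Z, u', δ, hT⟩ := distinguished_cocone_triangle₁ q
  have hzero : ∀ j, j < N → IsZero ((DerivedCategory.homologyFunctor X.Modules j).obj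
      (∐ fun i : ULift.{u + 1} I => M' i.down)) := fun j hj => by
    refine IsZero.of_iso ?_ (((DerivedCategory.homologyFunctor X.Modules j).mapIso E'.symm) ≪≫
      (DerivedCategory.homologyFunctorFactors X.Modules j).app (∐ P'))
    change IsZero ((∐ P').homology j)
    rw [IsZero.iff_id_eq_zero]
    refine (Groth.Agent.FreeResLib.isColimitHomology _ (coproductIsCoproduct P') j).hom_ext fun i => ?_
    exact (CochainComplex.isZero_of_isGE (P' i.as) N j hj).eq_of_src _ _
  have hZ : Z.IsLE N₀ := by
    rw [DerivedCategory.isLE_iff]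
    intro j hj
    refine (DerivedCategory.HomologySequence.exact₁ _ hT (j - 1) j (by omega)).isZero_of_both_zeros ?_ ?_
    · by_cases hj' : j = N
      · exact (hzero (j - 1) (by omega)).eq_of_src _ _
      · haveI := hiso (j - 1) (by omega)
        exact (cancel_epi ((DerivedCategory.homologyFunctor X.Modules (j - 1)).map q)).1
          ((DerivedCategory.HomologySequence.comp_δ _ hT (j - 1) j (by omega)).trans comp_zero.symm)
    · haveI := hiso j (by omega)
      refine (cancel_mono ((DerivedCategory.homologyFunctor X.Modules j).map q)).1 ?_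
      refine Eq.trans ?_ zero_comp.symm
      exact ((DerivedCategory.homologyFunctor X.Modules j).map_comp _ _).symm.trans
        ((congrArg _ (comp_distTriang_mor_zero₁₂ _ hT)).trans (Functor.map_zero _ _ _))
  have hqM : DCoh.IsQCohD (∐ fun i : ULift.{u + 1} I => M i.down) := fun j =>
    let eU : ∐ M ≅ ∐ fun i : ULift.{u + 1} I => M i.down :=
      (PerfCompLib.isColimitULift (Cofan.mk (∐ M) (Sigma.ι M)) (coproductIsCoproduct M)).coconePointUniqueUpToIso
        (coproductIsCoproduct fun i : ULift.{u + 1} I => M i.down)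
    @QCohLib.isQCoh_of_iso _ _ _ ((DerivedCategory.homologyFunctor X.Modules j).mapIso eU)
      (KFlatLib.isQCohD_coproduct M hM j)
  have hZq : DCoh.IsQCohD Z := fun j => by
    by_cases hj : j ≤ N₀
    · haveI : Mono ((DerivedCategory.homologyFunctor X.Modules j).map u') :=
        (DerivedCategory.HomologySequence.exact₁ _ hT (j - 1) j (by omega)).mono_g
          ((hzero (j - 1) (by omega)).eq_of_src _ _)
      haveI : Epi ((DerivedCategory.homologyFunctor X.Modules j).map u') :=
        (DerivedCategory.HomologySequence.exact₂ _ hT j).epi_f ((hzero j (by omega)).eq_of_tgt _ _)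
      haveI : IsIso ((DerivedCategory.homologyFunctor X.Modules j).map u') := isIso_of_mono_of_epi _
      exact @QCohLib.isQCoh_of_iso _ _ _
        (asIso ((DerivedCategory.homologyFunctor X.Modules j).map u')).symm (hqM j)
    · exact KFlatLib.isQCoh_zero (DerivedCategory.isZero_of_isLE Z N₀ j (by omega))
  intro f
  obtain ⟨S, hS⟩ := PerfCompLib.good_of_isPerfect hK I M' N (fun i => (DerivedCategory.isGE_Q_obj_iff (P' i) N).2
    inferInstance) (f ≫ q)
  have hcut : cut (fun i : ULift.{u + 1} I => M i.down) S ≫ q =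
      q ≫ cut (fun i : ULift.{u + 1} I => M' i.down) S := by
    refine Sigma.hom_ext _ _ fun i => ?_
    refine (Category.assoc _ _ _).symm.trans ?_
    rw [PerfCompLib.ι_cut, reassoc_of% (hq i), PerfCompLib.ι_cut]
    split_ifs with hi
    · exact (hq i).trans (Category.assoc _ _ _)
    · simp
  obtain ⟨h, hh⟩ := Triangle.coyoneda_exact₂ _ hT
    (f ≫ cut (fun i : ULift.{u + 1} I => M i.down) S - f) (by
      change (f ≫ cut _ S - f) ≫ q = 0
      rw [Preadditive.sub_comp, Category.assoc, hcut, ← Category.assoc, hS, sub_self])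
  refine ⟨S, sub_eq_zero.1 (hh.trans ?_)⟩
  exact (congrArg (· ≫ _) (hvan Z hZq (fun j hj _ => DerivedCategory.isZero_of_isLE Z N₀ j (by omega)) h)).trans zero_comp

theorem finFac_of_isQCohD [CompactSpace X] [QuasiSeparatedSpace X] {K : DCoh.D X} (hK : DCoh.IsPerfect K)
    {I : Type u} (M : I → DCoh.D X) [HasCoproduct M] (hM : ∀ i, DCoh.IsQCohD (M i)) : FinFac M K :=
  haveI : HasCoproduct fun i : ULift.{u + 1} I => M i.down :=
    ⟨⟨⟨_, PerfCompLib.isColimitULift (Cofan.mk (∐ M) (Sigma.ι M)) (coproductIsCoproduct M)⟩⟩⟩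
  finFac_of_ulift M (finFac_ulift_of_isQCohD hK I M hM)

/-- Functors preserving sums send sums of objects killed by them to zero. -/
theorem isZero_map_sigma {C D : Type*} [Category C] [Category D] [HasZeroMorphisms D] (F : C ⥤ D)
    {ι : Type u} (M : ι → C) [HasCoproduct M] [PreservesColimit (Discrete.functor M) F]
    (h : ∀ i, IsZero (F.obj (M i))) : IsZero (F.obj (∐ M)) := by
  rw [IsZero.iff_id_eq_zero]
  exact (isColimitOfPreserves F (coproductIsCoproduct M)).hom_ext fun i => (h i.as).eq_of_src _ _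

theorem isPerfect_of_retract {K M : DCoh.D X} (r : Retract K M) (h : DCoh.IsPerfect M) :
    DCoh.IsPerfect K := by
  obtain ⟨L, p, δ, hT⟩ := distinguished_cocone_triangle r.i
  haveI : Mono (Triangle.mk r.i p δ).mor₁ := inferInstanceAs (Mono r.i)
  obtain ⟨e, -, -⟩ := exists_iso_binaryBiproduct_of_distTriang _ hT
    (Triangle.mor₃_eq_zero_of_mono₁ _ hT ‹_›)
  exact (Groth.Agent.S0924.result K L (PerfLib.isPerfect_of_iso e h)).1

/-- Perfect objects form a thick subcategory. -/
def perfP (X : Scheme.{u}) : ObjectProperty (DCoh.D X) := fun K => DCoh.IsPerfect K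

instance : (perfP X).IsClosedUnderIsomorphisms := ⟨fun e h => PerfLib.isPerfect_of_iso e h⟩

instance : (perfP X).IsStableUnderRetracts := ⟨fun r h => isPerfect_of_retract r h⟩

instance : (perfP X).IsTriangulated where
  exists_zero := ⟨(0 : _), isZero_zero _, PerfLib.isPerfect_of_isZero (isZero_zero _)⟩
  isStableUnderShiftBy n := ⟨fun _ h => PerfLib.isPerfect_shift h n⟩
  ext₂' T hT h₁ h₃ := ObjectProperty.le_isoClosure _ _ (PerfLib.isPerfect_obj₂ T hT h₁ h₃)

/-- Quasi-coherent cohomology with support in `T`. -/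
def QS (T : Set X) (L : DCoh.D X) : Prop :=
  DCoh.IsQCohD L ∧ ∀ i : ℤ, CohB1.support (DCoh.HD L i) ⊆ T

theorem QS.sum [HasCoproducts.{u} (DCoh.D X)] {T : Set X} (hT : IsClosed T) {ι : Type u}
    (M : ι → DCoh.D X) (hM : ∀ i, QS T (M i)) : QS T (∐ M) := by
  refine ⟨KFlatLib.isQCohD_coproduct M fun i => (hM i).1, fun i x hx => ?_⟩
  by_contra hxT
  let V : X.Opens := ⟨Tᶜ, hT.isOpen_compl⟩
  haveI := DCohRestrLib.hasRpush V.ι
  haveI : PreservesColimitsOfSize.{u, u} (DCoh.restrictD V.ι) := (restrictRpushAdj V.ι).leftAdjoint_preservesColimits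
  exact (DCohRestrLib.isZero_restrictD_iff V _).1 (isZero_map_sigma (DCoh.restrictD V.ι) M
    fun j => isZero_restrictD_of_support V (hM j).2 fun y hy => hy) i x hxT hx

variable [CompactSpace X] [QuasiSeparatedSpace X]

/-- Compact objects relative to a closed support are the perfect ones. -/
theorem isCompactObjRel_iff {T : Set X} (hT : IsClosed T) (hTr : IsRetrocompact Tᶜ) {K : DCoh.D X}
    (hK : QS T K) : PerfAux.IsCompactObjRel.{u} (QS T) K ↔ DCoh.IsPerfect K := by
  haveI := hasCoproducts_D X
  refine ⟨fun hc => ?_, fun hp ι M _ hM =>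
    bijective_of_finFac' (finFac_of_isQCohD hp M fun i => (hM i).1)⟩
  obtain ⟨G, hG, hGT, hgen⟩ := hasGen_of_qcqs X T hT hTr
  haveI : LocallySmall.{u} (DCoh.D X) := Groth.Agent.DerLib.SmallDerived.locallySmall.{u + 1} X.Modules
  exact prop_of_generator (P := QS T) (fun ι M hM => QS.sum hT M hM)
    (fun L n hL => ⟨KFlatLib.isQCohD_shift hL.1 n, support_shift_subset hL.2 n⟩)
    (fun S hS h₁ h₂ => ⟨KFlatLib.isQCohD₂ (rot_of_distTriang _ hS) h₂.1 (KFlatLib.isQCohD_shift h₁.1 1),
      support_obj₃_subset S hS hT h₁.2 h₂.2⟩)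
    (G := G) ⟨isQCohD_of_isPerfect hG, hGT⟩ (fun ι M hM => finFac_of_isQCohD hG M fun i => (hM i).1)
    (fun n L _ => inferInstance) (fun L hL h => hgen L hL.1 hL.2 h) (perfP X) hG hK
    (fun ι M hM => finFac_of_surjective (hc ι M hM).2)

end Groth.Agent.KoszOrthLib
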