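import Groth.Agent.KoszOrthLib.Step

/-!
# Approximation by perfect complexes on quasi-compact quasi-separated schemes
-/

set_option autoImplicit false
set_option linter.style.haveILetI false
set_option backward.isDefEq.respectTransparency false
set_option backward.isDefEq.respectTransparency.types false

universe u

open CategoryTheory CategoryTheory.Limits AlgebraicGeometry TopologicalSpace
open scoped ZeroObject

attribute [local instance] HasDerivedCategory.standard

namespace Groth.Agent.KoszOrthLib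

theorem approxHolds_empty {X : Scheme.{u}} [IsEmpty X] : ApproxHolds X := by
  intro T _ _
  refine ⟨0, fun m E _ _ _ => ⟨0, 0, PerfLib.isPerfect_of_isZero (isZero_zero _), fun i x => isEmptyElim x, ?_⟩⟩
  have hz : ∀ (K : DCoh.D X) (i : ℤ), IsZero (DCoh.HD K i) := fun K i => by
    rw [DCohRestrLib.isZero_iff_support_empty, Set.eq_empty_iff_forall_notMem]
    exact fun x => isEmptyElim x
  exact ⟨fun i _ => ⟨0, (hz _ i).eq_of_src _ _, (hz _ i).eq_of_src _ _⟩,
    ⟨fun _ _ _ => (hz E m).eq_of_src _ _⟩⟩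

theorem approxHolds_of_qcqs (X : Scheme.{u}) [CompactSpace ↥X] [QuasiSeparatedSpace ↥X] : ApproxHolds X := by
  suffices h : ∀ (W : X.Opens), IsCompact (W : Set X) →
      ∀ (Y : Scheme.{u}) (j : Y ⟶ X) [IsOpenImmersion j], Set.range j = (W : Set X) → ApproxHolds Y from
    h ⊤ isCompact_univ X (𝟙 X) (by simp)
  intro W hW
  refine compact_open_induction_on
    (P := fun W => ∀ (Y : Scheme.{u}) (j : Y ⟶ X) [IsOpenImmersion j],
      Set.range j = (W : Set X) → ApproxHolds Y) W hW ?_ ?_
  · intro Y j _ hj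
    haveI : IsEmpty Y := ⟨fun y => by simpa [hj] using Set.mem_range_self (f := j) y⟩
    exact approxHolds_empty
  · intro W hW U ih Y j _ hj
    have him : ∀ O : X.Opens, (O : Set X) ⊆ Set.range j →
        (fun y : Y => j y) '' ((j ⁻¹ᵁ O : Y.Opens) : Set Y) = (O : Set X) := fun O hO => by
      rw [Scheme.Hom.coe_preimage]
      exact Set.image_preimage_eq_iff.2 hO
    have hle : ∀ O : X.Opens, O ≤ W ⊔ U.1 → (O : Set X) ⊆ Set.range j := fun O hO => by
      rw [hj]
      exact hO
    refine approxHolds_step (j ⁻¹ᵁ W) (j ⁻¹ᵁ U.1) ?_ ?_ ?_ ?_ (ih _ ((j ⁻¹ᵁ W).ι ≫ j) ?_)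
    · rw [j.isOpenEmbedding.isEmbedding.isCompact_iff, him W (hle W le_sup_left)]
      exact hW
    · exact U.2.preimage_of_isOpenImmersion j (fun x hx => hle U.1 le_sup_right hx)
    · rw [j.isOpenEmbedding.isEmbedding.isCompact_iff, ← Scheme.Hom.preimage_inf,
        him (W ⊓ U.1) (hle _ (inf_le_left.trans le_sup_left))]
      exact hW.inter_of_isOpen U.2.isCompact W.isOpen U.1.isOpen
    · rw [← Scheme.Hom.preimage_sup, eq_top_iff]
      intro y _
      change j y ∈ (W ⊔ U.1 : X.Opens)
      exact (hj ▸ Set.mem_range_self (f := j) y :)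
    · change Set.range ((fun y : Y => j y) ∘ (j ⁻¹ᵁ W).ι) = _
      rw [Set.range_comp, Scheme.Opens.range_ι, him W (hle W le_sup_left)]

end Groth.Agent.KoszOrthLib
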