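import Groth.Agent.KoszOrthLib.Affine
import Groth.Agent.KoszLib.Spec

/-!
# Truncations of the unit and Koszul orthogonality
-/

set_option autoImplicit false
set_option linter.style.haveILetI false
set_option backward.isDefEq.respectTransparency false
set_option backward.isDefEq.respectTransparency.types false
set_option maxHeartbeats 1000000

universe u

open CategoryTheory CategoryTheory.Limits CategoryTheory.Pretriangulated AlgebraicGeometry
open DerivedCategory.TStructure (t)

attribute [local instance] HasDerivedCategory.standard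

namespace Groth.Agent.KoszOrthLib

theorem isIso_truncLE_map_iff {X : Scheme.{u}} {K L : DCoh.D X} (f : K ⟶ L) (b : ℤ) :
    IsIso ((t.truncLE b).map f) ↔
      ∀ i ≤ b, IsIso ((DerivedCategory.homologyFunctor X.Modules i).map f) := by
  rw [DerivedCategory.isIso_iff]
  have key : ∀ i ≤ b, (IsIso ((DerivedCategory.homologyFunctor X.Modules i).map ((t.truncLE b).map f)) ↔
      IsIso ((DerivedCategory.homologyFunctor X.Modules i).map f)) := fun i hi => by
    haveI := Groth.Agent.DerLib.Devissage.isIso_homology_truncLEι K b i hi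
    haveI := Groth.Agent.DerLib.Devissage.isIso_homology_truncLEι L b i hi
    have h := congrArg (DerivedCategory.homologyFunctor X.Modules i).map ((t.truncLEι b).naturality f)
    simp only [Functor.id_map, Functor.map_comp] at h
    rw [← isIso_comp_right_iff _ ((DerivedCategory.homologyFunctor X.Modules i).map ((t.truncLEι b).app L))]
    exact (iff_of_eq (congrArg (fun z => IsIso z) h)).trans (isIso_comp_left_iff _ _)
  refine ⟨fun h i hi => (key i hi).1 (h i), fun h i => ?_⟩
  by_cases hi : i ≤ b
  · exact (key i hi).2 (h i hi)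
  · exact ⟨0, (DerivedCategory.isZero_of_isLE _ b i (by omega)).eq_of_src _ _,
      (DerivedCategory.isZero_of_isLE _ b i (by omega)).eq_of_src _ _⟩

theorem isIso_truncGE_map_iff {X : Scheme.{u}} {K L : DCoh.D X} (f : K ⟶ L) (a : ℤ) :
    IsIso ((t.truncGE a).map f) ↔
      ∀ i, a ≤ i → IsIso ((DerivedCategory.homologyFunctor X.Modules i).map f) := by
  rw [DerivedCategory.isIso_iff]
  have hπ : ∀ (K : DCoh.D X) (i : ℤ), a ≤ i →
      IsIso ((DerivedCategory.homologyFunctor X.Modules i).map ((t.truncGEπ a).app K)) := fun K i hi =>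
    Groth.Agent.DerLib.Devissage.isIso_homologyMap_mor₂ _ (t.triangleLTGE_distinguished a K) i
      (DerivedCategory.isZero_of_isLE _ (a - 1) i (by omega))
      (DerivedCategory.isZero_of_isLE _ (a - 1) (i + 1) (by omega))
  have key : ∀ i, a ≤ i → (IsIso ((DerivedCategory.homologyFunctor X.Modules i).map ((t.truncGE a).map f)) ↔
      IsIso ((DerivedCategory.homologyFunctor X.Modules i).map f)) := fun i hi => by
    haveI := hπ K i hi
    haveI := hπ L i hi
    have h := congrArg (DerivedCategory.homologyFunctor X.Modules i).map ((t.truncGEπ a).naturality f)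
    simp only [Functor.id_map, Functor.map_comp] at h
    rw [← isIso_comp_left_iff ((DerivedCategory.homologyFunctor X.Modules i).map ((t.truncGEπ a).app K))]
    exact (iff_of_eq (congrArg (fun z => IsIso z) h)).symm.trans (isIso_comp_right_iff _ _)
  refine ⟨fun h i hi => (key i hi).1 (h i), fun h i => ?_⟩
  by_cases hi : a ≤ i
  · exact (key i hi).2 (h i hi)
  · exact ⟨0, (DerivedCategory.isZero_of_isGE _ a i (by omega)).eq_of_src _ _,
      (DerivedCategory.isZero_of_isGE _ a i (by omega)).eq_of_src _ _⟩

theorem homology_map_eq_zero_of_tildeD {R : CommRingCat.{u}} [PreservesFiniteLimits (tilde.functor R)]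
    {M N : DerivedCategory (ModuleCat.{u} R)} (ι : M ⟶ N) (a : ℤ)
    (h : (DerivedCategory.homologyFunctor _ a).map ((DCoh.tildeD R).map ι) = 0) :
    (DerivedCategory.homologyFunctor (ModuleCat.{u} R) a).map ι = 0 := by
  refine (tilde.functor R).map_injective ?_
  have h2 := (Groth.Agent.DerLib.ExactHomology.homologyIso (tilde.functor R) a).hom.naturality ι
  rw [Functor.map_zero, ← cancel_epi ((Groth.Agent.DerLib.ExactHomology.homologyIso
    (tilde.functor R) a).hom.app M), comp_zero]
  exact h2.symm.trans ((congrArg (· ≫ _) h).trans zero_comp)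

variable {A : Type u} [CommRing A] (fs : List A)

theorem isCompact_pOpen : IsCompact (pOpen A fs : Set (Spec (CommRingCat.of A))) := by
  classical
  refine (PrimeSpectrum.isCompact_isOpen_iff.2 ⟨fs.toFinset, ?_⟩).1
  change (PrimeSpectrum.zeroLocus (fs.toFinset : Set A))ᶜ = (PrimeSpectrum.zeroLocus _)ᶜ
  rw [PrimeSpectrum.zeroLocus_span]
  congr 2
  ext a
  simp

variable [PreservesFiniteLimits (tilde.functor (CommRingCat.of A))]
  [PreservesFiniteLimits (Scheme.Modules.restrictFunctor (pOpen A fs).ι)] [DCoh.HasRpush (pOpen A fs).ι]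
  (adj : DCoh.restrictD (pOpen A fs).ι ⊣ DCoh.Rpush (pOpen A fs).ι)
  (E : DCoh.D (Spec (CommRingCat.of A))) (hE : DCoh.IsQCohD E)

omit [PreservesFiniteLimits (Scheme.Modules.restrictFunctor (pOpen A fs).ι)] [DCoh.HasRpush (pOpen A fs).ι] in
theorem isZero_tD_homology_iff (M : DerivedCategory (ModuleCat.{u} A)) (i : ℤ) :
    IsZero (DCoh.HD ((tD A).obj M) i) ↔
      IsZero ((DerivedCategory.homologyFunctor (ModuleCat.{u} A) i).obj M) :=
  ⟨fun h => by
    have h' := h.of_iso (TildeDerLib.tildeHIso (CommRingCat.of A) i M).symm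
    rw [IsZero.iff_id_eq_zero] at h' ⊢
    haveI := (tilde.fullyFaithfulFunctor (R := CommRingCat.of A)).faithful
    exact (tilde.functor (CommRingCat.of A)).map_injective
      (((tilde.functor (CommRingCat.of A)).map_id _).trans (h'.trans (Functor.map_zero _ _ _).symm)),
    fun h => ((tilde.functor (CommRingCat.of A)).map_isZero h).of_iso
      (TildeDerLib.tildeHIso (CommRingCat.of A) i M)⟩

include hE in
theorem truncLE_iff (a : ℤ) :
    ((∀ n ≤ a, OrthX fs E n) → IsIso ((t.truncLE (a - 1)).map (adj.unit.app E))) ∧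
    (IsIso ((t.truncLE (a - 1)).map (adj.unit.app E)) → ∀ n ≤ a - 1, OrthX fs E n) := by
  obtain ⟨M, N, ι, eN, d, hT, hM, hO⟩ := exists_fibre fs adj (isCompact_pOpen fs) E hE
  constructor
  · intro h
    rw [isIso_truncLE_map_iff]
    intro i hi
    have hz : ∀ n ≤ a, IsZero (DCoh.HD ((tD A).obj M) n) := fun n hn =>
      (isZero_tD_homology_iff M n).2 (isZero_homology_of_orth fs hM n
        ((orthX_tD_iff fs M n).1 ((hO n).2 (h n hn))))
    exact Groth.Agent.DerLib.Devissage.isIso_homologyMap_mor₂ _ hT i (hz i (by omega)) (hz (i + 1) (by omega))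
  · intro h n hn
    rw [isIso_truncLE_map_iff] at h
    refine (hO n).1 ((orthX_tD_iff fs M n).2 (orth_of_isZero_homology fs n fun i _ hi =>
      (isZero_tD_homology_iff M i).1 ?_))
    haveI := h i (by omega)
    haveI := h (i - 1) (by omega)
    refine ShortComplex.Exact.isZero_of_both_zeros
      (DerivedCategory.HomologySequence.exact₁ _ hT (i - 1) i (by omega)) ?_ ?_
    · exact (cancel_epi ((DerivedCategory.homologyFunctor _ (i - 1)).map (adj.unit.app E))).1
        ((DerivedCategory.HomologySequence.comp_δ _ hT (i - 1) i (by omega)).trans comp_zero.symm)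
    · exact (cancel_mono ((DerivedCategory.homologyFunctor _ i).map (adj.unit.app E))).1
        (((DerivedCategory.homologyFunctor _ i).map_comp _ _).symm.trans
          ((congrArg _ (comp_distTriang_mor_zero₁₂ _ hT)).trans
            ((Functor.map_zero _ _ _).trans zero_comp.symm)))

include hE in
theorem truncGE_iff (a : ℤ) :
    ((∀ n, a ≤ n → OrthX fs E n) → IsIso ((t.truncGE a).map (adj.unit.app E))) ∧
    (IsIso ((t.truncGE a).map (adj.unit.app E)) →
      ∀ n, a + (fs.length : ℤ) ≤ n → OrthX fs E n) := by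
  obtain ⟨M, N, ι, eN, d, hT, hM, hO⟩ := exists_fibre fs adj (isCompact_pOpen fs) E hE
  constructor
  · intro h
    rw [isIso_truncGE_map_iff]
    intro i hi
    have hz : ∀ n, a ≤ n → IsZero (DCoh.HD ((tD A).obj M) n) := fun n hn =>
      (isZero_tD_homology_iff M n).2 (isZero_homology_of_orth fs hM n
        ((orthX_tD_iff fs M n).1 ((hO n).2 (h n hn))))
    exact Groth.Agent.DerLib.Devissage.isIso_homologyMap_mor₂ _ hT i (hz i hi) (hz (i + 1) (by omega))
  · intro h n hn φ
    rw [isIso_truncGE_map_iff] at h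
    have hmor : ∀ i, a ≤ i →
        (DerivedCategory.homologyFunctor _ i).map ((tD A).map ι ≫ eN.hom) = 0 := fun i hi => by
      haveI := h i hi
      exact (cancel_mono ((DerivedCategory.homologyFunctor _ i).map (adj.unit.app E))).1
        (((DerivedCategory.homologyFunctor _ i).map_comp _ _).symm.trans
          ((congrArg _ (comp_distTriang_mor_zero₁₂ _ hT)).trans
            ((Functor.map_zero _ _ _).trans zero_comp.symm)))
    have hzero : ∀ i, a < i → IsZero ((DerivedCategory.homologyFunctor (ModuleCat.{u} A) i).obj M) := by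
      intro i hi
      refine (isZero_tD_homology_iff M i).1 ?_
      haveI := h (i - 1) (by omega)
      refine ShortComplex.Exact.isZero_of_both_zeros
        (DerivedCategory.HomologySequence.exact₁ _ hT (i - 1) i (by omega)) ?_ (hmor i (by omega))
      exact (cancel_epi ((DerivedCategory.homologyFunctor _ (i - 1)).map (adj.unit.app E))).1
        ((DerivedCategory.HomologySequence.comp_δ _ hT (i - 1) i (by omega)).trans comp_zero.symm)
    have hι : (DerivedCategory.homologyFunctor (ModuleCat.{u} A) a).map ι = 0 := by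
      refine homology_map_eq_zero_of_tildeD (R := CommRingCat.of A) ι a ?_
      have := hmor a le_rfl
      rw [Functor.map_comp] at this
      exact (cancel_mono ((DerivedCategory.homologyFunctor _ a).map eN.hom)).1 (this.trans zero_comp.symm)
    obtain ⟨ψ, hψ⟩ := Triangle.coyoneda_exact₂ _ hT φ ((orthX_of_iso
      ((shiftFunctorZero _ ℤ).app _) (orthX_rpush fs adj _ n 0)) _)
    let c := ((tD A).commShiftIso (-n)).app (kA fs)
    obtain ⟨ψ₀, hψ₀⟩ := (tD A).map_surjective (c.hom ≫ ψ)
    have hz : ψ₀ ≫ ι = 0 := by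
      apply (shiftFunctor (DerivedCategory (ModuleCat.{u} A)) n).map_injective
      let e := (shiftFunctorCompIsoId (DerivedCategory (ModuleCat.{u} A)) (-n) n (by omega)).app (kA fs)
      rw [Functor.map_zero, Functor.map_comp, ← cancel_epi e.inv, comp_zero, ← Category.assoc]
      exact comp_eq_zero_top ι a hzero hι fs n hn _
    rw [hψ]
    change ψ ≫ (tD A).map ι ≫ eN.hom = 0
    have : ψ = c.inv ≫ (tD A).map ψ₀ := by rw [hψ₀, Iso.inv_hom_id_assoc]
    rw [this, Category.assoc, ← Functor.map_comp_assoc, hz, Functor.map_zero, zero_comp, comp_zero]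

include adj hE in
theorem exists_rpush_iff :
    (∃ F : DCoh.D (pOpen A fs : Scheme.{u}), DCoh.IsQCohD F ∧
      Nonempty (E ≅ (DCoh.Rpush (pOpen A fs).ι).obj F)) ↔ ∀ n, OrthX fs E n := by
  constructor
  · rintro ⟨F, -, ⟨e⟩⟩ n
    exact orthX_of_iso (((shiftFunctorZero _ ℤ).app _) ≪≫ e.symm) (orthX_rpush fs adj F n 0)
  · intro h
    obtain ⟨M, N, ι, eN, d, hT, hM, hO⟩ := exists_fibre fs adj (isCompact_pOpen fs) E hE
    have hz : ∀ i, IsZero (DCoh.HD ((tD A).obj M) i) := fun i =>
      (isZero_tD_homology_iff M i).2 (isZero_homology_of_orth fs hM i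
        ((orthX_tD_iff fs M i).1 ((hO i).2 (h i))))
    have : IsIso (adj.unit.app E) :=
      ((Triangle.mk ((tD A).map ι ≫ eN.hom) (adj.unit.app E) d).isZero₁_iff_isIso₂ hT).1
        ((DCohRestrLib.isZero_iff_HD _).2 hz)
    refine ⟨(DCoh.restrictD (pOpen A fs).ι).obj E, fun i => ?_, ⟨@asIso _ _ _ _ _ this⟩⟩
    haveI := hE i
    haveI := KFlatLib.isQCoh_pullback (pOpen A fs).ι (DCoh.HD E i)
    haveI : Coh.IsQCoh ((DCoh.HD E i).restrict (pOpen A fs).ι) :=
      QCohLib.isQCoh_of_iso (((Scheme.Modules.restrictFunctorIsoPullback (pOpen A fs).ι).app _)).symm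
    exact QCohLib.isQCoh_of_iso (DCohRestrLib.restrictHDIso (pOpen A fs).ι E i).symm

end Groth.Agent.KoszOrthLib
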