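import Groth.Agent.KoszOrthLib.Compact
import Groth.Agent.KoszOrthLib.Global
import Groth.Agent.KoszOrthLib.Main
import Groth.Agent.FreeResLib.Colimit
import Groth.Agent.KiehlLib.PC
import Groth.Prelude.Def_DerLim

/-!
# Pseudo-coherent objects are homotopy colimits of perfect ones
-/

set_option autoImplicit false
set_option linter.style.haveILetI false
set_option backward.isDefEq.respectTransparency false
set_option backward.isDefEq.respectTransparency.types false
set_option maxHeartbeats 1000000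

universe u

open CategoryTheory CategoryTheory.Limits AlgebraicGeometry CategoryTheory.Pretriangulated TopologicalSpace
open DerivedCategory.TStructure (t)
open scoped ZeroObject

attribute [local instance] HasDerivedCategory.standard

namespace Groth.Agent.KoszOrthLib

/-- Solving `R - g ≫ R' = ι` along an eventually constant sequence. -/
theorem exists_telescope_inverse {A : Type*} [Category A] [Preadditive A] {T : A} :
    ∀ (N : ℕ) (G : ℕ → A) (g : ∀ m, G m ⟶ G (m + 1)), (∀ m, N ≤ m → IsIso (g m)) →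
      ∀ ι : ∀ m, G m ⟶ T, ∃ R : ∀ m, G m ⟶ T, ∀ m, R m - g m ≫ R (m + 1) = ι m
  | 0, G, g, hg, ι => by
    haveI := fun m => hg m (Nat.zero_le m)
    let R : ∀ m, G m ⟶ T := fun m => Nat.rec (motive := fun m => G m ⟶ T) 0
      (fun m r => inv (g m) ≫ (r - ι m)) m
    refine ⟨R, fun m => ?_⟩
    change R m - g m ≫ inv (g m) ≫ (R m - ι m) = ι m
    rw [IsIso.hom_inv_id_assoc, sub_sub_cancel]
  | N + 1, G, g, hg, ι => by
    obtain ⟨R, hR⟩ := exists_telescope_inverse N (fun m => G (m + 1)) (fun m => g (m + 1))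
      (fun m hm => hg (m + 1) (by omega)) fun m => ι (m + 1)
    refine ⟨fun m => match m with
      | 0 => ι 0 + g 0 ≫ R 0
      | m + 1 => R m, fun m => ?_⟩
    match m with
    | 0 => exact add_sub_cancel_right _ _
    | m + 1 => exact hR m

variable {X : Scheme.{u}}

/-- Cohomology commutes with countable sums. -/
theorem isColimit_HD_cofan [HasColimitsOfShape (Discrete ℕ) (DCoh.D X)] (E : ℕ → DCoh.D X) (j : ℤ) :
    Nonempty (IsColimit (Cofan.mk ((DerivedCategory.homologyFunctor X.Modules j).obj (∐ E))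
      fun m => (DerivedCategory.homologyFunctor X.Modules j).map (Sigma.ι E m))) := by
  let H := DerivedCategory.homologyFunctor X.Modules j
  let P := fun i : ULift.{u} ℕ => DerivedCategory.Q.objPreimage (E i.down)
  let e := fun i : ULift.{u} ℕ => DerivedCategory.Q.objObjPreimageIso (E i.down)
  let hQ := (KFlatLib.isColimit_Q_sigma P).some
  let h' : IsColimit (Cofan.mk (DerivedCategory.Q.obj (∐ P))
      (fun i : ULift.{u} ℕ => (e i).inv ≫ DerivedCategory.Q.map (Sigma.ι P i)) : Cofan fun i => E i.down) :=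
    (IsColimit.precomposeInvEquiv (Discrete.natIso fun i => e i.as) _).symm hQ |>.ofIsoColimit
      (Cocone.ext (Iso.refl _) fun i => by simp)
  let h := PerfCompLib.isColimitULift.{0, u} (Cofan.mk (∐ E) (Sigma.ι E)) (coproductIsCoproduct E)
  let c : DerivedCategory.Q.obj (∐ P) ≅ ∐ E := h'.coconePointUniqueUpToIso h
  have hc : ∀ i, DerivedCategory.Q.map (Sigma.ι P i) ≫ c.hom = (e i).hom ≫ Sigma.ι E i.down := fun i => by
    have := IsColimit.comp_coconePointUniqueUpToIso_hom h' h (Discrete.mk i)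
    simp only [Cofan.mk_ι_app, cofan_mk_inj, Category.assoc, Iso.inv_comp_eq] at this
    exact this
  let F := DerivedCategory.homologyFunctorFactors X.Modules j
  let φ : ∀ i, (P i).homology j ≅ H.obj (E i.down) := fun i => (F.app (P i)).symm ≪≫ H.mapIso (e i)
  let ψ : (∐ P).homology j ≅ H.obj (∐ E) := (F.app (∐ P)).symm ≪≫ H.mapIso c
  have hψ : ∀ i, HomologicalComplex.homologyMap (Sigma.ι P i) j ≫ ψ.hom =
      (φ i).hom ≫ H.map (Sigma.ι E i.down) := fun i => by
    have hn := F.inv.naturality (Sigma.ι P i)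
    simp only [φ, ψ, Iso.trans_hom, Iso.symm_hom, Iso.app_inv, Functor.mapIso_hom, Category.assoc,
      ← Functor.map_comp, ← hc i]
    rw [Functor.map_comp, ← Category.assoc, ← Category.assoc]
    exact congrArg (· ≫ H.map c.hom) hn
  haveI : HasFiniteBiproducts X.Modules := Abelian.hasFiniteBiproducts
  haveI : AB4OfSize.{u} X.Modules := AB4.of_AB5 X.Modules
  let hP : IsColimit (Cofan.mk ((∐ P).homology j) fun i => HomologicalComplex.homologyMap (Sigma.ι P i) j) :=
    isColimitMapCoconeCofanMkEquiv (HomologicalComplex.homologyFunctor X.Modules (ComplexShape.up ℤ) j) P _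
      (Groth.Agent.FreeResLib.isColimitHomology _ (coproductIsCoproduct P) j)
  refine ⟨Cofan.IsColimit.mk _ (fun s => ψ.inv ≫ Cofan.IsColimit.desc hP fun i => (φ i).hom ≫ s.inj i.down)
    (fun s m => ?_) fun s f hf => ?_⟩
  · have h1 : H.map (Sigma.ι E m) ≫ ψ.inv = (φ ⟨m⟩).inv ≫ HomologicalComplex.homologyMap (Sigma.ι P ⟨m⟩) j := by
      rw [Iso.eq_inv_comp, ← Category.assoc, ← hψ ⟨m⟩, Category.assoc, Iso.hom_inv_id, Category.comp_id]
    change H.map (Sigma.ι E m) ≫ ψ.inv ≫ _ = _
    rw [reassoc_of% h1]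
    have h2 := Cofan.IsColimit.fac hP (fun i => (φ i).hom ≫ s.inj i.down) ⟨m⟩
    simp only [cofan_mk_inj] at h2
    rw [h2, Iso.inv_hom_id_assoc]
  · rw [Iso.eq_inv_comp]
    refine Cofan.IsColimit.hom_ext hP _ _ fun i => ?_
    have h2 := Cofan.IsColimit.fac hP (fun i => (φ i).hom ≫ s.inj i.down) i
    simp only [cofan_mk_inj] at h2 ⊢
    rw [h2, reassoc_of% (hψ i)]
    exact congrArg ((φ i).hom ≫ ·) (hf i.down)

/-- An eventually degreewise constant sequence has the expected homotopy colimit. -/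
theorem isHocolim_of_isIso_HD [HasColimitsOfShape (Discrete ℕ) (DCoh.D X)] {K : DCoh.D X} (E : ℕ → DCoh.D X)
    (f : ∀ n, E n ⟶ E (n + 1)) (i : ∀ n, E n ⟶ K) (hfi : ∀ n, f n ≫ i (n + 1) = i n)
    (hiso : ∀ (n : ℕ) (j : ℤ), -(n : ℤ) ≤ j → IsIso ((DerivedCategory.homologyFunctor X.Modules j).map (i n))) :
    DerLim.IsHocolim E f K i := by
  let θ : ∐ E ⟶ ∐ E := 𝟙 _ - DerLim.shiftMap E f
  have hθd : θ ≫ Sigma.desc i = 0 := Sigma.hom_ext _ _ fun n => by
    simp [θ, DerLim.shiftMap, Preadditive.comp_sub, hfi]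
  obtain ⟨W, q, δ, hT⟩ := distinguished_cocone_triangle θ
  obtain ⟨χ, hχ⟩ := Triangle.yoneda_exact₂ _ hT (Sigma.desc i) hθd
  change W ⟶ K at χ
  change Sigma.desc i = q ≫ χ at hχ
  haveI : IsIso χ := by
    rw [DerivedCategory.isIso_iff]
    intro j
    let H := fun k => DerivedCategory.homologyFunctor X.Modules k
    have hmono : ∀ k, Mono ((H k).map θ) := fun k => by
      obtain ⟨hc⟩ := isColimit_HD_cofan E k
      obtain ⟨R, hR⟩ := exists_telescope_inverse (-k).toNat (fun m => (H k).obj (E m))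
        (fun m => (H k).map (f m)) (fun m hm => by
          haveI := hiso m k (by omega)
          haveI := hiso (m + 1) k (by omega)
          haveI : IsIso ((H k).map (f m) ≫ (H k).map (i (m + 1))) := by
            rw [← Functor.map_comp, hfi]; assumption
          exact IsIso.of_isIso_comp_right _ ((H k).map (i (m + 1))))
        fun m => (H k).map (Sigma.ι E m)
      haveI : IsSplitMono ((H k).map θ) := IsSplitMono.mk'
        ⟨Cofan.IsColimit.desc hc R, Cofan.IsColimit.hom_ext hc _ _ fun m => by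
          have hfac : ∀ m, (H k).map (Sigma.ι E m) ≫ Cofan.IsColimit.desc hc R = R m := fun m =>
            Cofan.IsColimit.fac hc R m
          change (H k).map (Sigma.ι E m) ≫ _ ≫ _ = (H k).map (Sigma.ι E m) ≫ _
          rw [← Functor.map_comp_assoc, Category.comp_id]
          simp only [θ, Preadditive.comp_sub, Category.comp_id, DerLim.shiftMap, Sigma.ι_desc]
          rw [Functor.map_sub, Preadditive.sub_comp, Functor.map_comp, Category.assoc, hfac, hfac, hR]⟩
      infer_instance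
    haveI : Epi ((H j).map q) := (DerivedCategory.HomologySequence.exact₃ _ hT j (j + 1) rfl).epi_f (by
      haveI := hmono (j + 1)
      exact (cancel_mono ((H (j + 1)).map θ)).1
        ((DerivedCategory.HomologySequence.δ_comp _ hT j (j + 1) rfl).trans zero_comp.symm))
    let N := (-j).toNat
    haveI := hiso N j (by omega)
    let s : (H j).obj K ⟶ (H j).obj W := inv ((H j).map (i N)) ≫ (H j).map (Sigma.ι E N ≫ q)
    have hq : ∀ m, Sigma.ι E m ≫ q = f m ≫ Sigma.ι E (m + 1) ≫ q := fun m => by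
      have h0 : Sigma.ι E m ≫ θ ≫ q = 0 :=
        (congrArg (Sigma.ι E m ≫ ·) (comp_distTriang_mor_zero₁₂ _ hT)).trans comp_zero
      simpa [θ, DerLim.shiftMap, Preadditive.comp_sub, Preadditive.sub_comp, sub_eq_zero] using h0
    have htr : ∀ {m M : ℕ}, m ≤ M → ∃ τ : E m ⟶ E M, Sigma.ι E m ≫ q = τ ≫ Sigma.ι E M ≫ q ∧ i m = τ ≫ i M := by
      intro m M h
      induction h with
      | refl => exact ⟨𝟙 _, by simp, by simp⟩
      | @step M _ ih =>
        obtain ⟨τ, h1, h2⟩ := ih
        exact ⟨τ ≫ f M, by rw [h1, Category.assoc, ← hq], by rw [h2, Category.assoc, hfi]⟩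
    obtain ⟨hc⟩ := isColimit_HD_cofan E j
    have hqs : (H j).map q = (H j).map (Sigma.desc i) ≫ s := by
      refine Cofan.IsColimit.hom_ext hc _ _ fun m => ?_
      change (H j).map (Sigma.ι E m) ≫ _ = (H j).map (Sigma.ι E m) ≫ _
      rw [← Functor.map_comp, ← Functor.map_comp_assoc, Sigma.ι_desc]
      obtain ⟨τ, h1, h2⟩ := htr (le_max_left m N)
      obtain ⟨τ', h1', h2'⟩ := htr (le_max_right m N)
      haveI := hiso (max m N) j (by omega)
      have hN : (H j).map (Sigma.ι E (max m N) ≫ q) = (H j).map (i (max m N)) ≫ s := by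
        haveI : IsIso ((H j).map τ') := by
          haveI : IsIso ((H j).map τ' ≫ (H j).map (i (max m N))) := by
            rw [← Functor.map_comp, ← h2']; assumption
          exact IsIso.of_isIso_comp_right _ ((H j).map (i (max m N)))
        simp only [s]
        rw [← cancel_epi ((H j).map τ'), ← Functor.map_comp, ← h1', ← Functor.map_comp_assoc, ← h2',
          IsIso.hom_inv_id_assoc]
      rw [h1, h2, Functor.map_comp, hN, ← Category.assoc, ← Functor.map_comp]
    have hid : s ≫ (H j).map χ = 𝟙 _ := by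
      simp only [s, Category.assoc, ← Functor.map_comp, ← hχ, Sigma.ι_desc]
      exact IsIso.inv_hom_id _
    refine ⟨s, ?_, hid⟩
    rw [← cancel_epi ((H j).map q), ← Category.assoc, ← Functor.map_comp, ← hχ, Category.comp_id, ← hqs]
  refine ⟨inv χ ≫ δ, isomorphic_distinguished _ hT _ (Triangle.isoMk _ _ (Iso.refl _) (Iso.refl _)
    (asIso χ).symm ?_ ?_ ?_)⟩
  · simp [θ]
  · simp [hχ]
  · simp

/-- Pseudo-coherent objects are homotopy colimits of perfect approximations. -/
theorem exists_hocolim_of_isPC [CompactSpace X] [QuasiSeparatedSpace X]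
    [HasColimitsOfShape (Discrete ℕ) (DCoh.D X)] {K : DCoh.D X}
    (hK : ∀ m : ℤ, DCoh.IsPseudoCoherentD m K) :
    ∃ (E : ℕ → DCoh.D X) (f : ∀ n, E n ⟶ E (n + 1)) (i : ∀ n, E n ⟶ K), (∀ n, DCoh.IsPerfect (E n)) ∧
      DerLim.IsHocolim E f K i ∧
        ∀ n : ℕ, IsIso ((t.truncGE (-(n : ℤ))).map (i n)) := by
  obtain ⟨r, hr⟩ := approxHolds_of_qcqs X Set.univ isClosed_univ
    (by rw [Set.compl_univ]; exact fun O hc _ => by rw [Set.empty_inter]; exact isCompact_empty)
  have hKq := KiehlLib.isQCohD_of_isPC hK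
  let St := Σ' (P : DCoh.D X) (_ : P ⟶ K), DCoh.IsPerfect P
  let Ok : St → ℕ → Prop := fun s n =>
    ∀ j : ℤ, -(n : ℤ) ≤ j → IsIso ((DerivedCategory.homologyFunctor X.Modules j).map s.2.1)
  have hstep : ∀ (s : St) (n : ℕ), ∃ (s' : St) (f : s.1 ⟶ s'.1), Ok s' n ∧ f ≫ s'.2.1 = s.2.1 := by
    rintro ⟨P₀, α₀, hP₀⟩ n
    obtain ⟨lo, hi, -, hvan⟩ := PerfHomLib.exists_van_of_isPerfect hP₀
    let c : ℤ := min lo (-(n : ℤ) - 1)
    obtain ⟨P, α, hP, -, hiso, he⟩ := hr c K hKq (hK _) fun i _ x _ => Set.mem_univ x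
    obtain ⟨C, p, δ, hT⟩ := distinguished_cocone_triangle α
    have hC : ∀ j, c ≤ j → IsZero (DCoh.HD C j) := (isoAboveEpiAtX_iff _ hT c).1 ⟨hiso, he⟩
    have hCq : DCoh.IsQCohD C := KiehlLib.isQCohD_of_isPC fun k =>
      Groth.Agent.PerfLib.isPC_obj₃ _ hT k (Groth.Agent.RelFlatLib.isPC_of_isPerfect hP _) (hK k)
    obtain ⟨f, hf⟩ := Triangle.coyoneda_exact₂ _ hT α₀
      (hvan C hCq (fun j h₁ _ => hC j ((min_le_left _ _).trans h₁)) _)
    exact ⟨⟨P, α, hP⟩, f, fun j hj => hiso j (by have := min_le_right lo (-(n : ℤ) - 1); omega), hf.symm⟩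
  choose nx fn hok hfn using hstep
  let base : St := ⟨(0 : _), 0, Groth.Agent.PerfLib.isPerfect_of_isZero (isZero_zero _)⟩
  let S : ℕ → St := fun n => Nat.rec (nx base 0) (fun m s => nx s (m + 1)) n
  have hS : ∀ n, Ok (S n) n := by
    intro n
    cases n with
    | zero => exact hok base 0
    | succ m => exact hok (S m) (m + 1)
  refine ⟨fun n => (S n).1, fun n => fn (S n) (n + 1), fun n => (S n).2.1, fun n => (S n).2.2,
    isHocolim_of_isIso_HD _ _ _ (fun n => hfn (S n) (n + 1)) hS, fun n => ?_⟩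
  exact (isIso_truncGE_map_iff _ _).2 (hS n)

/-- Conversely, such homotopy colimits are pseudo-coherent. -/
theorem isPC_of_approx {K : DCoh.D X} (E : ℕ → DCoh.D X) (i : ∀ n, E n ⟶ K) (hE : ∀ n, DCoh.IsPerfect (E n))
    (h : ∀ n : ℕ, IsIso ((t.truncGE (-(n : ℤ))).map (i n))) (m : ℤ) : DCoh.IsPseudoCoherentD m K := by
  let n := (-m + 1).toNat
  obtain ⟨C, p, δ, hT⟩ := distinguished_cocone_triangle (i n)
  have hi := (isIso_truncGE_map_iff _ _).1 (h n)
  have hC : ∀ j, m ≤ j → IsZero (DCoh.HD C j) := (isoAboveEpiAtX_iff _ hT m).1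
    ⟨fun j hj => hi j (by omega), (haveI := hi m (by omega); inferInstanceAs (Epi ((DerivedCategory.homologyFunctor X.Modules m).map (i n))))⟩
  exact Groth.Agent.PerfLib.isPC_obj₂ _ hT m (Groth.Agent.RelFlatLib.isPC_of_isPerfect (hE n) m)
    (Groth.Agent.PerfLib.isPC_of_isZero_above hC)

end Groth.Agent.KoszOrthLib
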