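import Groth.Agent.KoszOrthLib.Inv
import Groth.Agent.KoszOrthLib.Hocolim
import Groth.Agent.DerLib.ExactHomology
import Groth.Agent.MiscFlat6.TensorGG
import Groth.Agent.FiltSectLib.Stalks
import Groth.Agent.DerBCLib.Models
import Mathlib.CategoryTheory.Linear.Basic

/-!
# Twisting by an invertible module in the derived category; killing by a section
-/

set_option autoImplicit false
set_option linter.style.haveILetI false
set_option backward.isDefEq.respectTransparency false
set_option backward.isDefEq.respectTransparency.types false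
set_option maxHeartbeats 1000000

universe u

open CategoryTheory CategoryTheory.Limits AlgebraicGeometry TopologicalSpace CategoryTheory.Pretriangulated
open PerfCompLib (FinFac cut proj)

attribute [local instance] HasDerivedCategory.standard

namespace Groth.Agent.KoszOrthLib

variable {X : Scheme.{u}} (L : X.Modules) [PreservesFiniteLimits (DCoh.tensorRightMod L)]
  [PreservesFiniteColimits (DCoh.tensorRightMod L)] (σ : Γ(L, ⊤))

/-- `- ⊗ L` on the derived category. -/
noncomputable abbrev TD : DCoh.D X ⥤ DCoh.D X := (DCoh.tensorRightMod L).mapDerivedCategory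

/-- Multiplication by a section, on complexes. -/
noncomputable def secCx :
    𝟭 (CochainComplex X.Modules ℤ) ⟶ (DCoh.tensorRightMod L).mapHomologicalComplex (ComplexShape.up ℤ) where
  app K := { f := fun i => (secNat L σ).app (K.X i)
             comm' := fun i j _ => ((secNat L σ).naturality (K.d i j)).symm }
  naturality {K K'} f := by
    refine HomologicalComplex.hom_ext _ _ fun i => ?_
    exact (secNat L σ).naturality (f.f i)

/-- Multiplication by a section on the derived category. -/
noncomputable def sD : 𝟭 (DCoh.D X) ⟶ TD L :=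
  letI : Localization.Lifting DerivedCategory.Q (HomologicalComplex.quasiIso X.Modules (ComplexShape.up ℤ))
      DerivedCategory.Q (𝟭 (DCoh.D X)) := ⟨Functor.rightUnitor _⟩
  Localization.liftNatTrans DerivedCategory.Q (HomologicalComplex.quasiIso X.Modules (ComplexShape.up ℤ))
    DerivedCategory.Q ((DCoh.tensorRightMod L).mapHomologicalComplex (ComplexShape.up ℤ) ⋙ DerivedCategory.Q)
    _ _ (Functor.whiskerRight (secCx L σ) DerivedCategory.Q)

theorem sD_Q (K : CochainComplex X.Modules ℤ) :
    (sD L σ).app (DerivedCategory.Q.obj K) =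
      DerivedCategory.Q.map ((secCx L σ).app K) ≫
        ((DCoh.tensorRightMod L).mapDerivedCategoryFactors.app K).inv := by
  rw [sD, Localization.liftNatTrans_app]
  exact Category.id_comp _

theorem homologyMap_secCx (K : CochainComplex X.Modules ℤ) (j : ℤ) :
    HomologicalComplex.homologyMap ((secCx L σ).app K) j =
      ((K.sc j).mapHomologyIso (𝟭 X.Modules)).hom ≫ (secNat L σ).app (K.homology j) ≫
        ((K.sc j).mapHomologyIso (DCoh.tensorRightMod L)).inv := by
  rw [← Iso.inv_comp_eq, Iso.eq_comp_inv, Category.assoc]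
  exact (NatTrans.app_homology (secNat L σ) (K.sc j)).symm

variable {L σ}

theorem scaled_HD_sD {x : X} {V : X.Opens} (hx : x ∈ V) (r : Γ(X, V)) (e : Γ(L, V))
    (he : AmpleLib.GenOn L e) (hr : r • e = AmpleLib.res L le_top σ) (K : DCoh.D X) (j : ℤ) :
    Scaled x (X.presheaf.germ V x hx r)
      ((DerivedCategory.homologyFunctor X.Modules j).map ((sD L σ).app K)) := by
  let H := DerivedCategory.homologyFunctor X.Modules j
  let P := DerivedCategory.Q.objPreimage K
  let e' : DerivedCategory.Q.obj P ≅ K := DerivedCategory.Q.objObjPreimageIso K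
  have hn : (sD L σ).app K = e'.inv ≫ (sD L σ).app (DerivedCategory.Q.obj P) ≫ (TD L).map e'.hom := by
    rw [Iso.eq_inv_comp]
    exact (sD L σ).naturality e'.hom
  let F := DerivedCategory.homologyFunctorFactors X.Modules j
  have hF := F.hom.naturality ((secCx L σ).app P)
  have hQ : H.map (DerivedCategory.Q.map ((secCx L σ).app P)) =
      (F.app P).hom ≫ HomologicalComplex.homologyMap ((secCx L σ).app P) j ≫ (F.app _).inv := by
    rw [← Category.assoc, Iso.eq_comp_inv]
    exact hF
  rw [hn, sD_Q, H.map_comp, H.map_comp, H.map_comp, hQ, homologyMap_secCx]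
  exact (((((((scaled_secNat σ hx r e he hr (P.homology j)).comp_iso
    ((P.sc j).mapHomologyIso (DCoh.tensorRightMod L)).symm).iso_comp
      ((P.sc j).mapHomologyIso (𝟭 X.Modules))).comp_iso
        (F.app (((DCoh.tensorRightMod L).mapHomologicalComplex (ComplexShape.up ℤ)).obj P)).symm).iso_comp
          (F.app P)).comp_iso
      (H.mapIso ((DCoh.tensorRightMod L).mapDerivedCategoryFactors.app P).symm)).comp_iso
        (H.mapIso ((TD L).mapIso e'))).iso_comp (H.mapIso e'.symm)

/-- A section is invertible on stalks where it generates. -/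
theorem isIso_stalk_HD_sD (hL : PicF.IsInvertible L) {x : X}
    (hx : AmpleLib.GenAt L σ (show x ∈ (⊤ : X.Opens) from trivial)) (K : DCoh.D X) (j : ℤ) :
    IsIso ((DerSch.stalkFunctor X x).map ((DerivedCategory.homologyFunctor X.Modules j).map ((sD L σ).app K))) := by
  obtain ⟨V, hxV, r, e, he, hr⟩ := exists_local_eq hL σ x
  refine (scaled_HD_sD hxV r e he hr K j).isIso ?_
  rw [← Scheme.mem_basicOpen, ← AmpleLib.genAt_smul_iff r e hxV (he.genAt hxV), hr, AmpleLib.genAt_res]
  exact hx

theorem isQCohD_TD (hL : PicF.IsInvertible L) {K : DCoh.D X} (hK : DCoh.IsQCohD K) :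
    DCoh.IsQCohD ((TD L).obj K) := fun i =>
  haveI := hK i
  @QCohLib.isQCoh_of_iso _ _ _ ((DerLib.ExactHomology.homologyIso (DCoh.tensorRightMod L) i).app K).symm
    (MiscFlat6.isQCoh_tensor (M := DCoh.HD K i) hL)

theorem support_HD_TD (hL : PicF.IsInvertible L) (K : DCoh.D X) (i : ℤ) :
    CohB1.support (DCoh.HD ((TD L).obj K) i) = CohB1.support (DCoh.HD K i) := by
  let e : DCoh.HD ((TD L).obj K) i ≅ (DCoh.tensorRightMod L).obj (DCoh.HD K i) :=
    (DerLib.ExactHomology.homologyIso (DCoh.tensorRightMod L) i).app K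
  rw [DevissLib.support_iso e]
  exact (DevissLib.support_iso (HilbPolyLib.swapIso (DCoh.HD K i) L)).trans (HilbPolyLib.support_tensor hL _)

variable (L σ) in
/-- Iterated twists. -/
noncomputable def iterT : ℕ → (DCoh.D X ⥤ DCoh.D X)
  | 0 => 𝟭 _
  | k + 1 => iterT k ⋙ TD L

variable (L σ) in
/-- Powers of the section. -/
noncomputable def iterS : (k : ℕ) → (𝟭 (DCoh.D X) ⟶ iterT L k)
  | 0 => 𝟙 _
  | k + 1 => iterS k ≫ Functor.whiskerLeft (iterT L k) (sD L σ)

theorem isQCohD_iterT (hL : PicF.IsInvertible L) {K : DCoh.D X} (hK : DCoh.IsQCohD K) :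
    ∀ k, DCoh.IsQCohD ((iterT L k).obj K)
  | 0 => hK
  | k + 1 => isQCohD_TD hL (isQCohD_iterT hL hK k)

theorem support_HD_iterT (hL : PicF.IsInvertible L) (K : DCoh.D X) (i : ℤ) :
    ∀ k, CohB1.support (DCoh.HD ((iterT L k).obj K) i) = CohB1.support (DCoh.HD K i)
  | 0 => rfl
  | k + 1 => (support_HD_TD hL _ i).trans (support_HD_iterT hL K i k)

section Telescope

/-- `r` steps of the sequence kill the element. -/
def Dies {G : ℕ → AddCommGrpCat.{u}} (g : ∀ k, G k ⟶ G (k + 1)) : ℕ → ∀ k, G k → Prop
  | 0, _, x => x = 0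
  | r + 1, k, x => Dies g r (k + 1) (g k x)

theorem bijective_telescope_var {G : ℕ → AddCommGrpCat.{u}} (g : ∀ k, G k ⟶ G (k + 1))
    (hg : ∀ k (x : G k), ∃ r, Dies g r k x) (c : Cofan G) (hc : IsColimit c) (f : c.pt ⟶ c.pt)
    (hf : ∀ n, c.inj n ≫ f = c.inj n - g n ≫ c.inj (n + 1)) : Function.Bijective f := by
  classical
  have gen : ∀ H : AddSubgroup c.pt, (∀ i x, c.inj i x ∈ H) → ∀ y, y ∈ H := by
    intro H hH y
    let q : c.pt ⟶ AddCommGrpCat.of (c.pt ⧸ H) := AddCommGrpCat.ofHom (QuotientAddGroup.mk' H)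
    have hq : q = 0 := Cofan.IsColimit.hom_ext hc _ _ fun i => by
      ext x
      exact (QuotientAddGroup.eq_zero_iff _).2 (hH i x)
    exact (QuotientAddGroup.eq_zero_iff _).1 (DFunLike.congr_fun (congrArg (fun φ => φ.hom) hq) y)
  let π : ∀ k, c.pt ⟶ G k := fun k => Cofan.IsColimit.desc hc fun j =>
    if h : j = k then eqToHom (by rw [h]) else 0
  have hπ : ∀ j k, c.inj j ≫ π k = if h : j = k then eqToHom (by rw [h]) else 0 :=
    fun j k => Cofan.IsColimit.fac hc _ j
  have hπ0 : f ≫ π 0 = π 0 := Cofan.IsColimit.hom_ext hc _ _ fun n => by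
    rw [← Category.assoc, hf, Preadditive.sub_comp, Category.assoc, hπ, hπ, dif_neg (Nat.succ_ne_zero n),
      comp_zero, sub_zero]
  have hπs : ∀ m, f ≫ π (m + 1) = π (m + 1) - π m ≫ g m := fun m =>
    Cofan.IsColimit.hom_ext hc _ _ fun n => by
      rw [← Category.assoc, hf, Preadditive.sub_comp, Preadditive.comp_sub, Category.assoc,
        ← Category.assoc _ (π m), hπ, hπ, hπ]
      rcases eq_or_ne n m with rfl | h
      · simp
      · simp [h]
  have hproj : ∀ i k (x : G i), i ≠ k → π k (c.inj i x) = 0 := fun i k x h => by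
    have := DFunLike.congr_fun (congrArg (fun φ => φ.hom) (hπ i k)) x
    rw [dif_neg h] at this
    exact this
  refine ⟨(injective_iff_map_eq_zero f.hom).2 fun y hy => ?_, fun y => ?_⟩
  · have hz : ∀ m, π m y = 0 := by
      intro m
      induction m with
      | zero =>
        rw [← hπ0]
        change π 0 (f.hom y) = 0
        rw [hy, map_zero]
      | succ m ih =>
        have h1 : π (m + 1) (f.hom y) = π (m + 1) y - g m (π m y) :=
          DFunLike.congr_fun (congrArg (fun φ => φ.hom) (hπs m)) y
        rw [hy, map_zero, ih, map_zero, sub_zero] at h1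
        exact h1.symm
    let H : AddSubgroup c.pt :=
      { carrier := {y | ∃ S : Finset ℕ, y = ∑ k ∈ S, c.inj k (π k y) ∧ ∀ k, k ∉ S → π k y = 0}
        zero_mem' := ⟨∅, by simp, fun k _ => map_zero _⟩
        add_mem' := by
          rintro a b ⟨S, hS, hS'⟩ ⟨T, hT, hT'⟩
          refine ⟨S ∪ T, ?_, fun k hk => ?_⟩
          · simp only [map_add, Finset.sum_add_distrib]
            rw [← Finset.sum_subset Finset.subset_union_left (fun k _ hk => by rw [hS' k hk, map_zero]),
              ← Finset.sum_subset Finset.subset_union_right (fun k _ hk => by rw [hT' k hk, map_zero]),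
              ← hS, ← hT]
          · simp only [Finset.mem_union, not_or] at hk
            rw [map_add, hS' k hk.1, hT' k hk.2, add_zero]
        neg_mem' := by
          rintro a ⟨S, hS, hS'⟩
          refine ⟨S, ?_, fun k hk => by rw [map_neg, hS' k hk, neg_zero]⟩
          simp only [map_neg, Finset.sum_neg_distrib, ← hS] }
    obtain ⟨S, hS, -⟩ : y ∈ H := gen H (fun i x => ⟨{i}, by
      have h1 : π i (c.inj i x) = x := by
        have := DFunLike.congr_fun (congrArg (fun φ => φ.hom) (hπ i i)) x
        simpa using this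
      rw [Finset.sum_singleton, h1], fun k hk =>
        hproj i k x fun h => hk (Finset.mem_singleton.2 h.symm)⟩) y
    rw [hS]
    exact Finset.sum_eq_zero fun k _ => by rw [hz k, map_zero]
  · refine gen f.hom.range (fun i x => ?_) y
    obtain ⟨k, hk⟩ := hg i x
    induction k generalizing i x with
    | zero =>
      rw [show x = 0 from hk, map_zero]
      exact zero_mem _
    | succ k ih =>
      have h1 : f.hom (c.inj i x) = c.inj i x - c.inj (i + 1) (g i x) :=
        DFunLike.congr_fun (congrArg (fun φ => φ.hom) (hf i)) x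
      rw [show c.inj i x = f.hom (c.inj i x) + c.inj (i + 1) (g i x) by rw [h1, sub_add_cancel]]
      exact add_mem ⟨_, rfl⟩ (ih (i + 1) (g i x) hk)

end Telescope

/-- Reindexing countable families. -/
theorem finFac_nat {D : Type*} [Category D] [Preadditive D] {K : D} (M : ℕ → D)
    [HasCoproduct M] [HasCoproduct fun i : ULift.{u} ℕ => M i.down]
    (h : FinFac (fun i : ULift.{u} ℕ => M i.down) K) : FinFac M K := by
  classical
  intro f
  let M' := fun i : ULift.{u} ℕ => M i.down
  let a : ∐ M ⟶ ∐ M' := Sigma.desc fun i => Sigma.ι M' ⟨i⟩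
  let b : ∐ M' ⟶ ∐ M := Sigma.desc fun i => Sigma.ι M i.down
  have hab : a ≫ b = 𝟙 _ := Sigma.hom_ext _ _ fun i => by simp [a, b, M']
  obtain ⟨S, hS⟩ := h (f ≫ a)
  refine ⟨S.image ULift.down, ?_⟩
  have hc : cut M (S.image ULift.down) = a ≫ cut M' S ≫ b := Sigma.hom_ext _ _ fun i => by
    have hi : i ∈ S.image ULift.down ↔ (⟨i⟩ : ULift.{u} ℕ) ∈ S := by
      refine ⟨fun h => ?_, fun h => Finset.mem_image_of_mem _ h⟩
      obtain ⟨⟨j⟩, hj, rfl⟩ := Finset.mem_image.1 h
      exact hj
    rw [PerfCompLib.ι_cut, Sigma.ι_desc_assoc, ← Category.assoc, PerfCompLib.ι_cut]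
    by_cases h : (⟨i⟩ : ULift.{u} ℕ) ∈ S
    · rw [if_pos (hi.2 h), if_pos h]
      simp [b, M']
    · rw [if_neg fun hh => h (hi.1 hh), if_neg h, zero_comp]
  have h2 : f ≫ (a ≫ cut M' S ≫ b) = (f ≫ a ≫ b) :=
    (by simp only [Category.assoc] : f ≫ (a ≫ cut M' S ≫ b) = ((f ≫ a) ≫ cut M' S) ≫ b).trans
      ((congrArg (· ≫ b) hS).trans (Category.assoc _ _ _))
  rw [hc, h2, hab, Category.comp_id]

variable (L σ) in
/-- A power of the section kills maps from a perfect object to an object supported where it vanishes. -/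
theorem exists_iterS_kill [CompactSpace X] [QuasiSeparatedSpace X] (hL : PicF.IsInvertible L) {E K : DCoh.D X}
    (hE : DCoh.IsPerfect E) (hq : DCoh.IsQCohD K)
    (hsupp : ∀ (i : ℤ), ∀ y ∈ CohB1.support (DCoh.HD K i),
      ¬ AmpleLib.GenAt L σ (show y ∈ (⊤ : X.Opens) from trivial))
    (α : E ⟶ K) : ∃ n : ℕ, α ≫ (iterS L σ n).app K = 0 := by
  classical
  haveI := hasCoproducts_D X
  haveI : HasColimitsOfShape (Discrete ℕ) (DCoh.D X) :=
    hasColimitsOfShape_of_equivalence (Discrete.equivalence Equiv.ulift.{u, 0})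
  let M := fun k => (iterT L k).obj K
  let g : ∀ k, M k ⟶ M (k + 1) := fun k => (sD L σ).app (M k)
  let sh : ∐ M ⟶ ∐ M := Sigma.desc fun k => g k ≫ Sigma.ι M (k + 1)
  haveI : IsIso (𝟙 (∐ M) - sh) := by
    rw [DerivedCategory.isIso_iff]
    intro j
    refine FiltSectLib.isIso_of_stalks _ fun x => ?_
    let S := DerSch.stalkFunctor X x ⋙ forget₂ _ AddCommGrpCat.{u}
    haveI : PreservesColimitsOfSize.{0, 0} S :=
      preservesColimits_of_natIso.{0, 0} (Iso.refl _)
    let H := DerivedCategory.homologyFunctor X.Modules j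
    obtain ⟨hcol⟩ := isColimit_HD_cofan M j
    have hcol' : IsColimit (Cofan.mk (S.obj (H.obj (∐ M))) fun k => S.map (H.map (Sigma.ι M k))) :=
      isColimitMapCoconeCofanMkEquiv S _ _ (isColimitOfPreserves S hcol)
    obtain ⟨V, hxV, r, e, he, hr⟩ := exists_local_eq hL σ x
    let a := X.presheaf.germ V x hxV r
    have hdie : ∀ (q k : ℕ) (m : (DerSch.stalkFunctor X x).obj (H.obj (M k))), a ^ q • m = 0 →
        Dies (G := fun k => S.obj (H.obj (M k))) (fun k => S.map (H.map (g k))) q k m := by
      intro q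
      induction q with
      | zero =>
        intro k m hm
        rw [pow_zero, one_smul] at hm
        exact hm
      | succ q ih =>
        intro k m hm
        obtain ⟨θ, hθ⟩ := scaled_HD_sD hxV r e he hr (M k) j
        let v : (DerSch.stalkFunctor X x).obj (H.obj (M (k + 1))) := S.map (H.map (g k)) m
        have h1 : v = a • θ.hom.hom m :=
          DFunLike.congr_fun (congrArg ModuleCat.Hom.hom hθ) m
        refine ih (k + 1) v ?_
        refine (congrArg (a ^ q • ·) h1).trans ?_
        rw [smul_smul, ← pow_succ]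
        refine (θ.hom.hom.map_smul _ m).symm.trans ?_
        rw [hm, map_zero]
    have hb := bijective_telescope_var (G := fun k => S.obj (H.obj (M k))) (fun k => S.map (H.map (g k)))
      (fun k m => by
        haveI := isQCohD_iterT hL hq k j
        obtain ⟨q, hq'⟩ := exists_pow_germ_smul_eq_zero σ (DCoh.HD (M k) j)
          (fun y hy => hsupp j y (by rwa [← support_HD_iterT hL K j k])) hxV r e he hr m
        exact ⟨q, hdie q k m hq'⟩) _ hcol' (S.map (H.map (𝟙 (∐ M) - sh))) fun k => by
      change S.map (H.map (Sigma.ι M k)) ≫ _ = S.map (H.map (Sigma.ι M k)) -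
        S.map (H.map (g k)) ≫ S.map (H.map (Sigma.ι M (k + 1)))
      rw [← S.map_comp, ← S.map_comp, ← H.map_comp, ← H.map_comp, ← Functor.map_sub, ← Functor.map_sub,
        Preadditive.comp_sub, Category.comp_id, Sigma.ι_desc]
    exact (ConcreteCategory.isIso_iff_bijective _).2 hb
  let z : E ⟶ ∐ M := α ≫ Sigma.ι M 0 ≫ inv (𝟙 (∐ M) - sh)
  obtain ⟨T, hT⟩ := finFac_nat M (finFac_of_isQCohD hE (fun i : ULift.{u} ℕ => M i.down)
    fun i => isQCohD_iterT hL hq i.down) z
  have hz : z ≫ (𝟙 _ - sh) = α ≫ Sigma.ι M 0 := by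
    simp only [z, Category.assoc, IsIso.inv_hom_id, Category.comp_id]
  have hsh₀ : sh ≫ proj M 0 = 0 := Sigma.hom_ext _ _ fun i => by
    rw [comp_zero, Sigma.ι_desc_assoc, Category.assoc]
    simp [proj]
  have hsh : ∀ m, sh ≫ proj M (m + 1) = proj M m ≫ g m := fun m => Sigma.hom_ext _ _ fun i => by
    rw [Sigma.ι_desc_assoc]
    rcases eq_or_ne i m with rfl | h
    · simp [proj, M]
    · simp [proj, h]
  have hp : ∀ m : ℕ, z ≫ proj M m = α ≫ (iterS L σ m).app K := by
    intro m
    induction m with
    | zero =>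
      have h := congrArg (· ≫ proj M 0) hz
      simp only [Category.assoc, Preadditive.sub_comp, Category.id_comp, hsh₀, sub_zero] at h
      rw [h]
      simp [proj, M, iterS]
      exact Category.comp_id α
    | succ m ih =>
      have h := congrArg (· ≫ proj M (m + 1)) hz
      simp only [Category.assoc, Preadditive.sub_comp, Category.id_comp, hsh, Preadditive.comp_sub] at h
      have h0 : Sigma.ι M 0 ≫ proj M (m + 1) = 0 := by simp [proj]
      rw [h0, comp_zero, ← Category.assoc z (proj M m), ih, sub_eq_zero] at h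
      rw [h, Category.assoc]
      rfl
  refine ⟨T.sup id + 1, ?_⟩
  have hn : T.sup id + 1 ∉ T := fun h => by
    have h' : T.sup id + 1 ≤ T.sup id := Finset.le_sup (s := T) (f := id) h
    omega
  have h0 : cut M T ≫ proj M (T.sup id + 1) = 0 := Sigma.hom_ext _ _ fun i => by
    rw [← Category.assoc, PerfCompLib.ι_cut, comp_zero]
    split_ifs with hi
    · have hne : i ≠ T.sup id + 1 := fun e => hn (e ▸ hi)
      simp [proj, hne]
    · rw [zero_comp]
  rw [← hp, ← hT, Category.assoc, h0, comp_zero]

end Groth.Agent.KoszOrthLib
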