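import Groth.Agent.KoszOrthLib.BrownLS
import Groth.Agent.KoszOrthLib.Compact
import Groth.Agent.KoszOrthLib.Twisted
import Mathlib.CategoryTheory.Adjunction.Restrict
import Mathlib.CategoryTheory.Triangulated.Yoneda
import Mathlib.CategoryTheory.Triangulated.Opposite.Functor
import Mathlib.CategoryTheory.Adjunction.PartialAdjoint
import Mathlib.CategoryTheory.Preadditive.Yoneda.Limits

/-!
# The triangulated category of complexes with quasi-coherent cohomology

Compact generation and the adjoint functor theorem for `DQCoh X`.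
-/

set_option autoImplicit false
set_option linter.style.haveILetI false
set_option backward.isDefEq.respectTransparency false
set_option backward.isDefEq.respectTransparency.types false
set_option maxHeartbeats 1000000

universe u

open CategoryTheory CategoryTheory.Limits AlgebraicGeometry CategoryTheory.Pretriangulated
open CategoryTheory.Pretriangulated.Opposite
open Opposite (op unop)
open scoped ZeroObject
open PerfCompLib (FinFac cut proj)

attribute [local instance] HasDerivedCategory.standard

namespace Groth.Agent.KoszOrthLib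

variable {X : Scheme.{u}}

instance isClosedUnderIso_isQCohD : (DCoh.IsQCohD (X := X)).IsClosedUnderIsomorphisms :=
  ⟨fun e h => KFlatLib.isQCohD_iso e h⟩

instance isTriangulated_isQCohD : (DCoh.IsQCohD (X := X)).IsTriangulated where
  exists_zero := ⟨0, isZero_zero _, KFlatLib.isQCohD_of_isZero (isZero_zero _)⟩
  isStableUnderShiftBy a := ⟨fun _ h => KFlatLib.isQCohD_shift h a⟩
  toIsTriangulatedClosed₂ :=
    ObjectProperty.IsTriangulatedClosed₂.mk' fun _ hT h₁ h₃ => KFlatLib.isQCohD₂ hT h₁ h₃

instance hasCoproductsD (J : Type u) : HasColimitsOfShape (Discrete J) (DCoh.D X) :=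
  hasCoproducts_D X J

instance isClosedUnderCoproducts (J : Type u) :
    (DCoh.IsQCohD (X := X)).IsClosedUnderColimitsOfShape (Discrete J) :=
  ObjectProperty.IsClosedUnderColimitsOfShape.mk' (by
    rintro _ ⟨F, hF⟩
    haveI : HasCoproduct fun j => F.obj ⟨j⟩ := inferInstance
    exact KFlatLib.isQCohD_iso (HasColimit.isoOfNatIso Discrete.natIsoFunctor.symm)
      (KFlatLib.isQCohD_coproduct (fun j => F.obj ⟨j⟩) fun j => hF ⟨j⟩))

instance hasCoproductsQ (J : Type u) : HasColimitsOfShape (Discrete J) (DCoh.DQCoh X) :=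
  hasColimitsOfShape_of_closedUnderColimits _ _

noncomputable instance preservesCoproductsι (J : Type u) :
    PreservesColimitsOfShape (Discrete J) (DCoh.IsQCohD (X := X)).ι := by
  haveI := createsColimitsOfShapeFullSubcategoryInclusion (Discrete J) (DCoh.IsQCohD (X := X))
  exact preservesColimitOfShape_of_createsColimitsOfShape_and_hasColimitsOfShape _

instance hasCoproductsNatQ : HasColimitsOfShape (Discrete ℕ) (DCoh.DQCoh X) :=
  hasColimitsOfShape_of_equivalence (Discrete.equivalence Equiv.ulift.{u})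

instance locallySmallD : LocallySmall.{u} (DCoh.D X) :=
  DerLib.SmallDerived.locallySmall X.Modules

instance locallySmallQ : LocallySmall.{u} (DCoh.DQCoh X) :=
  locallySmall_of_faithful (DCoh.IsQCohD (X := X)).ι

variable [CompactSpace X] [QuasiSeparatedSpace X]

/-- A perfect generator, as an object of `DQCoh`. -/
noncomputable def genQ (X : Scheme.{u}) [CompactSpace X] [QuasiSeparatedSpace X] : DCoh.DQCoh X :=
  ⟨(hasGen_of_qcqs X Set.univ isClosed_univ (by simp [IsRetrocompact])).choose,
    isQCohD_of_isPerfect (hasGen_of_qcqs X Set.univ isClosed_univ (by simp [IsRetrocompact])).choose_spec.1⟩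

theorem isPerfect_genQ : DCoh.IsPerfect (genQ X).obj :=
  (hasGen_of_qcqs X Set.univ isClosed_univ (by simp [IsRetrocompact])).choose_spec.1

theorem generates_genQ : Generates Set.univ (genQ X).obj :=
  (hasGen_of_qcqs X Set.univ isClosed_univ (by simp [IsRetrocompact])).choose_spec.2.2

theorem isZero_of_forall_hom_genQ (W : DCoh.DQCoh X)
    (h : ∀ (_ : PUnit.{u + 1}) (n : ℤ) (f : genQ X ⟶ W⟦n⟧), f = 0) : IsZero W := by
  let ι := (DCoh.IsQCohD (X := X)).ι
  have h0 : IsZero W.obj := generates_genQ W.obj W.property (fun _ => Set.subset_univ _) fun n φ => by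
    refine (forall_shift_iff (genQ X).obj W.obj n (-n) (by omega)).2 (fun ψ => ?_) φ
    let c : W.obj⟦-n⟧ ≅ ι.obj (W⟦-n⟧) := ((ι.commShiftIso (-n)).app W).symm
    obtain ⟨f, hf⟩ := ι.map_surjective (X := genQ X) (Y := W⟦-n⟧) (ψ ≫ c.hom)
    have h1 : ψ ≫ c.hom = 0 := by
      rw [← hf, h PUnit.unit (-n) f]
      exact Functor.map_zero _ _ _
    exact zero_of_comp_mono c.hom h1
  rw [IsZero.iff_id_eq_zero]
  exact ι.map_injective (h0.eq_of_src _ _)

/-- The generator is countably small. -/
theorem cSmall_genQ : BrownLS.CSmall fun _ : PUnit.{u + 1} => genQ X := by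
  intro M i α
  classical
  let ι := (DCoh.IsQCohD (X := X)).ι
  haveI : PreservesColimitsOfShape (Discrete ℕ) ι :=
    preservesColimitsOfShape_of_equiv (Discrete.equivalence Equiv.ulift.{u}) ι
  haveI : HasColimitsOfShape (Discrete ℕ) (DCoh.D X) :=
    hasColimitsOfShape_of_equivalence (Discrete.equivalence Equiv.ulift.{u})
  let c := PreservesCoproduct.iso ι M
  let N := fun k : ℕ => ι.obj (M k)
  obtain ⟨S, hS⟩ := finFac_nat N (finFac_of_isQCohD isPerfect_genQ (fun k : ULift.{u} ℕ => N k.down)
    fun k => (M k.down).property) (ι.map α ≫ c.hom)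
  let x : ∀ n, genQ X ⟶ M n := fun n => ι.preimage ((ι.map α ≫ c.hom) ≫ proj N n)
  refine ⟨fun _ => i, x, ∑ n ∈ S, Sigma.ι (fun _ : ℕ => genQ X) n, ι.map_injective ?_⟩
  rw [Preadditive.sum_comp, Functor.map_sum]
  refine (cancel_mono c.hom).1 (hS.symm.trans ?_)
  rw [PerfCompLib.cut_eq_sum, Preadditive.comp_sum, Preadditive.sum_comp]
  refine Finset.sum_congr rfl fun n _ => ?_
  have h1 : ι.map (Sigma.ι M n) ≫ c.hom = Sigma.ι N n := by
    rw [← Iso.eq_comp_inv, PreservesCoproduct.inv_hom, ι_comp_sigmaComparison]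
  rw [Limits.Sigma.ι_map, ι.map_comp]
  refine Eq.trans ?_ ((Category.assoc _ _ _).trans (congrArg (ι.map (x n) ≫ ·) h1)).symm
  rw [show ι.map (x n) = (ι.map α ≫ c.hom) ≫ proj N n from ι.map_preimage _]
  simp only [Category.assoc]

section Adjoint

variable {D' : Type (u + 1)} [Category.{u + 1} D'] [Preadditive D'] [HasZeroObject D']
  [HasShift D' ℤ] [∀ n : ℤ, (shiftFunctor D' n).Additive] [Pretriangulated D'] [LocallySmall.{u} D']

/-- The adjoint functor theorem on `DQCoh`. -/
theorem isLeftAdjoint_of_DQCoh (F : DCoh.DQCoh X ⥤ D') [F.CommShift ℤ] [F.IsTriangulated]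
    [∀ J : Type u, PreservesColimitsOfShape (Discrete J) F] : F.IsLeftAdjoint := by
  refine F.isLeftAdjoint_of_rightAdjointObjIsDefined_eq_top ?_
  ext Y
  simp only [Pi.top_apply, Prop.top_eq_true, iff_true]
  rw [Functor.rightAdjointObjIsDefined_iff]
  haveI : ∀ J : Type u, PreservesLimitsOfShape (Discrete J) F.op := fun J => by
    haveI : PreservesColimitsOfShape (Discrete J)ᵒᵖ F :=
      preservesColimitsOfShape_of_equiv (Discrete.opposite J).symm F
    exact preservesLimitsOfShape_op _ _
  haveI : HasCoproducts.{u} (DCoh.DQCoh X) := fun J => hasCoproductsQ J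
  haveI : ∀ J : Type u, PreservesLimitsOfShape (Discrete J) (F.op ⋙ preadditiveYoneda.obj Y) :=
    fun J => by
      haveI : PreservesLimitsOfSize.{u, u} (preadditiveYoneda.obj Y) :=
        preservesLimitsOfSize_shrink.{u, u + 1, u, u + 1} _
      infer_instance
  have hsmall : ∀ W : DCoh.DQCoh X, Small.{u} ((F.op ⋙ preadditiveYoneda.obj Y).obj (op W)) :=
    fun W => (inferInstance : Small.{u} (F.obj W ⟶ Y))
  refine @Functor.IsRepresentable.mk _ _ _ ?_
  exact (BrownLS.isRepresentable (H := F.op ⋙ preadditiveYoneda.obj Y)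
    hsmall (E := fun _ : PUnit.{u + 1} => genQ X)
    isZero_of_forall_hom_genQ cSmall_genQ).has_representation

end Adjoint

end Groth.Agent.KoszOrthLib
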