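import Groth.Agent.KoszOrthLib.Glue

/-!
# Lifting maps out of perfect objects on quasi-compact quasi-separated schemes
-/

set_option autoImplicit false
set_option linter.style.haveILetI false
set_option backward.isDefEq.respectTransparency false
set_option backward.isDefEq.respectTransparency.types false
set_option maxHeartbeats 1000000

universe u

open CategoryTheory CategoryTheory.Limits AlgebraicGeometry CategoryTheory.Pretriangulated TopologicalSpace

attribute [local instance] HasDerivedCategory.standard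

namespace Groth.Agent.KoszOrthLib

variable {X : Scheme.{u}}

section Comp

variable {W V : Scheme.{u}}

/-- Restriction along a composite, as functors on derived categories. -/
noncomputable def resDComp (g : W ⟶ V) [IsOpenImmersion g] (j : V ⟶ X) [IsOpenImmersion j] :
    PerfLib.resD (g ≫ j) ≅ PerfLib.resD j ⋙ PerfLib.resD g :=
  haveI : Localization.Lifting DerivedCategory.Q (HomologicalComplex.quasiIso X.Modules (ComplexShape.up ℤ))
      (PerfLib.resC (g ≫ j) ⋙ DerivedCategory.Q) (PerfLib.resD (g ≫ j)) :=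
    ⟨(PerfLib.res (g ≫ j)).mapDerivedCategoryFactors⟩
  haveI : Localization.Lifting DerivedCategory.Q (HomologicalComplex.quasiIso X.Modules (ComplexShape.up ℤ))
      ((PerfLib.resC j ⋙ PerfLib.resC g) ⋙ DerivedCategory.Q) (PerfLib.resD j ⋙ PerfLib.resD g) :=
    ⟨(Functor.associator _ _ _).symm ≪≫
      Functor.isoWhiskerRight (PerfLib.res j).mapDerivedCategoryFactors _ ≪≫ Functor.associator _ _ _ ≪≫
      Functor.isoWhiskerLeft _ (PerfLib.res g).mapDerivedCategoryFactors ≪≫ (Functor.associator _ _ _).symm⟩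
  Localization.liftNatIso DerivedCategory.Q (HomologicalComplex.quasiIso X.Modules (ComplexShape.up ℤ))
    (PerfLib.resC (g ≫ j) ⋙ DerivedCategory.Q) ((PerfLib.resC j ⋙ PerfLib.resC g) ⋙ DerivedCategory.Q) _ _
    (Functor.isoWhiskerRight (PerfLib.resCComp g j) _)

/-- Restriction along equal maps, as functors on derived categories. -/
noncomputable def resDCongr {f g : V ⟶ X} [IsOpenImmersion f] [IsOpenImmersion g] (h : f = g) :
    PerfLib.resD f ≅ PerfLib.resD g :=
  Localization.liftNatIso DerivedCategory.Q (HomologicalComplex.quasiIso X.Modules (ComplexShape.up ℤ))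
    (PerfLib.resC f ⋙ DerivedCategory.Q) (PerfLib.resC g ⋙ DerivedCategory.Q) _ _
    (Functor.isoWhiskerRight (PerfLib.resCCongr h) _)

end Comp

theorem isPerfect_of_restrictD_iso {W : Scheme.{u}} (j : W ⟶ X) [IsIso j] {K : DCoh.D X}
    (h : DCoh.IsPerfect ((DCoh.restrictD j).obj K)) : DCoh.IsPerfect K := by
  obtain ⟨c⟩ := PerfLib.nonempty_resD_comp (inv j) j K
  obtain ⟨c'⟩ := PerfLib.nonempty_resD_congr (IsIso.inv_hom_id j) K
  obtain ⟨c''⟩ := TildePCLib.nonempty_resD_id K
  exact PerfLib.isPerfect_of_iso (c.symm ≪≫ c' ≪≫ c'') (isPerfect_restrictD (inv j) h)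

/-- Data lifted along an open immersion `u`. -/
def HasLift {Z : Scheme.{u}} (u : Z ⟶ X) [IsOpenImmersion u] : Prop :=
  ∀ (T : Set X), IsClosed T → IsRetrocompact Tᶜ → ∀ (E : DCoh.D X), DCoh.IsQCohD E →
    ∀ (P : DCoh.D Z), DCoh.IsPerfect P → (∀ i : ℤ, CohB1.support (DCoh.HD P i) ⊆ {z : Z | u z ∈ T}) →
      ∀ α : P ⟶ (DCoh.restrictD u).obj E,
        ∃ (R : DCoh.D X) (β : R ⟶ E) (i : P ⟶ (DCoh.restrictD u).obj R) (p : (DCoh.restrictD u).obj R ⟶ P),
          DCoh.IsPerfect R ∧ (∀ k : ℤ, CohB1.support (DCoh.HD R k) ⊆ T) ∧ i ≫ p = 𝟙 P ∧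
            i ≫ (DCoh.restrictD u).map β = α

theorem HasLift.congr {Z : Scheme.{u}} {u v : Z ⟶ X} [IsOpenImmersion u] [IsOpenImmersion v] (h : u = v)
    (hu : HasLift u) : HasLift v := by
  subst h
  exact hu

/-- One affine open more. -/
theorem hasLift_affine {Z : Scheme.{u}} (u : Z ⟶ X) [IsOpenImmersion u] (V : X.Opens) (hV : IsAffineOpen V)
    (huV : IsCompact ((u.opensRange ⊓ V : X.Opens) : Set X)) (hcov : u.opensRange ⊔ V = ⊤) : HasLift u := by
  intro T hT hTr E hE P hP hPT α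
  let U := u.opensRange
  let κ := u.isoOpensRange.hom
  have hκ : κ ≫ U.ι = u := Scheme.Hom.isoOpensRange_hom_ι u
  let c : DCoh.restrictD u ≅ DCoh.restrictD U.ι ⋙ DCoh.restrictD κ :=
    (resDCongr hκ).symm ≪≫ resDComp κ U.ι
  obtain ⟨PU, -, ⟨d⟩⟩ := exists_restrictD_iso κ (isQCohD_of_isPerfect hP)
  haveI := (full_restrictD_iso κ).1
  obtain ⟨αU, hαU⟩ := (DCoh.restrictD κ).map_surjective (d.hom ≫ α ≫ c.hom.app E)
  have hPU : DCoh.IsPerfect PU := isPerfect_of_restrictD_iso κ (PerfLib.isPerfect_of_iso d.symm hP)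
  have hPUT : ∀ i : ℤ, CohB1.support (DCoh.HD PU i) ⊆ {v : ↥(U : Scheme.{u}) | U.ι.base v ∈ T} := by
    intro i v hv
    obtain ⟨z, rfl⟩ : ∃ z, κ z = v := (Scheme.homeoOfIso u.isoOpensRange).surjective v
    have h1 : z ∈ CohB1.support (DCoh.HD ((DCoh.restrictD κ).obj PU) i) := by
      rw [DCohRestrLib.support_HD_restrictD]
      exact hv
    have h2 : u z ∈ T := hPT i fun h => h1 ((DCohRestrLib.subsingleton_stalk_of_iso
      ((DerivedCategory.homologyFunctor _ i).mapIso d) z).2 h)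
    rw [← hκ] at h2
    exact h2
  obtain ⟨R, β, e, hR, hRT, hβ⟩ := exists_extend_map U V hV huV hcov hT
    (by rw [Set.inter_comm]; exact hTr hV.isCompact V.isOpen) hPU hPUT E hE αU 0
  refine ⟨R, β, d.inv ≫ (DCoh.restrictD κ).map (biprod.inl ≫ e.inv) ≫ c.inv.app R,
    c.hom.app R ≫ (DCoh.restrictD κ).map (e.hom ≫ biprod.fst) ≫ d.hom, hR, hRT, ?_, ?_⟩
  · simp only [Category.assoc, Iso.inv_hom_id_app_assoc]
    rw [← Functor.map_comp_assoc, Category.assoc, Iso.inv_hom_id_assoc, biprod.inl_fst,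
      CategoryTheory.Functor.map_id, Category.id_comp, Iso.inv_hom_id]
  · have hn : c.inv.app R ≫ (DCoh.restrictD u).map β =
        (DCoh.restrictD κ).map ((DCoh.restrictD U.ι).map β) ≫ c.inv.app E := (c.inv.naturality β).symm
    rw [Category.assoc, Category.assoc, hn, hβ, ← Functor.map_comp_assoc, Category.assoc,
      Iso.inv_hom_id_assoc, biprod.inl_fst_assoc, hαU, Category.assoc, Category.assoc,
      Iso.hom_inv_id_app, Iso.inv_hom_id_assoc]
    exact Category.comp_id α

/-- Composing lifts. -/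
theorem HasLift.comp {Z Y : Scheme.{u}} (l : Z ⟶ Y) [IsOpenImmersion l] (j : Y ⟶ X) [IsOpenImmersion j]
    [CompactSpace Y] (hl : HasLift l) (hj : HasLift j) : HasLift (l ≫ j) := by
  intro T hT hTr E hE P hP hPT α
  let c := resDComp l j
  have hTr' : IsRetrocompact ((fun y : Y => j y) ⁻¹' T)ᶜ := by
    intro O hOc hOo
    rw [j.isOpenEmbedding.isEmbedding.isCompact_iff]
    have h2 : (fun y : Y => j y) '' (((fun y : Y => j y) ⁻¹' T)ᶜ ∩ O) = Tᶜ ∩ ((fun y : Y => j y) '' O) := by
      ext x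
      constructor
      · rintro ⟨v, ⟨hv, hvO⟩, rfl⟩
        exact ⟨hv, v, hvO, rfl⟩
      · rintro ⟨hx, v, hv, rfl⟩
        exact ⟨v, ⟨hx, hv⟩, rfl⟩
    exact h2 ▸ hTr (hOc.image j.continuous) (j.isOpenEmbedding.isOpenMap O hOo)
  obtain ⟨R', β', i', p', hR', hR'T, hip', hiβ'⟩ := hl ((fun y : Y => j y) ⁻¹' T) (hT.preimage j.continuous)
    hTr' ((DCoh.restrictD j).obj E) (isQCohD_restrictD j hE) P hP (fun i z hz => hPT i hz) (α ≫ c.hom.app E)
  obtain ⟨R, β, i, p, hR, hRT, hip, hiβ⟩ := hj T hT hTr E hE R' hR' hR'T β'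
  refine ⟨R, β, i' ≫ (DCoh.restrictD l).map i ≫ c.inv.app R, c.hom.app R ≫ (DCoh.restrictD l).map p ≫ p',
    hR, hRT, ?_, ?_⟩
  · simp only [Category.assoc, Iso.inv_hom_id_app_assoc]
    rw [← Functor.map_comp_assoc, hip, CategoryTheory.Functor.map_id, Category.id_comp, hip']
  · have hn : c.inv.app R ≫ (DCoh.restrictD (l ≫ j)).map β =
        (DCoh.restrictD l).map ((DCoh.restrictD j).map β) ≫ c.inv.app E := (c.inv.naturality β).symm
    rw [Category.assoc, Category.assoc, hn, ← Functor.map_comp_assoc, hiβ, ← Category.assoc, hiβ',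
      Category.assoc, Iso.hom_inv_id_app]
    exact Category.comp_id α

/-- An isomorphism lifts everything. -/
theorem hasLift_iso {Z : Scheme.{u}} (u : Z ⟶ X) [IsIso u] : HasLift u := by
  intro T hT hTr E hE P hP hPT α
  obtain ⟨R, -, ⟨d⟩⟩ := exists_restrictD_iso u (isQCohD_of_isPerfect hP)
  haveI := (full_restrictD_iso u).1
  obtain ⟨β, hβ⟩ := (DCoh.restrictD u).map_surjective (d.hom ≫ α)
  refine ⟨R, β, d.inv, d.hom, isPerfect_of_restrictD_iso u (PerfLib.isPerfect_of_iso d.symm hP),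
    fun k x hx => ?_, d.inv_hom_id, by rw [hβ, Iso.inv_hom_id_assoc]⟩
  obtain ⟨z, rfl⟩ : ∃ z, u z = x := (Scheme.homeoOfIso (asIso u)).surjective x
  have h1 : z ∈ CohB1.support (DCoh.HD ((DCoh.restrictD u).obj R) k) := by
    rw [DCohRestrLib.support_HD_restrictD]
    exact hx
  exact hPT k fun h => h1 ((DCohRestrLib.subsingleton_stalk_of_iso
    ((DerivedCategory.homologyFunctor _ k).mapIso d) z).2 h)

/-- On a qcqs scheme every quasi-compact open immersion lifts. -/
theorem hasLift_of_qcqs [CompactSpace ↥X] [QuasiSeparatedSpace ↥X] {Z : Scheme.{u}} (u : Z ⟶ X)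
    [IsOpenImmersion u] [CompactSpace Z] : HasLift u := by
  suffices h : ∀ (S : X.Opens), IsCompact (S : Set X) →
      ∀ (Z : Scheme.{u}) (u : Z ⟶ X) [IsOpenImmersion u] [CompactSpace Z], u.opensRange ⊔ S = ⊤ → HasLift u from
    h ⊤ isCompact_univ Z u (sup_top_eq _)
  intro S hS
  refine compact_open_induction_on
    (P := fun S => ∀ (Z : Scheme.{u}) (u : Z ⟶ X) [IsOpenImmersion u] [CompactSpace Z],
      u.opensRange ⊔ S = ⊤ → HasLift u) S hS ?_ ?_
  · intro Z u _ _ hu
    rw [sup_bot_eq] at hu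
    haveI : IsIso u := by
      haveI : Epi u.base := (TopCat.epi_iff_surjective _).2 fun x => by
        have hx : x ∈ u.opensRange := by rw [hu]; trivial
        exact hx
      exact IsOpenImmersion.isIso u
    exact hasLift_iso u
  · intro S hS V ih Z u _ _ hu
    let Y : X.Opens := u.opensRange ⊔ V.1
    have hYc : IsCompact (Y : Set X) := by
      rw [Opens.coe_sup]
      exact (isCompact_range u.continuous).union V.2.isCompact
    haveI : CompactSpace (Y : Scheme.{u}) := isCompact_iff_compactSpace.mp hYc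
    have hr : Set.range u ⊆ Set.range Y.ι := by
      rw [Scheme.Opens.range_ι]
      exact fun x hx => Or.inl hx
    let l := IsOpenImmersion.lift Y.ι u hr
    have hl : l ≫ Y.ι = u := IsOpenImmersion.lift_fac _ _ hr
    haveI : IsOpenImmersion l :=
      haveI : IsOpenImmersion (l ≫ Y.ι) := by rw [hl]; infer_instance
      IsOpenImmersion.of_comp l Y.ι
    have hY : HasLift Y.ι := ih (Y : Scheme.{u}) Y.ι (by
      rw [Scheme.Opens.opensRange_ι, ← hu]
      simp only [Y, sup_assoc]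
      rw [sup_comm V.1 S])
    have hl' : HasLift l := by
      refine hasLift_affine l (Y.ι ⁻¹ᵁ V.1)
        (V.2.preimage_of_isOpenImmersion Y.ι (by rw [Scheme.Opens.opensRange_ι]; exact le_sup_right)) ?_ ?_
      · rw [Y.ι.isOpenEmbedding.isEmbedding.isCompact_iff]
        have h2 : (fun y : (Y : Scheme.{u}) => Y.ι y) '' ((l.opensRange ⊓ Y.ι ⁻¹ᵁ V.1 : (Y : Scheme.{u}).Opens) : Set _) =
            Set.range u ∩ (V.1 : Set X) := by
          ext x
          constructor
          · rintro ⟨y, ⟨⟨z, rfl⟩, hy⟩, rfl⟩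
            exact ⟨⟨z, by rw [← hl]; rfl⟩, hy⟩
          · rintro ⟨⟨z, rfl⟩, hx⟩
            have hz : Y.ι (l z) = u z := by rw [← hl]; rfl
            exact ⟨l z, ⟨⟨z, rfl⟩, (hz ▸ hx : Y.ι (l z) ∈ (V.1 : Set X))⟩, hz⟩
        rw [h2]
        exact (isCompact_range u.continuous).inter_of_isOpen V.2.isCompact u.isOpenEmbedding.isOpen_range V.1.isOpen
      · rw [eq_top_iff]
        rintro y -
        rcases (show Y.ι y ∈ u.opensRange ⊔ V.1 from y.2) with ⟨z, hz⟩ | h
        · refine Or.inl ⟨z, Y.ι.isOpenEmbedding.injective ?_⟩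
          rw [← hz, ← hl]
          rfl
        · exact Or.inr h
    exact HasLift.congr hl (HasLift.comp l Y.ι hl' hY)

end Groth.Agent.KoszOrthLib
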