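import Groth.Agent.KoszOrthLib.Window
import Groth.Agent.PicPnLib.Twist
import Groth.Agent.FormalCohLib.ProjAmple

/-!
# The twists `O, O(-1), …, O(-n)` generate on projective space
-/

set_option autoImplicit false
set_option linter.style.haveILetI false
set_option backward.isDefEq.respectTransparency false
set_option backward.isDefEq.respectTransparency.types false
set_option maxHeartbeats 1000000

universe u

open CategoryTheory CategoryTheory.Limits AlgebraicGeometry TopologicalSpace CategoryTheory.Pretriangulated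
open scoped ZeroObject

attribute [local instance] HasDerivedCategory.standard

namespace Groth.Agent.KoszOrthLib

theorem additive_iterT {X : Scheme.{u}} (L : X.Modules) [PreservesFiniteLimits (DCoh.tensorRightMod L)]
    [PreservesFiniteColimits (DCoh.tensorRightMod L)] : ∀ k, (iterT L k).Additive
  | 0 => inferInstanceAs (𝟭 (DCoh.D X)).Additive
  | k + 1 => by
    haveI := additive_iterT L k
    exact inferInstanceAs (iterT L k ⋙ TD L).Additive

variable (n : ℕ) (R : Type u) [CommRing R]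

/-- `O(1)`. -/
noncomputable abbrev O1 : (CohB1.ProjSpace n R).Modules := Twist.twistProjSpace n R 1

/-- `O(d)` in degree zero. -/
noncomputable abbrev OD (d : ℤ) : DCoh.D (CohB1.ProjSpace n R) := DCoh.inD _ (Twist.twistProjSpace n R d)

instance preservesFiniteLimits_O1 : PreservesFiniteLimits (DCoh.tensorRightMod (O1 n R)) :=
  preservesFiniteLimits_tensorRightMod (PicPnLib.twist_inv n R 1)

instance preservesFiniteColimits_O1 : PreservesFiniteColimits (DCoh.tensorRightMod (O1 n R)) :=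
  preservesFiniteColimits_tensorRightMod (PicPnLib.twist_inv n R 1)

/-- The coordinate sections. -/
noncomputable def coordSec (j : Fin (n + 1)) : Γ(O1 n R, ⊤) :=
  Twist.globalOf (CohB1.polyGrading n R) (i := 1) ⟨MvPolynomial.X j, MvPolynomial.isHomogeneous_X R j⟩

theorem genAt_coordSec_iff (j : Fin (n + 1)) (x : CohB1.ProjSpace n R) :
    AmpleLib.GenAt (O1 n R) (coordSec n R j) (show x ∈ (⊤ : (CohB1.ProjSpace n R).Opens) from trivial) ↔
      x ∈ Proj.basicOpen (CohB1.polyGrading n R) (MvPolynomial.X j) := by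
  obtain ⟨k, hk⟩ := Opens.mem_iSup.mp
    (show x ∈ ⨆ i : Fin (n + 1), Proj.basicOpen (CohB1.polyGrading n R) (MvPolynomial.X i) by
      exact (QCohLib.iSup_stdOpen n R).symm ▸ (trivial : x ∈ (⊤ : (CohB1.ProjSpace n R).Opens)))
  let 𝒜 := CohB1.polyGrading n R
  let u : TwistLib.Unit' 𝒜 1 (Proj.basicOpen 𝒜 (MvPolynomial.X k)) :=
    ⟨1, 0, MvPolynomial.X k, 1, MvPolynomial.isHomogeneous_X R k, SetLike.GradedOne.one_mem, by simp,
      fun z => z.2, fun z h => z.1.isPrime.ne_top ((Ideal.eq_top_iff_one _).mpr h)⟩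
  exact TwistLib.genAt_globalOf (𝒜 := 𝒜) (i := 1)
    (a := ⟨MvPolynomial.X j, MvPolynomial.isHomogeneous_X R j⟩) u hk

theorem exists_genAt_coordSec (x : CohB1.ProjSpace n R) :
    ∃ σ ∈ List.ofFn (coordSec n R),
      AmpleLib.GenAt (O1 n R) σ (show x ∈ (⊤ : (CohB1.ProjSpace n R).Opens) from trivial) := by
  obtain ⟨k, hk⟩ := Opens.mem_iSup.mp
    (show x ∈ ⨆ i : Fin (n + 1), Proj.basicOpen (CohB1.polyGrading n R) (MvPolynomial.X i) by
      exact (QCohLib.iSup_stdOpen n R).symm ▸ (trivial : x ∈ (⊤ : (CohB1.ProjSpace n R).Opens)))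
  exact ⟨_, List.mem_ofFn.2 ⟨k, rfl⟩, (genAt_coordSec_iff n R k x).2 hk⟩

/-- Twisting `O(a)` by `r`. -/
theorem nonempty_iterT_OD (a : ℤ) : ∀ r : ℕ, Nonempty ((iterT (O1 n R) r).obj (OD n R a) ≅ OD n R (a + r))
  | 0 => ⟨eqToIso (congrArg (OD n R) (by simp : a = a + ((0 : ℕ) : ℤ)))⟩
  | r + 1 => by
    obtain ⟨e⟩ := nonempty_iterT_OD a r
    obtain ⟨c⟩ := PicPnLib.twist_add n R (a + r) 1
    exact ⟨(TD (O1 n R)).mapIso e ≪≫
      ((DCoh.tensorRightMod (O1 n R)).mapDerivedCategorySingleFunctor 0).app (Twist.twistProjSpace n R (a + r)) ≪≫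
        (DerivedCategory.singleFunctor _ 0).mapIso c ≪≫
          eqToIso (congrArg (OD n R) (by push_cast; ring))⟩

/-- A triangulated class with `n + 1` consecutive twists contains the ones below them. -/
theorem prop_OD_of_window {Q : DCoh.D (CohB1.ProjSpace n R) → Prop} (hQ : TriClosed Q) (b : ℤ)
    (h : ∀ j : ℕ, j ≤ n → Q (OD n R (b - j))) : ∀ j : ℕ, Q (OD n R (b - j)) := by
  intro j
  induction j using Nat.strong_induction_on with
  | _ j ih =>
    by_cases hj : j ≤ n
    · exact h j hj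
    · refine prop_of_twists (O1 n R) (PicPnLib.twist_inv n R 1) hQ (List.ofFn (coordSec n R)) _ Set.univ
        isClosed_univ (fun i => Set.subset_univ _) (fun y _ => exists_genAt_coordSec n R y) fun r h1 h2 => ?_
      rw [List.length_ofFn] at h2
      obtain ⟨e⟩ := nonempty_iterT_OD n R (b - j) r
      refine hQ.of_iso e.symm ?_
      have : b - (j : ℤ) + r = b - ((j - r : ℕ) : ℤ) := by omega
      rw [this]
      exact ih (j - r) (by omega)

/-- Orthogonality to `K` in all degrees. -/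
theorem triClosed_orth {X : Scheme.{u}} (K : DCoh.D X) :
    TriClosed (fun E : DCoh.D X => ∀ (m : ℤ) (φ : E ⟶ K⟦m⟧), φ = 0) where
  of_iso e h m φ := zero_of_epi_comp e.hom (h m _)
  zero m φ := (isZero_zero _).eq_of_src _ _
  obj₁ T hT h₂ h₃ m φ := by
    obtain ⟨ψ, hψ⟩ := Triangle.yoneda_exact₂ _ (inv_rot_of_distTriang _ hT) φ ((forall_shift_iff T.obj₃ (K⟦m⟧) (-1) 1 (by omega)).2
      (fun ξ => zero_of_comp_mono ((shiftFunctorAdd' (DCoh.D X) m 1 (m + 1) rfl).app K).inv (h₃ _ _)) _)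
    rw [hψ, h₂ m ψ]
    exact comp_zero
  obj₃ T hT h₁ h₂ m φ := by
    obtain ⟨ψ, hψ⟩ := Triangle.yoneda_exact₃ _ hT φ (h₂ m _)
    rw [hψ, (forall_shift_iff T.obj₁ (K⟦m⟧) 1 (-1) (by omega)).2
      (fun ξ => zero_of_comp_mono ((shiftFunctorAdd' (DCoh.D X) m (-1) (m + -1) rfl).app K).inv (h₁ _ _)) ψ]
    exact comp_zero

/-- The twists `O(0), …, O(-n)` generate. -/
theorem isZero_of_orth_twists (K : DCoh.D (CohB1.ProjSpace n R)) (hK : DCoh.IsQCohD K)
    (h : ∀ (d : ℕ), d ≤ n → ∀ (m : ℤ) (φ : OD n R (-(d : ℤ)) ⟶ K⟦m⟧), φ = 0) : IsZero K := by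
  let P := CohB1.ProjSpace n R
  let L := O1 n R
  have hL : PicF.IsInvertible L := PicPnLib.twist_inv n R 1
  haveI : CompactSpace ↥P := (FormalCohLib.isAmple_twistProjSpace n R).2.1
  haveI : IsProper (CohB1.ProjSpace.toSpec n R) := FormalCohLib.isProper_projToSpec n R
  haveI : QuasiSeparatedSpace ↥P := quasiSeparatedSpace_of_quasiSeparated (CohB1.ProjSpace.toSpec n R)
  have hall : ∀ j : ℕ, ∀ (m : ℤ) (φ : OD n R (-(j : ℤ)) ⟶ K⟦m⟧), φ = 0 := by
    intro j
    have := prop_OD_of_window n R (triClosed_orth K) 0 (fun j hj => by rw [zero_sub]; exact h j hj) j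
    rwa [zero_sub] at this
  obtain ⟨c₀⟩ := PicPnLib.twist_zero n R
  have hno : NoTwistHom P L K := fun m k φ => by
    haveI := isEquivalence_iterT hL k
    obtain ⟨e⟩ := nonempty_iterT_OD n R (-(k : ℤ)) k
    let e' : (iterT L k).obj (OD n R (-(k : ℤ))) ≅ DCoh.inD P (Coh.structureModule P) :=
      e ≪≫ eqToIso (congrArg (OD n R) (by omega)) ≪≫ (DerivedCategory.singleFunctor _ 0).mapIso c₀
    obtain ⟨ψ, hψ⟩ := (iterT L k).map_surjective (e'.hom ≫ φ)
    have h0 : (iterT L k).map ψ = 0 := by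
      rw [hall k m ψ]
      haveI := additive_iterT L k
      exact (iterT L k).map_zero _ _
    exact zero_of_epi_comp e'.hom (hψ.symm.trans h0)
  refine (DCohRestrLib.isZero_iff_HD K).2 fun i => ?_
  rw [DCohRestrLib.isZero_iff_support_empty, Set.eq_empty_iff_forall_notMem]
  intro x
  obtain ⟨j, hj⟩ := Opens.mem_iSup.mp
    (show x ∈ ⨆ i : Fin (n + 1), Proj.basicOpen (CohB1.polyGrading n R) (MvPolynomial.X i) by
      exact (QCohLib.iSup_stdOpen n R).symm ▸ (trivial : x ∈ (⊤ : (CohB1.ProjSpace n R).Opens)))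
  exact notMem_support_of_noTwistHom L (coordSec n R j) hL _
    (fun y => (genAt_coordSec_iff n R j y).symm)
    (Proj.isAffineOpen_basicOpen _ (MvPolynomial.X j) (MvPolynomial.isHomogeneous_X R j) one_pos) K hK hno i x hj

end Groth.Agent.KoszOrthLib
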