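import Groth.Agent.KoszOrthLib.Lift
import Groth.Agent.KiehlLib.Base
import Groth.Agent.RelFlatLib.Absolute

/-!
# Maps from perfect objects to very negative quasi-coherent objects vanish
-/

set_option autoImplicit false
set_option linter.style.haveILetI false
set_option backward.isDefEq.respectTransparency false
set_option backward.isDefEq.respectTransparency.types false
set_option maxHeartbeats 1000000

universe u

open CategoryTheory CategoryTheory.Limits AlgebraicGeometry CategoryTheory.Pretriangulated TopologicalSpace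
open DerivedCategory.TStructure (t)

attribute [local instance] HasDerivedCategory.standard

namespace Groth.Agent.KoszOrthLib

theorem isQCohD_of_isPerfect {X : Scheme.{u}} {F : DCoh.D X} (h : DCoh.IsPerfect F) : DCoh.IsQCohD F :=
  KiehlLib.isQCohD_of_isPC fun m => RelFlatLib.isPC_of_isPerfect h m

section Module

variable {A : Type u} [CommRing A]

/-- Maps from a perfect complex to a sufficiently negative complex vanish. -/
theorem exists_hom_eq_zero_module {P : DerivedCategory (ModuleCat.{u} A)} (hP : DRing.IsPerfect A P) :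
    ∃ N : ℤ, ∀ M : DerivedCategory (ModuleCat.{u} A), M.IsLE N → ∀ φ : P ⟶ M, φ = 0 := by
  refine perfect_induction (Φ := fun P => ∃ N : ℤ, ∀ M : DerivedCategory (ModuleCat.{u} A), M.IsLE N →
    ∀ φ : P ⟶ M, φ = 0)
    ⟨fun {K L} e h => ?_, fun {K} hK => ⟨0, fun M _ φ => hK.eq_of_src _ _⟩, fun T hT h₁ h₃ => ?_⟩
    (fun n K h => ?_) (fun {K L} i r hir h => ?_) ?_ hP
  · exact h.imp fun N hN M hM φ => by rw [← cancel_epi e.hom, comp_zero, hN M hM (e.hom ≫ φ)]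
  · obtain ⟨N₁, hN₁⟩ := h₁
    obtain ⟨N₃, hN₃⟩ := h₃
    refine ⟨min N₁ N₃, fun M hM φ => ?_⟩
    haveI := hM
    obtain ⟨ψ, hψ⟩ := Triangle.yoneda_exact₂ T hT φ
      (hN₁ M (t.isLE_of_le M _ _ (min_le_left N₁ N₃)) _)
    rw [hψ, hN₃ M (t.isLE_of_le M _ _ (min_le_right N₁ N₃)) ψ, comp_zero]
  · obtain ⟨N, hN⟩ := h
    refine ⟨N - n, fun M hM φ => ?_⟩
    haveI := hM
    exact (forall_shift_iff K M n (-n) (by omega)).2
      (hN _ (t.isLE_shift M (N - n) (-n) N (by omega))) φ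
  · exact h.imp fun N hN M hM φ => by
      rw [← Category.id_comp φ, ← hir, Category.assoc, hN M hM (r ≫ φ), comp_zero]
  · refine ⟨-1, fun M hM φ => ?_⟩
    haveI := hM
    rw [← cancel_mono ((shiftFunctorZero _ ℤ).app M).inv, zero_comp]
    exact (orth_nil_iff M 0).2 (DerivedCategory.isZero_of_isLE M (-1) 0 (by omega)) _

end Module

section Affine

variable {Y : Scheme.{u}} [IsAffine Y]

theorem isZero_HD_tX_iff (i : ℤ) (M : DerivedCategory (ModuleCat.{u} (AX Y))) :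
    IsZero (DCoh.HD ((tX Y).obj M) i) ↔
      IsZero ((DerivedCategory.homologyFunctor (ModuleCat.{u} (AX Y)) i).obj M) := by
  rw [DCohRestrLib.isZero_iff_support_empty, ModuleCat.isZero_iff_subsingleton, Set.eq_empty_iff_forall_notMem]
  refine Iff.trans ?_ (Iff.trans (torsion_iff_support i M 1).symm ?_)
  · exact ⟨fun h x _ => h x, fun h x => h x (by rw [Scheme.basicOpen_of_isUnit _ isUnit_one]; trivial)⟩
  · exact ⟨fun h => subsingleton_of_forall_eq 0 fun m => by simpa using (h m).choose_spec,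
      fun h m => ⟨0, Subsingleton.elim _ _⟩⟩

theorem exists_hom_eq_zero_affine {F : DCoh.D Y} (hF : DCoh.IsPerfect F) :
    ∃ N : ℤ, ∀ Z : DCoh.D Y, DCoh.IsQCohD Z → Z.IsLE N → ∀ φ : F ⟶ Z, φ = 0 := by
  obtain ⟨P, ⟨eP⟩⟩ := exists_tX_iso (isQCohD_of_isPerfect hF)
  obtain ⟨N, hN⟩ := exists_hom_eq_zero_module (isPerfect_of_tX (PerfLib.isPerfect_of_iso eP.symm hF))
  refine ⟨N, fun Z hZ hle φ => ?_⟩
  obtain ⟨M, ⟨eM⟩⟩ := exists_tX_iso hZ
  haveI := hle
  have hM : M.IsLE N := (DerivedCategory.isLE_iff M N).2 fun i hi =>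
    (isZero_HD_tX_iff i M).1 ((DerivedCategory.isZero_of_isLE Z N i hi).of_iso
      ((DerivedCategory.homologyFunctor Y.Modules i).mapIso eM))
  obtain ⟨φ₀, hφ₀⟩ := (tX Y).map_surjective (eP.hom ≫ φ ≫ eM.inv)
  rw [← cancel_epi eP.hom, ← cancel_mono eM.inv, Category.assoc, ← hφ₀, hN M hM φ₀, Functor.map_zero,
    comp_zero, zero_comp]

end Affine

theorem isLE_restrictD {W Y : Scheme.{u}} (j : W ⟶ Y) [IsOpenImmersion j] (Z : DCoh.D Y) (N : ℤ)
    (hZ : Z.IsLE N) : ((DCoh.restrictD j).obj Z).IsLE N :=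
  haveI := hZ
  (DerivedCategory.isLE_iff _ N).2 fun i hi =>
    ((Scheme.Modules.restrictFunctor j).map_isZero (DerivedCategory.isZero_of_isLE Z N i hi)).of_iso
      (DCohRestrLib.restrictHDIso j Z i)

/-- The vanishing on a union of two opens. -/
theorem hom_eq_zero_of_cover {Y : Scheme.{u}} (U V : Y.Opens) (hUV : U ⊔ V = ⊤) (F Z : DCoh.D Y)
    (hU : ∀ φ : (DCoh.restrictD U.ι).obj F ⟶ (DCoh.restrictD U.ι).obj Z, φ = 0)
    (hV : ∀ φ : (DCoh.restrictD V.ι).obj F ⟶ (DCoh.restrictD V.ι).obj Z, φ = 0)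
    (hW : ∀ φ : (DCoh.restrictD (U ⊓ V).ι).obj (F⟦(1 : ℤ)⟧) ⟶ (DCoh.restrictD (U ⊓ V).ι).obj Z, φ = 0)
    (φ : F ⟶ Z) : φ = 0 := by
  haveI := DCohRestrLib.hasRpush U.ι
  haveI := DCohRestrLib.hasRpush V.ι
  haveI := DCohRestrLib.hasRpush (U ⊓ V).ι
  obtain ⟨T, hT, ⟨e₁⟩, ⟨e₂⟩, ⟨e₃⟩⟩ := DCohRestrLib.exists_mv_push U V hUV Z
  have hT' := inv_rot_of_distTriang _ hT
  have h2 : ∀ ψ : F ⟶ T.obj₂, ψ = 0 := fun ψ => by
    rw [← cancel_mono e₂.hom, zero_comp]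
    apply biprod.hom_ext
    · rw [zero_comp]
      exact ((restrictRpushAdj U.ι).homEquiv _ _).symm.injective ((hU _).trans (hU _).symm)
    · rw [zero_comp]
      exact ((restrictRpushAdj V.ι).homEquiv _ _).symm.injective ((hV _).trans (hV _).symm)
  have h3 : ∀ ψ : F ⟶ T.obj₃⟦(-1 : ℤ)⟧, ψ = 0 := by
    refine (forall_shift_iff F T.obj₃ 1 (-1) (by omega)).1 fun ψ => ?_
    rw [← cancel_mono e₃.hom, zero_comp]
    exact ((restrictRpushAdj (U ⊓ V).ι).homEquiv _ _).symm.injective ((hW _).trans (hW _).symm)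
  obtain ⟨ψ, hψ⟩ := Triangle.coyoneda_exact₂ _ hT' (φ ≫ e₁.inv) (h2 _)
  rw [← cancel_mono e₁.inv, zero_comp, hψ, h3 ψ]
  exact zero_comp

/-- Maps from a perfect object to a sufficiently negative one vanish on quasi-compact opens of affines. -/
theorem exists_hom_eq_zero_of_list {X : Scheme.{u}} [IsAffine X] : ∀ (n : ℕ) (fs : List Γ(X, ⊤)),
    fs.length = n → ∀ (Y : Scheme.{u}) (j : Y ⟶ X) [IsOpenImmersion j],
      (∀ x, x ∈ Set.range j ↔ ∃ f ∈ fs, x ∈ X.basicOpen f) → ∀ F : DCoh.D Y, DCoh.IsPerfect F →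
        ∃ N : ℤ, ∀ Z : DCoh.D Y, DCoh.IsQCohD Z → Z.IsLE N → ∀ φ : F ⟶ Z, φ = 0
  | 0, fs, hn, Y, j, _, hj, F, hF => by
    refine ⟨0, fun Z _ _ φ => ((DCohRestrLib.isZero_iff_HD F).2 fun i => ?_).eq_of_src φ 0⟩
    rw [DCohRestrLib.isZero_iff_support_empty, Set.eq_empty_iff_forall_notMem]
    intro y _
    obtain ⟨f, hf, -⟩ := (hj _).1 ⟨y, rfl⟩
    rw [List.eq_nil_of_length_eq_zero hn] at hf
    exact List.not_mem_nil hf
  | n + 1, fs, hn, Y, j, _, hj, F, hF => by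
    obtain ⟨f, gs, rfl⟩ := List.exists_cons_of_length_eq_add_one hn
    have hgs : gs.length = n := by simpa using hn
    let U : Y.Opens := j ⁻¹ᵁ X.basicOpen f
    let V : Y.Opens := j ⁻¹ᵁ ⨆ g : {g // g ∈ gs}, X.basicOpen g.1
    have hUV : U ⊔ V = ⊤ := by
      rw [eq_top_iff]
      intro y _
      obtain ⟨g, hg, hxg⟩ := (hj _).1 ⟨y, rfl⟩
      rcases List.mem_cons.1 hg with rfl | hg
      · exact Or.inl hxg
      · exact Or.inr (Opens.mem_iSup.2 ⟨⟨g, hg⟩, hxg⟩)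
    haveI : IsAffine (U : Scheme.{u}) :=
      ((isAffineOpen_top X).basicOpen f).preimage_of_isOpenImmersion j
        (fun x hx => (hj x).2 ⟨f, List.mem_cons_self, hx⟩)
    obtain ⟨N₁, hN₁⟩ := exists_hom_eq_zero_affine (isPerfect_restrictD U.ι hF)
    obtain ⟨N₂, hN₂⟩ := exists_hom_eq_zero_of_list n gs hgs V (V.ι ≫ j) (fun x => by
      constructor
      · rintro ⟨v, rfl⟩
        obtain ⟨⟨g, hg⟩, hxg⟩ := Opens.mem_iSup.1 (show j v.1 ∈ ⨆ g : {g // g ∈ gs}, X.basicOpen g.1 from v.2)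
        exact ⟨g, hg, hxg⟩
      · rintro ⟨g, hg, hxg⟩
        obtain ⟨y, rfl⟩ := (hj x).2 ⟨g, List.mem_cons_of_mem f hg, hxg⟩
        exact ⟨⟨y, Opens.mem_iSup.2 ⟨⟨g, hg⟩, hxg⟩⟩, rfl⟩) _ (isPerfect_restrictD V.ι hF)
    obtain ⟨N₃, hN₃⟩ := exists_hom_eq_zero_of_list n (gs.map (f * ·)) (by rw [List.length_map, hgs])
      (U ⊓ V : Y.Opens) ((U ⊓ V).ι ≫ j) (fun x => by
      constructor
      · rintro ⟨v, rfl⟩
        obtain ⟨⟨g, hg⟩, hxg⟩ := Opens.mem_iSup.1 (show j v.1 ∈ ⨆ g : {g // g ∈ gs}, X.basicOpen g.1 from v.2.2)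
        exact ⟨f * g, List.mem_map_of_mem hg, by rw [Scheme.basicOpen_mul]; exact ⟨v.2.1, hxg⟩⟩
      · rintro ⟨h, hh, hxh⟩
        obtain ⟨g, hg, rfl⟩ := List.mem_map.1 hh
        rw [Scheme.basicOpen_mul] at hxh
        obtain ⟨y, rfl⟩ := (hj x).2 ⟨g, List.mem_cons_of_mem f hg, hxh.2⟩
        exact ⟨⟨y, hxh.1, Opens.mem_iSup.2 ⟨⟨g, hg⟩, hxh.2⟩⟩, rfl⟩) _
      (isPerfect_restrictD (U ⊓ V).ι (PerfLib.isPerfect_shift hF 1))
    refine ⟨min N₁ (min N₂ N₃), fun Z hZ hle φ => hom_eq_zero_of_cover U V hUV F Z ?_ ?_ ?_ φ⟩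
    · exact hN₁ _ (isQCohD_restrictD _ hZ) (isLE_restrictD _ _ _
        (haveI := hle; t.isLE_of_le Z _ _ (min_le_left N₁ (min N₂ N₃))))
    · exact hN₂ _ (isQCohD_restrictD _ hZ) (isLE_restrictD _ _ _
        (haveI := hle; t.isLE_of_le Z _ _ ((min_le_right N₁ _).trans (min_le_left N₂ N₃))))
    · exact hN₃ _ (isQCohD_restrictD _ hZ) (isLE_restrictD _ _ _
        (haveI := hle; t.isLE_of_le Z _ _ ((min_le_right N₁ _).trans (min_le_right N₂ N₃))))

/-- Maps from a perfect object to a sufficiently negative one vanish on a quasi-compact open of an affine. -/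
theorem exists_hom_eq_zero_open {X : Scheme.{u}} [IsAffine X] (U : X.Opens) (hU : IsCompact (U : Set X))
    {F : DCoh.D (U : Scheme.{u})} (hF : DCoh.IsPerfect F) :
    ∃ N : ℤ, ∀ Z : DCoh.D (U : Scheme.{u}), DCoh.IsQCohD Z → Z.IsLE N → ∀ φ : F ⟶ Z, φ = 0 := by
  obtain ⟨fs, hfs⟩ := exists_list_zeroLocus (T := (U : Set X)ᶜ) U.2.isClosed_compl (by rwa [compl_compl])
  refine exists_hom_eq_zero_of_list fs.length fs rfl U U.ι (fun x => ?_) F hF
  rw [Scheme.Opens.range_ι, ← not_iff_not, ← Set.mem_compl_iff, hfs, mem_zeroLocus_iff_list]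
  simp

end Groth.Agent.KoszOrthLib
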