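import Groth.Agent.KoszOrthLib.Compact
import Groth.Agent.KoszOrthLib.Gen
import Groth.Agent.PerfHomLib.Van
import Groth.Agent.QRlimLib.Unbounded
import Mathlib.Order.Filter.AtTopBot.Group

/-!
# Boundedness is detected by maps out of perfect objects
-/

set_option autoImplicit false
set_option linter.style.haveILetI false
set_option backward.isDefEq.respectTransparency false
set_option backward.isDefEq.respectTransparency.types false
set_option maxHeartbeats 1000000

universe u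

open CategoryTheory CategoryTheory.Limits AlgebraicGeometry CategoryTheory.Pretriangulated TopologicalSpace
open scoped ZeroObject
open Filter (Eventually)

attribute [local instance] HasDerivedCategory.standard

namespace Groth.Agent.KoszOrthLib

variable {X : Scheme.{u}} {lf : Filter ℤ}

/-- Cohomology vanishes far enough in the direction of `lf`. -/
def EvZero (lf : Filter ℤ) (E : DCoh.D X) : Prop := ∀ᶠ i in lf, IsZero (DCoh.HD E i)

/-- Maps from `K` into far enough shifts of `E` vanish. -/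
def EvV (lf : Filter ℤ) (K E : DCoh.D X) : Prop := ∀ᶠ i in lf, ∀ φ : K ⟶ E⟦i⟧, φ = 0

/-- A direction of `ℤ` along which derived direct images preserve vanishing of cohomology. -/
structure GoodDir (lf : Filter ℤ) : Prop where
  shift : ∀ c : ℤ, Filter.Tendsto (fun i : ℤ => i + c) lf lf
  push : ∀ {Z Y : Scheme.{u}} (f : Z ⟶ Y) [QuasiCompact f] [QuasiSeparated f] [CompactSpace Y]
    [DCoh.HasRpush f] (F : DCoh.D Z), DCoh.IsQCohD F → EvZero lf F → EvZero lf ((DCoh.Rpush f).obj F)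

/-- Vanishing of cohomology is detected by perfect objects with support. -/
def Detects (lf : Filter ℤ) (X : Scheme.{u}) : Prop :=
  ∀ T : Set ↥X, IsClosed T → IsRetrocompact Tᶜ → ∀ E : DCoh.D X, DCoh.IsQCohD E →
    (∀ i : ℤ, CohB1.support (DCoh.HD E i) ⊆ T) →
      (∀ K : DCoh.D X, DCoh.IsPerfect K → (∀ i : ℤ, CohB1.support (DCoh.HD K i) ⊆ T) → EvV lf K E) →
        EvZero lf E

theorem isZero_HD_of_isEmpty [IsEmpty X] (E : DCoh.D X) (i : ℤ) : IsZero (DCoh.HD E i) := by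
  rw [DCohRestrLib.isZero_iff_support_empty, Set.eq_empty_iff_forall_notMem]
  exact fun x => isEmptyElim x

noncomputable def hdShiftIso (E : DCoh.D X) (i j : ℤ) : DCoh.HD (E⟦i⟧) j ≅ DCoh.HD E (i + j) :=
  ((DerivedCategory.homologyFunctor X.Modules 0).shiftIso i j (i + j) rfl).app E

theorem EvZero.shift (h : GoodDir.{u} lf) {E : DCoh.D X} (hE : EvZero lf E) (n : ℤ) : EvZero lf (E⟦n⟧) :=
  ((h.shift n).eventually hE).mono fun i hi => by
    rw [add_comm] at hi
    exact hi.of_iso (hdShiftIso E n i)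

theorem EvZero.ext₂ (T : Triangle (DCoh.D X)) (hT : T ∈ distTriang _) (h₁ : EvZero lf T.obj₁)
    (h₃ : EvZero lf T.obj₃) : EvZero lf T.obj₂ :=
  (h₁.and h₃).mono fun i hi => (DerivedCategory.HomologySequence.exact₂ _ hT i).isZero_of_both_zeros
    (hi.1.eq_of_src _ _) (hi.2.eq_of_tgt _ _)

theorem EvV.of_evZero [CompactSpace X] [QuasiSeparatedSpace X] (h : GoodDir.{u} lf) {K E : DCoh.D X}
    (hK : DCoh.IsPerfect K) (hq : DCoh.IsQCohD E) (hE : EvZero lf E) : EvV lf K E := by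
  obtain ⟨lo, hi, -, hvan⟩ := PerfHomLib.exists_van_of_isPerfect hK
  have h1 : ∀ᶠ i in lf, ∀ j ∈ Finset.Icc lo hi, IsZero (DCoh.HD E (i + j)) :=
    (Filter.eventually_all_finset _).2 fun j _ => (h.shift j).eventually hE
  exact h1.mono fun i hi' φ => hvan (E⟦i⟧) (KFlatLib.isQCohD_shift hq i)
    (fun j h₁ h₂ => (hi' j (Finset.mem_Icc.2 ⟨h₁, h₂⟩)).of_iso (hdShiftIso E i j)) φ

theorem EvV.target (h : GoodDir.{u} lf) {K E : DCoh.D X} (hE : EvV lf K E) (n : ℤ) : EvV lf K (E⟦n⟧) :=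
  ((h.shift n).eventually hE).mono fun i hi φ => by
    let e := ((shiftFunctorAdd' (DCoh.D X) n i (i + n) (by omega)).app E).symm
    exact zero_of_comp_mono e.hom (hi (φ ≫ e.hom))

theorem EvV.source (h : GoodDir.{u} lf) {K E : DCoh.D X} (hE : EvV lf K E) (n : ℤ) : EvV lf (K⟦n⟧) E :=
  ((h.shift (-n)).eventually hE).mono fun i hi =>
    (forall_shift_iff K (E⟦i⟧) n (-n) (by omega)).2 fun φ => by
      let e := ((shiftFunctorAdd' (DCoh.D X) i (-n) (i + -n) rfl).app E).symm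
      exact zero_of_comp_mono e.hom (hi (φ ≫ e.hom))

theorem EvV.target_ext₂ (T : Triangle (DCoh.D X)) (hT : T ∈ distTriang _) {K : DCoh.D X}
    (h₁ : EvV lf K T.obj₁) (h₃ : EvV lf K T.obj₃) : EvV lf K T.obj₂ :=
  (h₁.and h₃).mono fun i hi φ => by
    obtain ⟨ψ, hψ⟩ := Triangle.coyoneda_exact₂ _ (Triangle.shift_distinguished T hT i) φ (hi.2 _)
    rw [hψ, hi.1 ψ]
    exact zero_comp

theorem EvV.source_ext₂ (T : Triangle (DCoh.D X)) (hT : T ∈ distTriang _) {E : DCoh.D X}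
    (h₁ : EvV lf T.obj₁ E) (h₃ : EvV lf T.obj₃ E) : EvV lf T.obj₂ E :=
  (h₁.and h₃).mono fun i hi φ => by
    obtain ⟨ψ, hψ⟩ := Triangle.yoneda_exact₂ _ hT φ (hi.1 _)
    rw [hψ, hi.2 ψ]
    exact comp_zero

theorem EvV.of_retract {K M E : DCoh.D X} (i : K ⟶ M) (r : M ⟶ K) (hir : i ≫ r = 𝟙 K)
    (h : EvV lf M E) : EvV lf K E :=
  h.mono fun n hn φ => by rw [← Category.id_comp φ, ← hir, Category.assoc, hn (r ≫ φ), comp_zero]

/-- From `U` to `U ∪ V`, `V` affine. -/
theorem detects_step (hlf : GoodDir.{u} lf) [QuasiSeparatedSpace ↥X] (U V : X.Opens)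
    (hU : IsCompact (U : Set X)) (hV : IsAffineOpen V)
    (hUV : IsCompact ((U ⊓ V : X.Opens) : Set X)) (hcov : U ⊔ V = ⊤)
    (hGU : Detects lf (U : Scheme.{u})) : Detects lf X := by
  intro T hT hTr E hE hET hev
  haveI : CompactSpace ↥X := isCompact_univ_iff.1 (by
    rw [show (Set.univ : Set X) = (U : Set X) ∪ (V : Set X) by rw [← Opens.coe_sup, hcov]; rfl]
    exact hU.union hV.isCompact)
  haveI : IsAffine (V : Scheme.{u}) := hV
  haveI : CompactSpace (U : Scheme.{u}) := isCompact_iff_compactSpace.mp hU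
  haveI : QuasiCompact U.ι := quasiCompact_of_compactSpace _
  haveI := DCohRestrLib.hasRpush U.ι
  have hTU : IsRetrocompact ((fun v : (U : Scheme.{u}) => U.ι v) ⁻¹' T)ᶜ := by
    intro O hOc hOo
    rw [U.ι.isOpenEmbedding.isEmbedding.isCompact_iff]
    have h2 : (fun v : (U : Scheme.{u}) => U.ι v) '' (((fun v : (U : Scheme.{u}) => U.ι v) ⁻¹' T)ᶜ ∩ O) =
        Tᶜ ∩ ((fun v : (U : Scheme.{u}) => U.ι v) '' O) := by
      ext x
      constructor
      · rintro ⟨v, ⟨hv, hvO⟩, rfl⟩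
        exact ⟨hv, v, hvO, rfl⟩
      · rintro ⟨hx, v, hv, rfl⟩
        exact ⟨v, ⟨hx, hv⟩, rfl⟩
    exact h2 ▸ hTr (hOc.image U.ι.continuous) (U.ι.isOpenEmbedding.isOpenMap O hOo)
  have hTV : IsCompact ((V : Set X) ∩ Tᶜ) := by
    rw [Set.inter_comm]
    exact hTr hV.isCompact V.isOpen
  let S : Set X := T ∩ (U : Set X)ᶜ
  have hS : IsClosed S := hT.inter U.isOpen.isClosed_compl
  have hSV : S ⊆ (V : Set X) := fun x hx => by
    have : x ∈ U ⊔ V := by rw [hcov]; trivial
    exact this.resolve_left hx.2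
  have hSc : IsCompact ((fun v : (V : Scheme.{u}) => V.ι v) ⁻¹' S)ᶜ := by
    refine isCompact_preimage_ι V Sᶜ ?_
    rw [Set.compl_inter, compl_compl, Set.inter_union_distrib_left]
    exact hTV.union (by rwa [Set.inter_comm])
  obtain ⟨l, hl⟩ := exists_list_zeroLocus (hS.preimage V.ι.continuous) hSc
  let K₀ := (tX (V : Scheme.{u})).obj (kA l)
  let K := (CxOX.extZeroD V.ι).obj K₀
  have hK₀ : ∀ i : ℤ, CohB1.support (DCoh.HD K₀ i) ⊆ {v : ↥(V : Scheme.{u}) | V.ι.base v ∈ S} := fun i v hv => by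
    have h1 := (torsAll_iff_support l (kA l)).1 (fun f hf => torsH_koszul f l hf) i hv
    rw [← hl] at h1
    exact h1
  have hKS : ∀ i : ℤ, CohB1.support (DCoh.HD K i) ⊆ S := support_extZeroD_subset V K₀ hK₀
  have hKp : DCoh.IsPerfect K := isPerfect_extZeroD V hS hSV K₀ (isPerfect_tX (isPerfect_kA l)) hK₀
  let adj := restrictRpushAdj U.ι
  obtain ⟨L, ι, d, hL⟩ := distinguished_cocone_triangle₁ (adj.unit.app E)
  have hLU : IsZero ((DCoh.restrictD U.ι).obj L) := by
    haveI := isIso_restrictD_unit U.ι adj E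
    exact (((DCoh.restrictD U.ι).mapTriangle.obj (Triangle.mk ι (adj.unit.app E) d)).isZero₁_iff_isIso₂
      ((DCoh.restrictD U.ι).map_distinguished _ hL)).2 ‹_›
  have hpushT : ∀ i : ℤ, CohB1.support (DCoh.HD ((DCoh.Rpush U.ι).obj ((DCoh.restrictD U.ι).obj E)) i) ⊆ T := by
    intro i x hx
    by_contra hxT
    let O : X.Opens := ⟨Tᶜ, hT.isOpen_compl⟩
    haveI := DCohRestrLib.hasRpush (U.ι ∣_ O)
    obtain ⟨c⟩ := DCohRestrLib.nonempty_restrictD_Rpush U.ι O
    let F := (DCoh.restrictD U.ι).obj E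
    have hF : IsZero ((DCoh.restrictD (U.ι ⁻¹ᵁ O).ι).obj F) :=
      (DCohRestrLib.isZero_restrictD_iff (U.ι ⁻¹ᵁ O) F).2 fun j v hv hs => by
        have hs' : v ∈ CohB1.support (DCoh.HD ((DCoh.restrictD U.ι).obj E) j) := hs
        rw [DCohRestrLib.support_HD_restrictD] at hs'
        exact (show v ∈ U.ι ⁻¹ᵁ O from hv) (hET j hs')
    have hz : IsZero ((DCoh.restrictD O.ι).obj ((DCoh.Rpush U.ι).obj F)) :=
      (DCohRestrLib.isZero_Rpush (U.ι ∣_ O) hF).of_iso (c.app F)
    have hnot := (DCohRestrLib.isZero_restrictD_iff O ((DCoh.Rpush U.ι).obj ((DCoh.restrictD U.ι).obj E))).1 hz i x hxT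
    exact hnot hx
  have hLS : ∀ i : ℤ, CohB1.support (DCoh.HD L i) ⊆ S := fun i x hx =>
    ⟨support_obj₁_subset (Triangle.mk ι (adj.unit.app E) d) hL hT hET hpushT i hx,
      fun hxU => (DCohRestrLib.isZero_restrictD_iff U L).1 hLU i x hxU hx⟩
  have hLq : DCoh.IsQCohD L := KFlatLib.isQCohD₂ (inv_rot_of_distTriang _ hL)
    (KFlatLib.isQCohD_shift (QRlimLib.isQCohD_rpush U.ι (isQCohD_restrictD U.ι hE)) (-1)) hE
  have hKU : IsZero ((DCoh.restrictD U.ι).obj K) :=
    isZero_restrictD_of_support U hKS fun x hx hx' => hx'.2 hx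
  have hKpush : ∀ (F : DCoh.D (U : Scheme.{u})) (k n : ℤ) (φ : K⟦n⟧ ⟶ ((DCoh.Rpush U.ι).obj F)⟦k⟧), φ = 0 := by
    intro F k n φ
    refine (forall_shift_iff (K⟦n⟧) ((DCoh.Rpush U.ι).obj F) (-k) k (by omega)).1 (fun ψ => ?_) φ
    have hz : IsZero ((DCoh.restrictD U.ι).obj ((K⟦n⟧)⟦-k⟧)) :=
      ((shiftFunctor _ (-k)).map_isZero (((shiftFunctor _ n).map_isZero hKU).of_iso
        (((DCoh.restrictD U.ι).commShiftIso n).app _))).of_iso
        (((DCoh.restrictD U.ι).commShiftIso (-k)).app _)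
    exact (adj.homEquiv _ _).symm.injective (hz.eq_of_src _ _)
  have hK : EvV lf K L := by
    refine EvV.target_ext₂ _ (inv_rot_of_distTriang _ hL) (EvV.target hlf ?_ (-1))
      (hev K hKp fun i => (hKS i).trans Set.inter_subset_left)
    refine Filter.Eventually.of_forall fun k φ => ?_
    let c := (shiftFunctorZero (DCoh.D X) ℤ).app K
    exact zero_of_epi_comp c.hom (hKpush _ k 0 (c.hom ≫ φ))
  obtain ⟨M, ⟨eM⟩⟩ := exists_tX_iso (isQCohD_restrictD V.ι hLq)
  haveI : PreservesFiniteLimits (CxOX.extZero V.ι) := PerfCompLib.preservesFiniteLimits_extZero V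
  have hM : TorsAll l M := (torsAll_iff_support l M).2 fun i v hv => by
    rw [← hl]
    have h1 : v ∈ CohB1.support (DCoh.HD ((DCoh.restrictD V.ι).obj L) i) := fun h' => hv
      ((DCohRestrLib.subsingleton_stalk_of_iso ((DerivedCategory.homologyFunctor _ i).mapIso eM) v).2 h')
    rw [DCohRestrLib.support_HD_restrictD] at h1
    exact hLS i h1
  have hLZ : EvZero lf L := hK.mono fun n hn => by
    have horth : Orth l M n := fun ψ => by
      apply (tX (V : Scheme.{u})).map_injective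
      let c := ((tX (V : Scheme.{u})).commShiftIso n).app M
      let c' := ((DCoh.restrictD V.ι).commShiftIso n).app L
      rw [Functor.map_zero, ← cancel_mono c.hom, ← cancel_mono (eM.hom⟦n⟧'), ← cancel_mono c'.inv]
      simp only [zero_comp]
      apply ((DCohRestrLib.adjD V).homEquiv _ _).symm.injective
      exact (hn _).trans (hn _).symm
    have hz : IsZero (DCoh.HD ((DCoh.restrictD V.ι).obj L) n) :=
      ((isZero_HD_tX_iff n M).2 (isZero_homology_of_orth l hM n horth)).of_iso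
        ((DerivedCategory.homologyFunctor _ n).mapIso eM.symm)
    rw [DCohRestrLib.isZero_iff_support_empty] at hz ⊢
    rw [Set.eq_empty_iff_forall_notMem] at hz ⊢
    intro x hx
    refine hz ⟨x, hSV (hLS n hx)⟩ ?_
    rw [DCohRestrLib.support_HD_restrictD]
    exact hx
  let F := (DCoh.restrictD U.ι).obj E
  have hFq : DCoh.IsQCohD F := isQCohD_restrictD U.ι hE
  have hF : EvZero lf F := by
    refine hGU _ (hT.preimage U.ι.continuous) hTU F hFq (fun i v hv => by
      rw [DCohRestrLib.support_HD_restrictD] at hv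
      exact hET i hv) fun P hP hPT => ?_
    obtain ⟨R, -, e, hR, hRT, -⟩ := exists_extend_map U V hV hUV hcov hT hTV hP hPT
      ((DCoh.Rpush U.ι).obj P) (QRlimLib.isQCohD_rpush U.ι (isQCohD_of_isPerfect hP)) 0 0
    have hRp : EvV lf R ((DCoh.Rpush U.ι).obj F) :=
      EvV.target_ext₂ _ (rot_of_distTriang _ hL) (hev R hR hRT)
        ((EvV.of_evZero hlf hR hLq hLZ).target hlf 1)
    refine EvV.of_retract (biprod.inl ≫ e.inv) (e.hom ≫ biprod.fst)
      (by rw [Category.assoc, Iso.inv_hom_id_assoc, biprod.inl_fst]) (hRp.mono fun i hi => ?_)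
    refine (forall_shift_iff ((DCoh.restrictD U.ι).obj R) F (-i) i (by omega)).1 fun φ => ?_
    let c := ((DCoh.restrictD U.ι).commShiftIso (-i)).app R
    rw [← cancel_epi c.hom, comp_zero]
    apply (adj.homEquiv _ _).injective
    exact ((forall_shift_iff R ((DCoh.Rpush U.ι).obj F) (-i) i (by omega)).2 hi _).trans
      ((forall_shift_iff R ((DCoh.Rpush U.ι).obj F) (-i) i (by omega)).2 hi _).symm
  exact EvZero.ext₂ _ hL hLZ (hlf.push U.ι F hFq hF)

theorem detects_of_qcqs {lf : Filter ℤ} (hlf : GoodDir.{u} lf) (X : Scheme.{u}) [CompactSpace ↥X]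
    [QuasiSeparatedSpace ↥X] : Detects lf X := by
  suffices h : ∀ (W : X.Opens), IsCompact (W : Set X) →
      ∀ (Y : Scheme.{u}) (j : Y ⟶ X) [IsOpenImmersion j], Set.range j = (W : Set X) → Detects lf Y from
    h ⊤ isCompact_univ X (𝟙 X) (by simp)
  intro W hW
  refine compact_open_induction_on
    (P := fun W => ∀ (Y : Scheme.{u}) (j : Y ⟶ X) [IsOpenImmersion j],
      Set.range j = (W : Set X) → Detects lf Y) W hW ?_ ?_
  · intro Y j _ hj
    haveI : IsEmpty Y := ⟨fun y => by simpa [hj] using Set.mem_range_self (f := j) y⟩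
    exact fun T _ _ E _ _ _ => Filter.Eventually.of_forall fun i =>
      isZero_HD_of_isEmpty E i
  · intro W hW U ih Y j _ hj
    haveI : QuasiSeparatedSpace ↥Y := quasiSeparatedSpace_of_quasiSeparated j
    have him : ∀ O : X.Opens, (O : Set X) ⊆ Set.range j →
        (fun y : Y => j y) '' ((j ⁻¹ᵁ O : Y.Opens) : Set Y) = (O : Set X) := fun O hO => by
      rw [Scheme.Hom.coe_preimage]
      exact Set.image_preimage_eq_iff.2 hO
    have hle : ∀ O : X.Opens, O ≤ W ⊔ U.1 → (O : Set X) ⊆ Set.range j := fun O hO => by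
      rw [hj]
      exact hO
    refine detects_step hlf (j ⁻¹ᵁ W) (j ⁻¹ᵁ U.1) ?_ ?_ ?_ ?_ (ih _ ((j ⁻¹ᵁ W).ι ≫ j) ?_)
    · rw [j.isOpenEmbedding.isEmbedding.isCompact_iff, him W (hle W le_sup_left)]
      exact hW
    · exact U.2.preimage_of_isOpenImmersion j (fun x hx => hle U.1 le_sup_right hx)
    · rw [j.isOpenEmbedding.isEmbedding.isCompact_iff, ← Scheme.Hom.preimage_inf,
        him (W ⊓ U.1) (hle _ (inf_le_left.trans le_sup_left))]
      exact hW.inter_of_isOpen U.2.isCompact W.isOpen U.1.isOpen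
    · rw [← Scheme.Hom.preimage_sup, eq_top_iff]
      intro y _
      change j y ∈ (W ⊔ U.1 : X.Opens)
      exact (hj ▸ Set.mem_range_self (f := j) y :)
    · change Set.range ((fun y : Y => j y) ∘ (j ⁻¹ᵁ W).ι) = _
      rw [Set.range_comp, Scheme.Opens.range_ι, him W (hle W le_sup_left)]

theorem goodDir_atBot : GoodDir.{u} (Filter.atBot : Filter ℤ) where
  shift c := Filter.tendsto_atBot_add_const_right _ c Filter.tendsto_id
  push {Z Y} f _ _ _ _ F _ hF := by
    obtain ⟨a, ha⟩ := Filter.eventually_atBot.1 hF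
    haveI : F.IsGE a := (DerivedCategory.isGE_iff F a).2 fun i hi => ha i hi.le
    haveI := QRlimLib.rpush_isGE f F a
    exact Filter.eventually_atBot.2 ⟨a - 1, fun i hi => DerivedCategory.isZero_of_isGE _ a i (by omega)⟩

theorem goodDir_atTop : GoodDir.{u} (Filter.atTop : Filter ℤ) where
  shift c := Filter.tendsto_atTop_add_const_right _ c Filter.tendsto_id
  push {Z Y} f _ _ _ _ F hq hF := by
    obtain ⟨b, hb⟩ := Filter.eventually_atTop.1 hF
    obtain ⟨N, hN⟩ := QRlimLib.exists_uniform_bound f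
    exact Filter.eventually_atTop.2 ⟨b + N, fun i hi =>
      hN F hq b ((DerivedCategory.isLE_iff F b).2 fun j hj => hb j hj.le) i hi⟩

/-- A perfect generator detects eventual vanishing of cohomology. -/
theorem evZero_iff_of_generator [CompactSpace X] [QuasiSeparatedSpace X] (hlf : GoodDir.{u} lf)
    {G : DCoh.D X} (hG : DCoh.IsPerfect G)
    (hgen : ∀ E : DCoh.D X, DCoh.IsQCohD E → (∀ (n : ℤ) (φ : G⟦n⟧ ⟶ E), φ = 0) → IsZero E)
    {E : DCoh.D X} (hE : DCoh.IsQCohD E) :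
    EvZero lf E ↔ ∀ᶠ i in lf, ∀ φ : G⟦-i⟧ ⟶ E, φ = 0 := by
  have hiff : ∀ i : ℤ, (∀ φ : G⟦-i⟧ ⟶ E, φ = 0) ↔ ∀ φ : G ⟶ E⟦i⟧, φ = 0 := fun i =>
    forall_shift_iff G E (-i) i (by omega)
  refine ⟨fun h => (EvV.of_evZero hlf hG hE h).mono fun i hi => (hiff i).2 hi, fun h => ?_⟩
  have hGE : EvV lf G E := h.mono fun i hi => (hiff i).1 hi
  haveI := hasCoproducts_D X
  haveI : LocallySmall.{u} (DCoh.D X) := Groth.Agent.DerLib.SmallDerived.locallySmall.{u + 1} X.Modules
  let Q : ObjectProperty (DCoh.D X) := fun K => EvV lf K E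
  haveI : Q.IsClosedUnderIsomorphisms := ⟨fun e h => EvV.of_retract e.inv e.hom e.inv_hom_id h⟩
  haveI : Q.IsStableUnderRetracts := ⟨fun r h => EvV.of_retract r.i r.r r.retract h⟩
  haveI : Q.IsTriangulated :=
    { exists_zero := ⟨(0 : _), isZero_zero _, Filter.Eventually.of_forall fun i φ =>
        (isZero_zero (DCoh.D X)).eq_of_src _ _⟩
      isStableUnderShiftBy := fun n => ⟨fun _ h => EvV.source hlf h n⟩
      ext₂' := fun T hT h₁ h₃ => ObjectProperty.le_isoClosure _ _ (EvV.source_ext₂ T hT h₁ h₃) }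
  refine detects_of_qcqs hlf X Set.univ isClosed_univ (fun O _ _ => by
    rw [Set.compl_univ, Set.empty_inter]
    exact isCompact_empty) E hE (fun i x _ => Set.mem_univ x) fun P hP _ => ?_
  exact prop_of_generator (P := fun L : DCoh.D X => DCoh.IsQCohD L)
    (fun ι M hM => KFlatLib.isQCohD_coproduct M hM) (fun L n hL => KFlatLib.isQCohD_shift hL n)
    (fun S hS h₁ h₂ => KFlatLib.isQCohD₂ (rot_of_distTriang _ hS) h₂ (KFlatLib.isQCohD_shift h₁ 1))
    (G := G) (isQCohD_of_isPerfect hG) (fun ι M hM => finFac_of_isQCohD hG M hM)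
    (fun n L _ => inferInstance) hgen Q hGE (isQCohD_of_isPerfect hP)
    (fun ι M hM => finFac_of_isQCohD hP M hM)

theorem exists_isGE_iff (E : DCoh.D X) : (∃ a : ℤ, E.IsGE a) ↔ EvZero Filter.atBot E := by
  refine ⟨fun ⟨a, ha⟩ => Filter.eventually_atBot.2 ⟨a - 1, fun i hi =>
    haveI := ha
    DerivedCategory.isZero_of_isGE E a i (by omega)⟩, fun h => ?_⟩
  obtain ⟨a, ha⟩ := Filter.eventually_atBot.1 h
  exact ⟨a, (DerivedCategory.isGE_iff E a).2 fun i hi => ha i hi.le⟩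

theorem exists_isLE_iff (E : DCoh.D X) : (∃ b : ℤ, E.IsLE b) ↔ EvZero Filter.atTop E := by
  refine ⟨fun ⟨b, hb⟩ => Filter.eventually_atTop.2 ⟨b + 1, fun i hi =>
    haveI := hb
    DerivedCategory.isZero_of_isLE E b i (by omega)⟩, fun h => ?_⟩
  obtain ⟨b, hb⟩ := Filter.eventually_atTop.1 h
  exact ⟨b, (DerivedCategory.isLE_iff E b).2 fun i hi => hb i hi.le⟩

end Groth.Agent.KoszOrthLib
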