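/-
Brown representability for triangulated categories with a family of objects which detects zero
objects and is "countably small" for maps into countable coproducts.
-/
import Groth.Prelude.Def_CohDer
import Mathlib.CategoryTheory.EssentiallySmall
import Mathlib.CategoryTheory.Triangulated.Opposite.Pretriangulated
import Mathlib.CategoryTheory.Triangulated.HomologicalFunctor
import Mathlib.Algebra.Category.Grp.Abelian
import Mathlib.Algebra.Category.Grp.Limits
import Mathlib.Algebra.Homology.ShortComplex.Ab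
import Mathlib.CategoryTheory.Limits.Types.Limits
import Mathlib.CategoryTheory.Limits.Shapes.Opposites.Products

set_option autoImplicit false
set_option linter.unusedSectionVars false
set_option linter.style.haveILetI false
set_option backward.isDefEq.respectTransparency false
set_option backward.isDefEq.respectTransparency.types false

universe w v u

open CategoryTheory CategoryTheory.Limits CategoryTheory.Pretriangulated.Opposite
open Opposite (op unop)

namespace Groth.Agent.KoszOrthLib.BrownLS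

variable {D : Type u} [Category.{w} D] [Preadditive D] [HasZeroObject D] [HasShift D ℤ]
  [∀ n : ℤ, (shiftFunctor D n).Additive] [Pretriangulated D] [HasCoproducts.{v} D]
  [HasColimitsOfShape (Discrete ℕ) D]
  (H : Dᵒᵖ ⥤ AddCommGrpCat.{w})

/-- Restriction of an element along a morphism. -/
def pb {Y Z : D} (f : Y ⟶ Z) (x : H.obj (op Z)) : H.obj (op Y) := H.map f.op x

lemma pb_comp {X Y Z : D} (f : X ⟶ Y) (g : Y ⟶ Z) (x : H.obj (op Z)) :
    pb H (f ≫ g) x = pb H f (pb H g x) := by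
  simp only [pb, op_comp, Functor.map_comp]
  rfl

lemma pb_id {X : D} (x : H.obj (op X)) : pb H (𝟙 X) x = x := by
  simp only [pb, op_id, CategoryTheory.Functor.map_id]
  rfl

lemma pb_zero {X Y : D} (f : X ⟶ Y) : pb H f 0 = 0 := map_zero _

lemma pb_add' {X Y : D} (f : X ⟶ Y) (x y : H.obj (op Y)) :
    pb H f (x + y) = pb H f x + pb H f y := map_add _ _ _

section Homological

variable [H.IsHomological]

lemma pb_zero' {X Y : D} (x : H.obj (op Y)) : pb H (0 : X ⟶ Y) x = 0 := by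
  simp only [pb, op_zero, Functor.map_zero]
  rfl

lemma pb_add {X Y : D} (f g : X ⟶ Y) (x : H.obj (op Y)) :
    pb H (f + g) x = pb H f x + pb H g x := by
  simp only [pb, op_add, Functor.map_add]
  rfl

lemma pb_sub {X Y : D} (f g : X ⟶ Y) (x : H.obj (op Y)) :
    pb H (f - g) x = pb H f x - pb H g x := by
  rw [eq_sub_iff_add_eq, ← pb_add, sub_add_cancel]

lemma exists_ext (T : Pretriangulated.Triangle D) (hT : T ∈ distTriang D)
    (x : H.obj (op T.obj₂)) (hx : pb H T.mor₁ x = 0) :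
    ∃ y : H.obj (op T.obj₃), pb H T.mor₂ y = x :=
  (ShortComplex.ab_exact_iff _).1 (H.map_distinguished_op_exact T hT) x hx

end Homological

section Coproduct

lemma existsUnique_elt {J : Type*} (X : J → D) [HasCoproduct X]
    [PreservesLimit (Discrete.functor fun j => op (X j)) H] (x : ∀ j, H.obj (op (X j))) :
    ∃! y : H.obj (op (∐ X)), ∀ j, pb H (Sigma.ι X j) y = x j := by
  have hl : IsLimit (Cofan.mk (∐ X) (Sigma.ι X)).op :=
    Cofan.IsColimit.op (coproductIsCoproduct X)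
  have h := (Types.isLimit_iff _).1
    ⟨isLimitOfPreserves (H ⋙ forget AddCommGrpCat.{w}) hl⟩
    (fun j => x j.as) (by
      rintro ⟨j⟩ ⟨k⟩ ⟨⟨rfl : j = k⟩⟩
      exact congrArg (fun φ => φ (x j)) ((H ⋙ forget AddCommGrpCat.{w}).map_id (op (X j))))
  obtain ⟨y, hy, hy'⟩ := h
  exact ⟨y, fun j => hy ⟨j⟩, fun z hz => hy' z fun j => hz j.as⟩

variable [∀ κ : Type v, PreservesLimitsOfShape (Discrete κ) H]

instance preservesNat : PreservesLimitsOfShape (Discrete ℕ) H :=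
  preservesLimitsOfShape_of_equiv (Discrete.equivalence Equiv.ulift.{v}) H

lemma elt_ext {J : Type*} (X : J → D) [HasCoproduct X]
    [PreservesLimit (Discrete.functor fun j => op (X j)) H] {y y' : H.obj (op (∐ X))}
    (h : ∀ j, pb H (Sigma.ι X j) y = pb H (Sigma.ι X j) y') : y = y' :=
  (existsUnique_elt H X fun j => pb H (Sigma.ι X j) y').unique h (fun _ => rfl)

end Coproduct

/-- Every map from a member of `E` to a countable coproduct factors through a coproduct of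
members of `E` mapped termwise. -/
def CSmall {κ : Type v} (E : κ → D) : Prop :=
  ∀ (X : ℕ → D) (i : κ) (α : E i ⟶ ∐ X), ∃ (j : ℕ → κ) (β : ∀ n, E (j n) ⟶ X n)
    (γ : E i ⟶ ∐ (fun n => E (j n))), α = γ ≫ Limits.Sigma.map β

variable {κ : Type v} (E : κ → D)

/-- The family of all shifts. -/
abbrev sh (p : κ × ℤ) : D := (shiftFunctor D p.2).obj (E p.1)

variable {E}

lemma small_sh (h2 : CSmall E) (X : ℕ → D) (p : κ × ℤ) (α : sh E p ⟶ ∐ X) :
    ∃ (j : ℕ → κ × ℤ) (β : ∀ n, sh E (j n) ⟶ X n) (γ : sh E p ⟶ ∐ (fun n => sh E (j n))),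
      α = γ ≫ Limits.Sigma.map β := by
  obtain ⟨i, n⟩ := p
  let F := shiftFunctor D n
  let X' : ℕ → D := fun k => (X k)⟦-n⟧
  let e : ∀ k, F.obj (X' k) ≅ X k := fun k => (shiftEquiv D n).counitIso.app (X k)
  let c : F.obj (∐ X') ≅ ∐ X := PreservesCoproduct.iso F X' ≪≫ Sigma.mapIso e
  obtain ⟨j, β, γ, h⟩ := h2 X' i (F.preimage (α ≫ c.inv))
  refine ⟨fun k => (j k, n), fun k => F.map (β k) ≫ (e k).hom,
    F.map γ ≫ (PreservesCoproduct.iso F (fun k => E (j k))).hom, ?_⟩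
  have hα : α = F.map (γ ≫ Limits.Sigma.map β) ≫ c.hom := by
    rw [← h, F.map_preimage, Category.assoc, c.inv_hom_id, Category.comp_id]
  rw [hα, F.map_comp, Category.assoc, Category.assoc]
  congr 1
  rw [← cancel_epi (PreservesCoproduct.iso F (fun k => E (j k))).inv, Iso.inv_hom_id_assoc]
  refine Limits.Sigma.hom_ext _ _ fun k => ?_
  rw [PreservesCoproduct.inv_hom, ι_comp_sigmaComparison_assoc, ← F.map_comp_assoc,
    Limits.Sigma.ι_map, F.map_comp, Limits.Sigma.ι_map, Category.assoc, Category.assoc]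
  congr 1
  simp only [c, Iso.trans_hom]
  rw [← ι_comp_sigmaComparison F X' k, Category.assoc, ← PreservesCoproduct.inv_hom F X',
    Iso.inv_hom_id_assoc]
  exact Limits.Sigma.ι_map (fun k => (e k).hom) k

/-- A shifted map out of a member of the family comes from an unshifted one. -/
lemma eq_zero_of_shift_one (p : κ × ℤ) {W W' : D} (φ : W ⟶ W')
    (hφ : ∀ (q : κ × ℤ) (y : sh E q ⟶ W), y ≫ φ = 0 → y = 0)
    (h : sh E p ⟶ W⟦(1 : ℤ)⟧) (hh : h ≫ φ⟦(1 : ℤ)⟧' = 0) : h = 0 := by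
  let e : (sh E (p.1, p.2 - 1))⟦(1 : ℤ)⟧ ≅ sh E p :=
    ((shiftFunctorAdd' D (p.2 - 1) 1 p.2 (by omega)).app (E p.1)).symm
  obtain ⟨y, hy⟩ := (shiftFunctor D (1 : ℤ)).map_surjective (e.hom ≫ h)
  have : y ≫ φ = 0 := (shiftFunctor D (1 : ℤ)).map_injective (by
    rw [Functor.map_comp, hy, Category.assoc, hh, comp_zero, Functor.map_zero])
  rw [hφ _ y this, Functor.map_zero] at hy
  exact (cancel_epi e.hom).1 (hy.symm.trans comp_zero.symm)

/-- A morphism killing the kernels of a family of maps kills the kernel of their coproduct. -/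
lemma map_eq_zero_of_map_eq_zero (h2 : CSmall E) {A B C : ℕ → D} (v : ∀ n, A n ⟶ B n)
    (w : ∀ n, A n ⟶ C n)
    (hvw : ∀ n (q : κ × ℤ) (y : sh E q ⟶ A n), y ≫ v n = 0 → y ≫ w n = 0)
    (p : κ × ℤ) (b : sh E p ⟶ ∐ A) (hb : b ≫ Limits.Sigma.map v = 0) :
    b ≫ Limits.Sigma.map w = 0 := by
  obtain ⟨j, β, γ, rfl⟩ := small_sh h2 A p b
  choose F k δ hT using fun n => Pretriangulated.distinguished_cocone_triangle₁ (β n ≫ v n)
  obtain ⟨Z, f₂, f₃, hZ⟩ := Pretriangulated.distinguished_cocone_triangle (Limits.Sigma.map k)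
  have hψ : ∀ n, ∃ ψ : B n ⟶ Z, (β n ≫ v n) ≫ ψ = Sigma.ι (fun n => sh E (j n)) n ≫ f₂ :=
    fun n => by
      have h0 : k n ≫ Sigma.ι (fun n => sh E (j n)) n ≫ f₂ = 0 := by
        rw [← Category.assoc, ← Sigma.ι_map k n, Category.assoc,
          show Limits.Sigma.map k ≫ f₂ = 0 from
            Pretriangulated.comp_distTriang_mor_zero₁₂ _ hZ, comp_zero]
      obtain ⟨ψ, hψ⟩ := Pretriangulated.Triangle.yoneda_exact₂ _ (hT n) _ h0
      exact ⟨ψ, hψ.symm⟩
  choose ψ hψ using hψ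
  have hf₂ : γ ≫ f₂ = 0 := by
    have : f₂ = Limits.Sigma.map β ≫ Limits.Sigma.map v ≫ Limits.Sigma.desc ψ :=
      Limits.Sigma.hom_ext _ _ fun n => by simp [← hψ n]
    rw [this, ← Category.assoc, ← Category.assoc, hb, zero_comp]
  obtain ⟨γ', hγ'⟩ := Pretriangulated.Triangle.coyoneda_exact₂ _ hZ γ hf₂
  obtain ⟨j', β', γ'', rfl⟩ := small_sh h2 F p γ'
  change γ = _ ≫ Limits.Sigma.map k at hγ'
  rw [hγ', Category.assoc, Category.assoc, Category.assoc]
  have : Limits.Sigma.map β' ≫ Limits.Sigma.map k ≫ Limits.Sigma.map β ≫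
      Limits.Sigma.map w = 0 := Limits.Sigma.hom_ext _ _ fun n => by
    have h0 : ((β' n ≫ k n) ≫ β n) ≫ v n = 0 := by
      simp only [Category.assoc]
      rw [show k n ≫ β n ≫ v n = 0 from Pretriangulated.comp_distTriang_mor_zero₁₂ _ (hT n),
        comp_zero]
    have h1 := hvw n _ _ h0
    simp only [Category.assoc] at h1
    simp [reassoc_of% h1]
  rw [this, comp_zero]

variable [H.IsHomological] [∀ κ : Type v, PreservesLimitsOfShape (Discrete κ) H] [LocallySmall.{v} D]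

lemma exists_next (Z : D) (z : H.obj (op Z)) :
    ∃ (W : D) (w : H.obj (op W)) (f : Z ⟶ W), pb H f w = z ∧
      (∀ (p : κ × ℤ) (g : sh E p ⟶ Z), pb H g z = 0 → g ≫ f = 0) ∧
      ∃ (J : Type v) (c : J → κ × ℤ) (k : (∐ fun j => sh E (c j)) ⟶ Z)
        (δ : W ⟶ (∐ fun j => sh E (c j))⟦(1 : ℤ)⟧),
        Pretriangulated.Triangle.mk k f δ ∈ distTriang D := by
  let J := Σ p : κ × ℤ, Shrink.{v} {g : sh E p ⟶ Z // pb H g z = 0}
  let K := fun j : J => sh E j.1
  let k : ∐ K ⟶ Z := Sigma.desc fun j => ((equivShrink _).symm j.2).1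
  obtain ⟨W, f, δ, hT⟩ := Pretriangulated.distinguished_cocone_triangle k
  obtain ⟨w, hw⟩ := exists_ext H _ hT z (elt_ext H K fun j => by
    show pb H (Sigma.ι K j) (pb H k z) = pb H (Sigma.ι K j) 0
    rw [← pb_comp, pb_zero, Sigma.ι_desc]
    exact ((equivShrink _).symm j.2).2)
  refine ⟨W, w, f, hw, fun p g hg => ?_, J, fun j => j.1, k, δ, hT⟩
  have hk : Sigma.ι K ⟨p, equivShrink _ ⟨g, hg⟩⟩ ≫ k = g :=
    (Sigma.ι_desc _ _).trans (by rw [Equiv.symm_apply_apply])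
  rw [← hk, Category.assoc, show k ≫ f = 0 from
    Pretriangulated.comp_distTriang_mor_zero₁₂ _ hT, comp_zero]

section Tower

variable (h2 : CSmall E) {X : ℕ → D} (f : ∀ n, X n ⟶ X (n + 1))

/-- The composite from the initial stage. -/
def g : ∀ n, X 0 ⟶ X n
  | 0 => 𝟙 _
  | n + 1 => g n ≫ f n

/-- The composite from the first stage. -/
def g' : ∀ n, X 1 ⟶ X (n + 1)
  | 0 => 𝟙 _
  | n + 1 => g' n ≫ f (n + 1)

lemma g_succ : ∀ n, g f (n + 1) = f 0 ≫ g' f n
  | 0 => by simp [g, g']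
  | n + 1 => by
    show g f (n + 1) ≫ f (n + 1) = f 0 ≫ g' f n ≫ f (n + 1)
    rw [g_succ n, Category.assoc]

variable (a : ∀ n, H.obj (op (X n))) (ha : ∀ n, pb H (f n) (a (n + 1)) = a n)
  (hker : ∀ (n : ℕ) (p : κ × ℤ) (y : sh E p ⟶ X n), pb H y (a n) = 0 → y ≫ f n = 0)
  (hsurj : ∀ (p : κ × ℤ) (e : H.obj (op (sh E p))), ∃ y : sh E p ⟶ X 0, pb H y (a 0) = e)

include ha in
lemma pb_g : ∀ n, pb H (g f n) (a n) = a 0
  | 0 => pb_id H _
  | n + 1 => by
    show pb H (g f n ≫ f n) (a (n + 1)) = a 0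
    rw [pb_comp, ha, pb_g n]

/-- The shift map of the tower. -/
noncomputable def σ : ∐ X ⟶ ∐ X := Sigma.desc fun n => f n ≫ Sigma.ι X (n + 1)

/-- Countably many copies of the initial stage mapped to the tower. -/
noncomputable def ι' : ∐ (fun _ : ℕ => X 0) ⟶ ∐ X :=
  Sigma.desc fun n => g f (n + 1) ≫ Sigma.ι X (n + 1)

include h2 ha hker hsurj in
lemma exists_factor (p : κ × ℤ) (y : sh E p ⟶ ∐ X) :
    ∃ u, u ≫ ι' f = y ≫ σ f := by
  obtain ⟨j, β, γ, rfl⟩ := small_sh h2 X p y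
  choose u hu using fun n => hsurj (j n) (pb H (β n) (a n))
  refine ⟨γ ≫ Limits.Sigma.map u, ?_⟩
  rw [Category.assoc, Category.assoc]
  congr 1
  refine Limits.Sigma.hom_ext _ _ fun n => ?_
  have h : u n ≫ g f (n + 1) = β n ≫ f n := by
    have := hker n (j n) (β n - u n ≫ g f n) (by
      rw [pb_sub, pb_comp, pb_g H f a ha, hu, sub_self])
    rw [Preadditive.sub_comp, sub_eq_zero, Category.assoc] at this
    exact this.symm
  simp [ι', σ, reassoc_of% h]

/-- The shift on copies of a fixed object. -/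
noncomputable def σc (Y : D) : ∐ (fun _ : ℕ => Y) ⟶ ∐ (fun _ : ℕ => Y) :=
  Sigma.desc fun n => Sigma.ι (fun _ : ℕ => Y) (n + 1)

lemma eq_zero_of_comp_σc {W Y : D} (v : W ⟶ ∐ (fun _ : ℕ => Y)) (h : v ≫ σc Y = v) : v = 0 := by
  let r : ∐ (fun _ : ℕ => Y) ⟶ ∐ (fun _ : ℕ => Y) :=
    Sigma.desc fun n => - ∑ k ∈ Finset.range n, Sigma.ι (fun _ : ℕ => Y) k
  have hr : (𝟙 _ - σc Y) ≫ r = 𝟙 _ := Limits.Sigma.hom_ext _ _ fun n => by
    simp [σc, r, Preadditive.sub_comp, Preadditive.comp_sub, Finset.sum_range_succ]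
  rw [← Category.comp_id v, ← hr, Preadditive.sub_comp, Preadditive.comp_sub, ← Category.assoc v]
  simp [reassoc_of% h]

include h2 ha hker hsurj in
lemma eq_zero_of_comp_σ (p : κ × ℤ) (y : sh E p ⟶ ∐ X) (hy : y ≫ (𝟙 _ - σ f) = 0) : y = 0 := by
  rw [Preadditive.comp_sub, Category.comp_id, sub_eq_zero] at hy
  obtain ⟨u, hu⟩ := exists_factor H h2 f a ha hker hsurj p y
  rw [← hy] at hu
  have hcomm : σc (X 0) ≫ ι' f = ι' f ≫ σ f := Limits.Sigma.hom_ext _ _ fun n => by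
    simp [σc, ι', σ, g]
  have hw : (u ≫ σc (X 0) - u) ≫ ι' f = 0 := by
    rw [Preadditive.sub_comp, Category.assoc, hcomm, ← Category.assoc, hu, ← hy, sub_self]
  let ρ : ∐ X ⟶ ∐ (fun n => X (n + 1)) := Sigma.desc fun
    | 0 => 0
    | n + 1 => Sigma.ι (fun n => X (n + 1)) n
  have hρ : ι' f ≫ ρ = Limits.Sigma.map (fun n => g f (n + 1)) :=
    Limits.Sigma.hom_ext _ _ fun n => by simp [ι', ρ]
  have hw' : (u ≫ σc (X 0) - u) ≫ Limits.Sigma.map (fun n => g f (n + 1)) = 0 := by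
    rw [← hρ, ← Category.assoc, hw, zero_comp]
  have hw'' := map_eq_zero_of_map_eq_zero h2 (fun n => g f (n + 1)) (fun _ => f 0)
    (fun n q k hk => hker 0 q k (by rw [← pb_g H f a ha (n + 1), ← pb_comp, hk, pb_zero'])) p
    _ hw'
  have hcomm' : σc (X 0) ≫ Limits.Sigma.map (fun _ : ℕ => f 0) =
      Limits.Sigma.map (fun _ : ℕ => f 0) ≫ σc (X 1) :=
    Limits.Sigma.hom_ext _ _ fun n => by simp [σc]
  have hv : u ≫ Limits.Sigma.map (fun _ : ℕ => f 0) = 0 := eq_zero_of_comp_σc _ (by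
    rw [Category.assoc, ← hcomm', ← sub_eq_zero, ← Category.assoc, ← Preadditive.sub_comp, hw''])
  have hfac : ι' f = Limits.Sigma.map (fun _ : ℕ => f 0) ≫
      Sigma.desc fun n => g' f n ≫ Sigma.ι X (n + 1) :=
    Limits.Sigma.hom_ext _ _ fun n => by simp [ι', g_succ]
  rw [← hu, hfac, ← Category.assoc, hv, zero_comp]

include h2 ha hker hsurj in
lemma exists_hocolim : ∃ (W : D) (w : H.obj (op W)) (q : ∐ X ⟶ W) (δ : W ⟶ (∐ X)⟦(1 : ℤ)⟧),
    Pretriangulated.Triangle.mk (𝟙 (∐ X) - σ f) q δ ∈ distTriang D ∧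
    pb H (Sigma.ι X 0 ≫ q) w = a 0 ∧
    ∀ p : κ × ℤ, Function.Bijective fun y : sh E p ⟶ W => pb H y w := by
  obtain ⟨W, q, δ, hT⟩ := Pretriangulated.distinguished_cocone_triangle (𝟙 (∐ X) - σ f)
  obtain ⟨s, hs, -⟩ := existsUnique_elt H X a
  obtain ⟨w, hw⟩ := exists_ext H _ hT s (elt_ext H X fun n => by
    show pb H (Sigma.ι X n) (pb H (𝟙 _ - σ f) s) = pb H (Sigma.ι X n) 0
    have h : Sigma.ι X n ≫ (𝟙 _ - σ f) = Sigma.ι X n - f n ≫ Sigma.ι X (n + 1) := by
      simp [σ, Preadditive.comp_sub]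
    rw [← pb_comp, h, pb_sub, pb_comp, hs, hs, ha, sub_self, pb_zero])
  change pb H q w = s at hw
  have hq : σ f ≫ q = q := by
    have := Pretriangulated.comp_distTriang_mor_zero₁₂ _ hT
    have h' : (𝟙 (∐ X) - σ f : ∐ X ⟶ ∐ X) ≫ q = 0 := this
    exact (sub_eq_zero.1 (((congrArg (· - σ f ≫ q) (Category.id_comp q)).symm.trans
      (Preadditive.sub_comp _ _ _).symm).trans h')).symm
  have hq' : ∀ n, f n ≫ Sigma.ι X (n + 1) ≫ q = Sigma.ι X n ≫ q := fun n => by
    conv_rhs => rw [← hq]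
    simp [σ]
  let j := Sigma.ι X 0 ≫ q
  have hj : pb H j w = a 0 := by rw [pb_comp, hw, hs]
  have hgj : ∀ n, g f n ≫ Sigma.ι X n ≫ q = j := by
    intro n
    induction n with
    | zero => simp [g, j]
    | succ n ih =>
      show (g f n ≫ f n) ≫ _ = _
      rw [Category.assoc, hq', ih]
  refine ⟨W, w, q, δ, hT, hj, fun p => ⟨fun y₁ y₂ h => ?_, fun e => ?_⟩⟩
  · rw [← sub_eq_zero]
    set y := y₁ - y₂
    have hy : pb H y w = 0 := by rw [pb_sub, sub_eq_zero]; exact h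
    have hδ : y ≫ δ = 0 := eq_zero_of_shift_one p _
      (fun r t => eq_zero_of_comp_σ H h2 f a ha hker hsurj r t) _ (by
        rw [Category.assoc, show δ ≫ (𝟙 _ - σ f)⟦(1 : ℤ)⟧' = 0 from
          Pretriangulated.comp_distTriang_mor_zero₃₁ _ hT, comp_zero])
    obtain ⟨y', hy'⟩ := Pretriangulated.Triangle.coyoneda_exact₃ _ hT y hδ
    change y = y' ≫ q at hy'
    obtain ⟨u, hu⟩ := exists_factor H h2 f a ha hker hsurj p y'
    have hι : ι' f ≫ q = Sigma.desc (fun _ : ℕ => 𝟙 (X 0)) ≫ j :=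
      Limits.Sigma.hom_ext _ _ fun n => by simp [ι', hgj]
    have hyu : y = (u ≫ Sigma.desc (fun _ : ℕ => 𝟙 (X 0))) ≫ j := by
      rw [Category.assoc, ← hι, ← Category.assoc u, hu, Category.assoc, hq]
      exact hy'
    have h0 : (u ≫ Sigma.desc (fun _ : ℕ => 𝟙 (X 0))) ≫ f 0 = 0 := hker 0 p _ (by
      rw [← hj, ← pb_comp, ← hyu, hy])
    rw [hyu, show j = f 0 ≫ Sigma.ι X 1 ≫ q from (hq' 0).symm, ← Category.assoc, h0, zero_comp]
  · obtain ⟨y, hy⟩ := hsurj p e
    exact ⟨y ≫ j, by show pb H (y ≫ j) w = e; rw [pb_comp, hj, hy]⟩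

end Tower

variable {H}

lemma exists_universal (h2 : CSmall E) (Z : D) (z : H.obj (op Z))
    (hz : ∀ (p : κ × ℤ) (e : H.obj (op (sh E p))), ∃ y : sh E p ⟶ Z, pb H y z = e) :
    ∃ (W : D) (w : H.obj (op W)) (j : Z ⟶ W), pb H j w = z ∧
      ∀ p : κ × ℤ, Function.Bijective fun y : sh E p ⟶ W => pb H y w := by
  let St := Σ W : D, H.obj (op W)
  have hnext : ∀ s : St, ∃ (t : St) (f : s.1 ⟶ t.1), pb H f t.2 = s.2 ∧
      ∀ (p : κ × ℤ) (g : sh E p ⟶ s.1), pb H g s.2 = 0 → g ≫ f = 0 := fun s => by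
    obtain ⟨W, w, f, h, h', -⟩ := exists_next H (E := E) s.1 s.2
    exact ⟨⟨W, w⟩, f, h, h'⟩
  choose nx fn hfn hkn using hnext
  let S : ℕ → St := fun n => nx^[n] ⟨Z, z⟩
  have hS : ∀ n, S (n + 1) = nx (S n) := fun n => Function.iterate_succ_apply' _ _ _
  have hex : ∀ n, ∃ f : (S n).1 ⟶ (S (n + 1)).1,
      pb H f (S (n + 1)).2 = (S n).2 ∧
        ∀ (p : κ × ℤ) (g : sh E p ⟶ (S n).1), pb H g (S n).2 = 0 → g ≫ f = 0 := fun n => by
    rw [hS n]
    exact ⟨fn _, hfn _, hkn _⟩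
  choose f hf using hex
  obtain ⟨W, w, q, -, -, hw, hbij⟩ := exists_hocolim H h2 (X := fun n => (S n).1) f
    (fun n => (S n).2) (fun n => (hf n).1) (fun n => (hf n).2) hz
  exact ⟨W, w, Sigma.ι (fun n => (S n).1) 0 ≫ q, hw, hbij⟩

lemma isZero_of_forall_sh
    (h1 : ∀ X : D, (∀ (i : κ) (n : ℤ) (f : E i ⟶ X⟦n⟧), f = 0) → IsZero X)
    (C : D) (h : ∀ (p : κ × ℤ) (c : sh E p ⟶ C), c = 0) : IsZero C := by
  refine h1 C fun i n f => ?_
  let e : (C⟦n⟧)⟦-n⟧ ≅ C := (shiftEquiv D n).unitIso.symm.app C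
  have := h (i, -n) (f⟦-n⟧' ≫ e.hom)
  replace this := zero_of_comp_mono e.hom this
  exact (shiftFunctor D (-n)).map_injective (this.trans (Functor.map_zero _ _ _).symm)

lemma isIso_of_bijective (_h2 : CSmall E)
    (h1 : ∀ X : D, (∀ (i : κ) (n : ℤ) (f : E i ⟶ X⟦n⟧), f = 0) → IsZero X)
    {X X' : D} (x : H.obj (op X)) (x' : H.obj (op X')) (φ : X ⟶ X') (hφ : pb H φ x' = x)
    (hx : ∀ p : κ × ℤ, Function.Bijective fun y : sh E p ⟶ X => pb H y x)
    (hx' : ∀ p : κ × ℤ, Function.Bijective fun y : sh E p ⟶ X' => pb H y x') : IsIso φ := by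
  obtain ⟨C, b, δ, hT⟩ := Pretriangulated.distinguished_cocone_triangle φ
  refine (Pretriangulated.Triangle.isZero₃_iff_isIso₁ _ hT).1
    (isZero_of_forall_sh h1 C fun p c => ?_)
  have hinj : ∀ (q : κ × ℤ) (y : sh E q ⟶ X), y ≫ φ = 0 → y = 0 := fun q y hy => (hx q).1 (by
    show pb H y x = pb H 0 x
    rw [← hφ, ← pb_comp, hy, pb_zero', pb_zero'])
  have hc : c ≫ δ = 0 := eq_zero_of_shift_one p φ hinj _ (by
    rw [Category.assoc, show δ ≫ φ⟦(1 : ℤ)⟧' = 0 from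
      Pretriangulated.comp_distTriang_mor_zero₃₁ _ hT, comp_zero])
  obtain ⟨c', hc'⟩ := Pretriangulated.Triangle.coyoneda_exact₃ _ hT c hc
  change c = c' ≫ b at hc'
  obtain ⟨d, hd⟩ := (hx p).2 (pb H c' x')
  have : d ≫ φ = c' := (hx' p).1 (by
    show pb H (d ≫ φ) x' = pb H c' x'
    rw [pb_comp, hφ]
    exact hd)
  refine hc'.trans ((congrArg (· ≫ b) this.symm).trans ((Category.assoc _ _ _).trans ?_))
  exact (congrArg (d ≫ ·) (Pretriangulated.comp_distTriang_mor_zero₁₂ _ hT)).trans comp_zero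

/-- A morphism inducing bijections on maps out of all shifts of a generating family is an
isomorphism. -/
lemma isIso_of_bijective_comp
    (h1 : ∀ X : D, (∀ (i : κ) (n : ℤ) (f : E i ⟶ X⟦n⟧), f = 0) → IsZero X)
    {X X' : D} (φ : X ⟶ X')
    (hφ : ∀ p : κ × ℤ, Function.Bijective fun y : sh E p ⟶ X => y ≫ φ) : IsIso φ := by
  obtain ⟨C, b, δ, hT⟩ := Pretriangulated.distinguished_cocone_triangle φ
  refine (Pretriangulated.Triangle.isZero₃_iff_isIso₁ _ hT).1
    (isZero_of_forall_sh h1 C fun p c => ?_)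
  have hc : c ≫ δ = 0 := eq_zero_of_shift_one p φ
    (fun q y hy => (hφ q).1 (show y ≫ φ = 0 ≫ φ by rw [hy, zero_comp])) _ (by
      rw [Category.assoc, show δ ≫ φ⟦(1 : ℤ)⟧' = 0 from
        Pretriangulated.comp_distTriang_mor_zero₃₁ _ hT, comp_zero])
  obtain ⟨c', hc'⟩ := Pretriangulated.Triangle.coyoneda_exact₃ _ hT c hc
  obtain ⟨d, hd⟩ := (hφ p).2 c'
  refine hc'.trans ((congrArg (· ≫ b) hd.symm).trans ((Category.assoc _ _ _).trans ?_))
  exact (congrArg (d ≫ ·) (Pretriangulated.comp_distTriang_mor_zero₁₂ _ hT)).trans comp_zero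

/-- Brown representability. -/
theorem isRepresentable (hH : ∀ Y : D, Small.{v} (H.obj (op Y)))
    (h1 : ∀ X : D, (∀ (i : κ) (n : ℤ) (f : E i ⟶ X⟦n⟧), f = 0) → IsZero X) (h2 : CSmall E) :
    (H ⋙ forget AddCommGrpCat.{w}).IsRepresentable := by
  haveI := hH
  let J := Σ p : κ × ℤ, Shrink.{v} (H.obj (op (sh E p)))
  let K := fun j : J => sh E j.1
  obtain ⟨z₀, hz₀, -⟩ := existsUnique_elt H K fun j => (equivShrink _).symm j.2
  obtain ⟨X, x, -, -, hx⟩ := exists_universal h2 (∐ K) z₀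
    fun p e => ⟨Sigma.ι K ⟨p, equivShrink _ e⟩, by rw [hz₀]; exact Equiv.symm_apply_apply _ _⟩
  have key : ∀ Y : D, Function.Bijective fun y : Y ⟶ X => pb H y x := by
    refine fun Y => ⟨fun y₁ y₂ h => ?_, fun e => ?_⟩
    · rw [← sub_eq_zero]
      set d := y₁ - y₂
      have hd : pb H d x = 0 := by rw [pb_sub, sub_eq_zero]; exact h
      obtain ⟨C, b, δ, hT⟩ := Pretriangulated.distinguished_cocone_triangle d
      obtain ⟨c, hc⟩ := exists_ext H _ hT x hd
      change pb H b c = x at hc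
      obtain ⟨X', x', j, hj, hx'⟩ := exists_universal h2 C c fun p t => by
        obtain ⟨s, hs⟩ := (hx p).2 t
        exact ⟨s ≫ b, by rw [pb_comp, hc]; exact hs⟩
      have := isIso_of_bijective h2 h1 x x' (b ≫ j) (by rw [pb_comp, hj, hc]) hx hx'
      rw [← cancel_mono (b ≫ j), zero_comp, ← Category.assoc,
        show d ≫ b = 0 from Pretriangulated.comp_distTriang_mor_zero₁₂ _ hT, zero_comp]
    · obtain ⟨X', x', j, hj, hx'⟩ := exists_universal h2 (X ⊞ Y)
        (pb H biprod.fst x + pb H biprod.snd e) fun p t => by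
          obtain ⟨s, hs⟩ := (hx p).2 t
          refine ⟨s ≫ biprod.inl, ?_⟩
          rw [pb_comp, pb_add', ← pb_comp, ← pb_comp, biprod.inl_fst, biprod.inl_snd, pb_id,
            pb_zero', add_zero]
          exact hs
      have h₁ : pb H (biprod.inl ≫ j) x' = x := by
        rw [pb_comp, hj, pb_add', ← pb_comp, ← pb_comp, biprod.inl_fst, biprod.inl_snd, pb_id,
          pb_zero', add_zero]
      have h₂ : pb H (biprod.inr ≫ j) x' = e := by
        rw [pb_comp, hj, pb_add', ← pb_comp, ← pb_comp, biprod.inr_fst, biprod.inr_snd, pb_id,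
          pb_zero', zero_add]
      have := isIso_of_bijective h2 h1 x x' _ h₁ hx hx'
      refine ⟨(biprod.inr ≫ j) ≫ inv (biprod.inl ≫ j), ?_⟩
      show pb H _ x = e
      conv_lhs => rw [← h₁]
      rw [← pb_comp, Category.assoc, IsIso.inv_hom_id, Category.comp_id, h₂]
  exact ⟨X, ⟨
    { homEquiv := fun {Y} => Equiv.ofBijective _ (key (unop (op Y)))
      homEquiv_comp := fun {Y Y'} f h => pb_comp H f h x }⟩⟩

end Groth.Agent.KoszOrthLib.BrownLS
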