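import Groth.Agent.KoszOrthLib.DQCoh
import Groth.Agent.FiltSectLib.Coprod
import Groth.Agent.QRlimLib.Unbounded

/-!
# Direct images on `DQCoh`
-/

set_option autoImplicit false
set_option linter.style.haveILetI false
set_option backward.isDefEq.respectTransparency false
set_option backward.isDefEq.respectTransparency.types false
set_option maxHeartbeats 1000000

universe u

open CategoryTheory CategoryTheory.Limits AlgebraicGeometry CategoryTheory.Pretriangulated

attribute [local instance] HasDerivedCategory.standard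

namespace Groth.Agent.KoszOrthLib

variable {X Y : Scheme.{u}} (f : X ⟶ Y) [DCoh.HasRpush f]

theorem preservesCoproducts_ιRpush [QuasiCompact f] [QuasiSeparated f] (J : Type u) :
    PreservesColimitsOfShape (Discrete J) ((DCoh.IsQCohD (X := X)).ι ⋙ DCoh.Rpush f) := by
  refine ⟨fun {F} => ?_⟩
  let ι := (DCoh.IsQCohD (X := X)).ι
  let K := fun j : J => ι.obj (F.obj ⟨j⟩)
  haveI : HasCoproduct K := inferInstance
  haveI : HasCoproduct fun j => (DCoh.Rpush f).obj (K j) := inferInstance
  haveI : IsIso (sigmaComparison (DCoh.Rpush f) K) :=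
    FiltSectLib.isIso_sigmaDesc_rpush_of_isQCohD f K fun j => (F.obj ⟨j⟩).property
  haveI := PreservesCoproduct.of_iso_comparison (DCoh.Rpush f) K
  let e : Discrete.functor K ≅ F ⋙ ι := Discrete.natIso fun _ => Iso.refl _
  haveI : PreservesColimit (F ⋙ ι) (DCoh.Rpush f) := preservesColimit_of_iso_diagram _ e
  infer_instance

/-- The right adjoint of `Rf_*` on `DQCoh`. -/
theorem isLeftAdjoint_rpushQ [CompactSpace X] [QuasiSeparatedSpace X] [QuasiCompact f] [QuasiSeparated f]
    (h : ∀ K : DCoh.D X, DCoh.IsQCohD K → DCoh.IsQCohD ((DCoh.Rpush f).obj K)) :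
    (ObjectProperty.lift DCoh.IsQCohD (ObjectProperty.ι DCoh.IsQCohD ⋙ DCoh.Rpush f)
      (fun K => h K.obj K.property)).IsLeftAdjoint := by
  obtain ⟨_, _⟩ := QRlimLib.exists_isTriangulated_rpush f
  haveI := fun J : Type u => preservesCoproducts_ιRpush f J
  let G := (DCoh.IsQCohD (X := X)).ι ⋙ DCoh.Rpush f
  haveI : G.IsLeftAdjoint := isLeftAdjoint_of_DQCoh G
  exact ((Adjunction.ofIsLeftAdjoint G).restrictFullyFaithful (Functor.FullyFaithful.id _)
    (DCoh.IsQCohD (X := Y)).fullyFaithfulι (R := (DCoh.IsQCohD (X := Y)).ι ⋙ G.rightAdjoint)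
    (Functor.leftUnitor _ ≪≫ (ObjectProperty.liftCompιIso _ _ _).symm)
    (Functor.rightUnitor _).symm).isLeftAdjoint

end Groth.Agent.KoszOrthLib
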