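import Groth.Agent.KoszOrthLib.Factor

/-!
# Sections and Koszul complexes of powers
-/

set_option autoImplicit false
set_option linter.style.haveILetI false
set_option backward.isDefEq.respectTransparency false
set_option backward.isDefEq.respectTransparency.types false
set_option maxHeartbeats 1000000

universe u

open CategoryTheory CategoryTheory.Limits AlgebraicGeometry

attribute [local instance] HasDerivedCategory.standard

namespace Groth.Agent.KoszOrthLib

/-- The free module of rank one gives the structure sheaf. -/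
theorem nonempty_tildeD_single_self (R : CommRingCat.{u}) [PreservesFiniteLimits (tilde.functor R)] :
    Nonempty ((DCoh.tildeD R).obj (DerivedCategory.Q.obj
      ((CochainComplex.singleFunctor (ModuleCat.{u} R) 0).obj (ModuleCat.of R R))) ≅
        DCoh.inD (Spec R) (Coh.structureModule (Spec R))) :=
  ⟨(tilde.functor R).mapDerivedCategoryFactors.app _ ≪≫
    DerivedCategory.Q.mapIso ((HomologicalComplex.singleMapHomologicalComplex (tilde.functor R)
      (ComplexShape.up ℤ) 0).app (ModuleCat.of R R)) ≪≫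
    DerivedCategory.Q.mapIso ((CochainComplex.singleFunctor (Spec R).Modules 0).mapIso tildeSelf) ≪≫
    ((DerivedCategory.singleFunctorIsoCompQ (Spec R).Modules 0).app _).symm⟩

variable {A : Type u} [CommRing A] [PreservesFiniteLimits (tilde.functor (CommRingCat.of A))]

theorem exists_section_factor (fs : List A) (E : DCoh.D (Spec (CommRingCat.of A))) (hE : DCoh.IsQCohD E)
    (hU : ∀ i : ℤ, -(fs.length : ℤ) < i → i ≤ 0 → IsZero ((DCoh.HD E i).restrict (pOpen A fs).ι))
    (s : DCoh.inD (Spec (CommRingCat.of A)) (Coh.structureModule (Spec (CommRingCat.of A))) ⟶ E) :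
    ∃ (e : ℕ) (ψ : (tD A).obj (kA (fs.map (fun a => a ^ e))) ⟶ E)
      (t : DCoh.inD (Spec (CommRingCat.of A)) (Coh.structureModule (Spec (CommRingCat.of A))) ⟶
        (tD A).obj (kA (fs.map (fun a => a ^ e)))), t ≫ ψ = s := by
  obtain ⟨N, ⟨eN⟩⟩ := (TildeDerLib.isQCohD_iff (CommRingCat.of A) E).1 hE
  obtain ⟨c⟩ := nonempty_tildeD_single_self (CommRingCat.of A)
  change (tD A).obj (kA ([] : List A)) ≅ _ at c
  obtain ⟨φ, hφ⟩ := (tD A).map_surjective (c.hom ≫ s ≫ eN.inv)
  let sh := (shiftFunctorZero (DerivedCategory (ModuleCat.{u} A)) ℤ).app N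
  obtain ⟨e₀, he⟩ := exists_factor_unit (M := N) 0 fs (fun f hf i h₁ h₂ => by
    refine (forall_torsion_iff f _).2 fun x hx => ?_
    refine (subsingleton_stalk_tilde_iff (R := CommRingCat.of A) _ x).1
      ((DCohRestrLib.subsingleton_stalk_of_iso
        ((TildeDerLib.tildeHIso (CommRingCat.of A) i N).symm ≪≫
          (DerivedCategory.homologyFunctor _ i).mapIso eN) x).2 ?_)
    exact (DCohRestrLib.subsingleton_stalk_restrict (pOpen A fs).ι (DCoh.HD E i)
      ⟨x, (mem_pOpen_iff fs x).2 ⟨f, hf, hx⟩⟩).1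
      ((DCohRestrLib.isZero_iff_subsingleton_stalks _).1 (hU i (by omega) h₂) _)) (φ ≫ sh.inv)
  obtain ⟨ψ, hψ⟩ := he e₀ le_rfl
  refine ⟨e₀, (tD A).map (ψ ≫ sh.hom) ≫ eN.hom, c.inv ≫ (tD A).map (unitK _), ?_⟩
  rw [Category.assoc, ← Functor.map_comp_assoc, ← Category.assoc (unitK _), hψ, Category.assoc,
    Iso.inv_hom_id, Category.comp_id, hφ]
  simp

end Groth.Agent.KoszOrthLib
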