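import Groth.Prelude.Def_Koszul
import Groth.Agent.TildeDerLib.Gen
import Mathlib.Algebra.Homology.DerivedCategory.Linear
import Mathlib.Algebra.Homology.DerivedCategory.TStructure
import Mathlib.Algebra.Category.ModuleCat.Basic
import Mathlib.Algebra.Homology.ShortComplex.Linear

/-!
# Maps out of Koszul complexes in the derived category of modules
-/

set_option autoImplicit false
set_option backward.isDefEq.respectTransparency false
set_option backward.isDefEq.respectTransparency.types false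
set_option linter.style.haveILetI false

universe u w

open CategoryTheory CategoryTheory.Limits CategoryTheory.Pretriangulated HomologicalComplex

namespace Groth.Agent.KoszOrthLib

variable {A : Type u} [CommRing A] [HasDerivedCategory.{w} (ModuleCat.{u} A)]

/-- The Koszul complex in the derived category. -/
noncomputable abbrev kA (l : List A) : DerivedCategory (ModuleCat.{u} A) :=
  DerivedCategory.Q.obj (Koszul.koszul A l)

theorem exists_koszul_triangle (f : A) (l : List A) :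
    ∃ (i : kA l ⟶ kA (f :: l)) (d : kA (f :: l) ⟶ (kA l)⟦(1 : ℤ)⟧),
      Triangle.mk (f • 𝟙 (kA l)) i d ∈ distTriang _ := by
  let φ : Koszul.koszul A l ⟶ Koszul.koszul A l := f • 𝟙 _
  have e : DerivedCategory.Q.map φ = f • 𝟙 (kA l) := by
    simp only [φ, Functor.map_smul, CategoryTheory.Functor.map_id]
  refine ⟨DerivedCategory.Q.map (CochainComplex.mappingCone.inr φ),
    DerivedCategory.Q.map (CochainComplex.mappingCone.triangle φ).mor₃ ≫
      (DerivedCategory.Q.commShiftIso (1 : ℤ)).hom.app (Koszul.koszul A l), ?_⟩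
  rw [← e]
  exact DerivedCategory.mappingCone_triangle_distinguished φ

variable {M : DerivedCategory (ModuleCat.{u} A)}

/-- `(M[n-1])[1] ≅ M[n]`. -/
noncomputable abbrev shOne (M : DerivedCategory (ModuleCat.{u} A)) (n : ℤ) : (M⟦n - 1⟧)⟦(1 : ℤ)⟧ ≅ M⟦n⟧ :=
  ((shiftFunctorAdd' (DerivedCategory (ModuleCat.{u} A)) (n - 1) 1 n (by omega)).app M).symm

theorem exists_unshift {K : DerivedCategory (ModuleCat.{u} A)} {n : ℤ} (ψ : K⟦(1 : ℤ)⟧ ⟶ M⟦n⟧) :
    ∃ ψ₀ : K ⟶ M⟦n - 1⟧, ψ = ψ₀⟦(1 : ℤ)⟧' ≫ (shOne M n).hom := by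
  obtain ⟨ψ₀, h⟩ := (shiftFunctor (DerivedCategory (ModuleCat.{u} A)) (1 : ℤ)).map_surjective (ψ ≫ (shOne M n).inv)
  exact ⟨ψ₀, by rw [h, Category.assoc, Iso.inv_hom_id, Category.comp_id]⟩

/-- Every map from `K` to a shift of `M` is killed by a power of `f`. -/
def Tors (f : A) (K M : DerivedCategory (ModuleCat.{u} A)) : Prop :=
  ∀ (n : ℤ) (φ : K ⟶ M⟦n⟧), ∃ k : ℕ, f ^ k • φ = 0

/-- Homology of `M` is `f`-power torsion. -/
def TorsH (f : A) (M : DerivedCategory (ModuleCat.{u} A)) : Prop :=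
  ∀ (i : ℤ) (x : (DerivedCategory.homologyFunctor (ModuleCat.{u} A) i).obj M), ∃ k : ℕ, f ^ k • x = 0

/-- The isomorphism `K ⟨⟩ ≅ A[0]`. -/
noncomputable abbrev kNilIso : kA ([] : List A) ≅ TildeDerLib.gen A 0 := Iso.refl _

theorem map_zero_H {K L : DerivedCategory (ModuleCat.{u} A)} (m : ℤ) :
    (DerivedCategory.homologyFunctor (ModuleCat.{u} A) m).map (0 : K ⟶ L) = 0 :=
  Functor.map_zero _ _ _

/-- A map from `A[-m]` is determined by the image of `1`. -/
theorem gen_hom_eq_zero_iff {m : ℤ} (g : TildeDerLib.gen A m ⟶ M) :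
    g = 0 ↔ (TildeDerLib.ev g).hom (1 : A) = 0 := by
  refine ⟨fun h => by simp [h, TildeDerLib.ev, map_zero_H], fun h => (TildeDerLib.bijective_ev m M).1 ?_⟩
  refine ModuleCat.hom_ext (LinearMap.ext_ring ?_)
  simpa [TildeDerLib.ev, map_zero_H] using h

instance linear_shortComplexFunctor (m : ℤ) :
    Functor.Linear A (HomologicalComplex.shortComplexFunctor (ModuleCat.{u} A) (ComplexShape.up ℤ) m) where
  map_smul f r := by
    apply ShortComplex.hom_ext <;> rfl

instance linear_complexHomology (m : ℤ) :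
    Functor.Linear A (HomologicalComplex.homologyFunctor (ModuleCat.{u} A) (ComplexShape.up ℤ) m) :=
  Functor.linear_of_iso A (HomologicalComplex.homologyFunctorIso (ModuleCat.{u} A) (ComplexShape.up ℤ) m).symm

theorem smul_homology_map {K L : DerivedCategory (ModuleCat.{u} A)} (a : A) (g : K ⟶ L) (m : ℤ) :
    (DerivedCategory.homologyFunctor (ModuleCat.{u} A) m).map (a • g) =
      a • (DerivedCategory.homologyFunctor (ModuleCat.{u} A) m).map g := by
  haveI : Functor.Linear A (DerivedCategory.homologyFunctor (ModuleCat.{u} A) m) :=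
    haveI : Functor.Linear A (DerivedCategory.Q ⋙ DerivedCategory.homologyFunctor (ModuleCat.{u} A) m) :=
      Functor.linear_of_iso _ (DerivedCategory.homologyFunctorFactors (ModuleCat.{u} A) m).symm
    Localization.functor_linear_iff DerivedCategory.Q
      (HomologicalComplex.quasiIso (ModuleCat.{u} A) (ComplexShape.up ℤ)) A
      (DerivedCategory.Q ⋙ DerivedCategory.homologyFunctor (ModuleCat.{u} A) m)
      (DerivedCategory.homologyFunctor (ModuleCat.{u} A) m) |>.1 inferInstance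
  exact Functor.map_smul _ _ _

/-- `H^0(M[n]) ≅ H^n(M)`. -/
noncomputable abbrev hShift (M : DerivedCategory (ModuleCat.{u} A)) (n : ℤ) :
    (DerivedCategory.homologyFunctor (ModuleCat.{u} A) 0).obj (M⟦n⟧) ≅
      (DerivedCategory.homologyFunctor (ModuleCat.{u} A) n).obj M :=
  ((DerivedCategory.homologyFunctor (ModuleCat.{u} A) 0).shiftIso n 0 n (by omega)).app M

theorem tors_nil (f : A) (h : TorsH f M) : Tors f (kA ([] : List A)) M := fun n φ => by
  obtain ⟨k, hk⟩ := h n ((hShift M n).hom.hom ((TildeDerLib.ev (kNilIso.inv ≫ φ)).hom (1 : A)))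
  refine ⟨k, ?_⟩
  rw [← cancel_epi (kNilIso (A := A)).inv, comp_zero, Linear.comp_smul, gen_hom_eq_zero_iff]
  have h2 : f ^ k • (TildeDerLib.ev ((kNilIso (A := A)).inv ≫ φ)).hom (1 : A) = 0 := by
    refine (ConcreteCategory.bijective_of_isIso (hShift M n).hom).1 ?_
    rw [map_smul, map_zero]
    exact hk
  simpa [TildeDerLib.ev, smul_homology_map] using h2

theorem tors_cons {f g : A} {l : List A} (h : Tors f (kA l) M) : Tors f (kA (g :: l)) M := by
  obtain ⟨i, d, hT⟩ := exists_koszul_triangle g l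
  intro n φ
  obtain ⟨k₁, hk₁⟩ := h n (i ≫ φ)
  obtain ⟨ψ, hψ⟩ := Triangle.yoneda_exact₃ _ hT (f ^ k₁ • φ)
    (show i ≫ (f ^ k₁ • φ) = 0 by rw [Linear.comp_smul]; exact hk₁)
  change (kA l)⟦(1 : ℤ)⟧ ⟶ M⟦n⟧ at ψ
  change f ^ k₁ • φ = d ≫ ψ at hψ
  obtain ⟨ψ₀, hψ₀⟩ := exists_unshift ψ
  obtain ⟨k₂, hk₂⟩ := h (n - 1) ψ₀
  refine ⟨k₂ + k₁, ?_⟩
  rw [pow_add, mul_smul, hψ, ← Linear.comp_smul, hψ₀, ← Linear.smul_comp, ← Functor.map_smul, hk₂,
    Functor.map_zero, zero_comp, comp_zero]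

theorem tors_koszul (f : A) (h : TorsH f M) : ∀ l : List A, Tors f (kA l) M
  | [] => tors_nil f h
  | _ :: l => tors_cons (tors_koszul f h l)

/-- No nonzero maps from `kA l` to `M[n]`. -/
def Orth (l : List A) (M : DerivedCategory (ModuleCat.{u} A)) (n : ℤ) : Prop :=
  ∀ φ : kA l ⟶ M⟦n⟧, φ = 0

theorem orth_nil_iff (M : DerivedCategory (ModuleCat.{u} A)) (n : ℤ) :
    Orth ([] : List A) M n ↔ IsZero ((DerivedCategory.homologyFunctor (ModuleCat.{u} A) n).obj M) := by
  constructor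
  · intro h
    refine IsZero.of_iso ?_ (hShift M n).symm
    rw [ModuleCat.isZero_iff_subsingleton]
    refine subsingleton_of_forall_eq 0 fun x => ?_
    obtain ⟨g, hg⟩ := (TildeDerLib.bijective_ev 0 (M⟦n⟧)).2
      (ModuleCat.ofHom (LinearMap.toSpanSingleton A _ x))
    have h0 : g = 0 := h g
    have := congrArg (fun t => t.hom (1 : A)) hg
    simp [h0, TildeDerLib.ev, map_zero_H] at this
    exact this.symm
  · intro h φ
    exact (TildeDerLib.bijective_ev 0 (M⟦n⟧)).1 ((h.of_iso (hShift M n)).eq_of_tgt _ _)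

theorem orth_cons {f : A} {l : List A} {n : ℤ} (h₁ : Orth l M (n - 1)) (h₂ : Orth l M n) :
    Orth (f :: l) M n := by
  obtain ⟨i, d, hT⟩ := exists_koszul_triangle f l
  intro φ
  obtain ⟨ψ, hψ⟩ := Triangle.yoneda_exact₃ _ hT φ (h₂ _)
  change (kA l)⟦(1 : ℤ)⟧ ⟶ M⟦n⟧ at ψ
  change φ = d ≫ ψ at hψ
  obtain ⟨ψ₀, hψ₀⟩ := exists_unshift ψ
  rw [hψ, hψ₀, h₁ ψ₀, Functor.map_zero, zero_comp, comp_zero]

/-- If multiplication by `f` on maps `kA l ⟶ M[n]` is nilpotent and `kA (f :: l)` is orthogonal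
to `M[n]`, so is `kA l`. -/
theorem orth_of_cons {f : A} {l : List A} {n : ℤ} (hM : Tors f (kA l) M) (h : Orth (f :: l) M n) :
    Orth l M n := by
  obtain ⟨i, d, hT⟩ := exists_koszul_triangle f l
  have step : ∀ φ : kA l ⟶ M⟦n⟧, f • φ = 0 → φ = 0 := fun φ hφ => by
    obtain ⟨ψ, hψ⟩ := Triangle.yoneda_exact₂ _ hT φ
      (show (f • 𝟙 (kA l)) ≫ φ = 0 by rw [Linear.smul_comp, Category.id_comp, hφ])
    change kA (f :: l) ⟶ M⟦n⟧ at ψ
    change φ = i ≫ ψ at hψ
    rw [hψ, h ψ, comp_zero]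
  intro φ
  obtain ⟨k, hk⟩ := hM n φ
  induction k with
  | zero => simpa using hk
  | succ k ih =>
    refine ih (step _ ?_)
    rwa [smul_smul, ← pow_succ']

theorem isZero_homology_of_orth : ∀ (l : List A), (∀ f ∈ l, TorsH f M) → ∀ n : ℤ,
    Orth l M n → IsZero ((DerivedCategory.homologyFunctor (ModuleCat.{u} A) n).obj M)
  | [], _, n, h => (orth_nil_iff M n).1 h
  | f :: l, ht, n, h => isZero_homology_of_orth l (fun g hg => ht g (List.mem_cons_of_mem f hg)) n
      (orth_of_cons (tors_koszul f (ht f List.mem_cons_self) l) h)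

theorem orth_of_isZero_homology : ∀ (l : List A) (n : ℤ),
    (∀ i, n - (l.length : ℤ) ≤ i → i ≤ n →
      IsZero ((DerivedCategory.homologyFunctor (ModuleCat.{u} A) i).obj M)) → Orth l M n
  | [], n, h => (orth_nil_iff M n).2 (h n (by simp) le_rfl)
  | f :: l, n, h => orth_cons
      (orth_of_isZero_homology l (n - 1) fun i h₁ h₂ => h i (by simp; omega) (by omega))
      (orth_of_isZero_homology l n fun i h₁ h₂ => h i (by simp; omega) h₂)

/-- In the first degree where maps out of the Koszul complex can survive, they vanish after composing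
with a map that kills the corresponding homology. -/
theorem comp_eq_zero_top {N : DerivedCategory (ModuleCat.{u} A)} (ι : M ⟶ N) (a : ℤ)
    (hM : ∀ i, a < i → IsZero ((DerivedCategory.homologyFunctor (ModuleCat.{u} A) i).obj M))
    (hι : (DerivedCategory.homologyFunctor (ModuleCat.{u} A) a).map ι = 0) :
    ∀ (l : List A) (n : ℤ), a + (l.length : ℤ) ≤ n → ∀ φ : kA l ⟶ M⟦n⟧, φ ≫ ι⟦n⟧' = 0
  | [], n, hn, φ => by
    change TildeDerLib.gen A 0 ⟶ M⟦n⟧ at φ
    refine (TildeDerLib.bijective_ev 0 (N⟦n⟧)).1 ?_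
    change TildeDerLib.ev (φ ≫ ι⟦n⟧') = TildeDerLib.ev 0
    rw [TildeDerLib.ev_comp]
    have h0 : (DerivedCategory.homologyFunctor (ModuleCat.{u} A) 0).map (ι⟦n⟧') = 0 := by
      have hn' : (DerivedCategory.homologyFunctor (ModuleCat.{u} A) n).map ι = 0 := by
        rcases eq_or_lt_of_le (show a ≤ n by simpa using hn) with h | h
        · exact h ▸ hι
        · exact (hM n h).eq_of_src _ _
      rw [← cancel_mono (hShift N n).hom, zero_comp]
      have := ((DerivedCategory.homologyFunctor (ModuleCat.{u} A) 0).shiftIso n 0 n (by omega)).hom.naturality ι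
      exact this.trans ((congrArg (fun z => (hShift M n).hom ≫ z) hn').trans comp_zero)
    rw [h0]
    simp [TildeDerLib.ev, map_zero_H]
  | f :: l, n, hn, φ => by
    simp only [List.length_cons, Nat.cast_add, Nat.cast_one] at hn
    obtain ⟨i, d, hT⟩ := exists_koszul_triangle f l
    obtain ⟨ψ, hψ⟩ := Triangle.yoneda_exact₃ _ hT φ
      ((orth_of_isZero_homology l n fun i h₁ _ => hM i (by omega)) _)
    change (kA l)⟦(1 : ℤ)⟧ ⟶ M⟦n⟧ at ψ
    change φ = d ≫ ψ at hψ
    obtain ⟨ψ₀, hψ₀⟩ := exists_unshift ψ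
    have hnat : (shOne M n).hom ≫ ι⟦n⟧' = ((ι⟦n - 1⟧'))⟦(1 : ℤ)⟧' ≫ (shOne N n).hom :=
      ((shiftFunctorAdd' (DerivedCategory (ModuleCat.{u} A)) (n - 1) 1 n (by omega)).inv.naturality ι).symm
    rw [hψ, hψ₀, Category.assoc, Category.assoc, hnat, ← Functor.map_comp_assoc,
      comp_eq_zero_top ι a hM hι l (n - 1) (by omega) ψ₀, Functor.map_zero, zero_comp, comp_zero]

theorem forall_shift_iff {D : Type*} [Category D] [HasShift D ℤ] [HasZeroMorphisms D]
    [∀ n : ℤ, (shiftFunctor D n).PreservesZeroMorphisms] (K L : D) (a b : ℤ) (h : a + b = 0) :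
    (∀ φ : K⟦a⟧ ⟶ L, φ = 0) ↔ ∀ φ : K ⟶ L⟦b⟧, φ = 0 := by
  let e := (shiftFunctorCompIsoId D a b h).app K
  constructor
  · intro H φ
    obtain ⟨φ', hφ'⟩ := (shiftFunctor D b).map_surjective (e.hom ≫ φ)
    rw [← cancel_epi e.hom, comp_zero, ← hφ', H φ', Functor.map_zero]
  · intro H φ
    apply (shiftFunctor D b).map_injective
    rw [Functor.map_zero, ← cancel_epi e.inv, comp_zero]
    exact H _

end Groth.Agent.KoszOrthLib
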