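import Groth.Agent.KoszOrthLib.Adj
import Groth.Agent.KoszOrthLib.Core
import Groth.Agent.DCohRestrLib.Support
import Groth.Agent.TildeDerLib.Affine
import Groth.Agent.QRlimLib.Unbounded
import Groth.Prelude.Def_Wider
import Mathlib.RingTheory.Ideal.Maximal

/-!
# Koszul orthogonality on an affine scheme
-/

set_option autoImplicit false
set_option linter.style.haveILetI false
set_option backward.isDefEq.respectTransparency false
set_option backward.isDefEq.respectTransparency.types false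
set_option maxHeartbeats 1000000

universe u

open CategoryTheory CategoryTheory.Limits CategoryTheory.Pretriangulated AlgebraicGeometry
open DerivedCategory.TStructure (t)

attribute [local instance] HasDerivedCategory.standard

namespace Groth.Agent.KoszOrthLib

variable {A : Type u} [CommRing A]

theorem map_smul_id_apply (f : A) (K : DerivedCategory (ModuleCat.{u} A)) (m : ℤ)
    (y : (DerivedCategory.homologyFunctor (ModuleCat.{u} A) m).obj K) :
    ((DerivedCategory.homologyFunctor (ModuleCat.{u} A) m).map (f • 𝟙 K)).hom y = f • y := by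
  rw [smul_homology_map, CategoryTheory.Functor.map_id]
  rfl

/-- The kernel of `f` on homology is killed in the cone. -/
theorem torsH_koszul (f : A) : ∀ l : List A, f ∈ l → TorsH f (kA l)
  | [], h => absurd h List.not_mem_nil
  | g :: l, h => by
    obtain ⟨i, d, hT⟩ := exists_koszul_triangle g l
    intro m y
    let H := fun j => DerivedCategory.homologyFunctor (ModuleCat.{u} A) j
    let δ := DerivedCategory.HomologySequence.δ (Triangle.mk (g • 𝟙 (kA l)) i d) m (m + 1) rfl
    have hex := DerivedCategory.HomologySequence.exact₃ _ hT m (m + 1) rfl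
    rw [ShortComplex.moduleCat_exact_iff] at hex
    have key : ∀ (z : (H m).obj (kA (g :: l))), δ.hom z = 0 →
        ∃ x : (H m).obj (kA l), ((H m).map i).hom x = z := hex
    by_cases hfg : f = g
    · subst hfg
      refine ⟨2, ?_⟩
      have hδ : δ.hom (f • y) = 0 := by
        rw [map_smul]
        have := congrArg (fun φ => φ.hom y)
          (DerivedCategory.HomologySequence.δ_comp (Triangle.mk (f • 𝟙 (kA l)) i d) hT m (m + 1) rfl)
        exact (map_smul_id_apply f _ _ (δ.hom y)).symm.trans this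
      obtain ⟨x, hx⟩ := key _ hδ
      rw [pow_two, mul_smul, ← hx, ← map_smul]
      have h0 : (H m).map (f • 𝟙 (kA l)) ≫ (H m).map i = 0 := ((H m).map_comp _ _).symm.trans
        ((congrArg (H m).map (comp_distTriang_mor_zero₁₂ _ hT)).trans (map_zero_H m))
      have := congrArg (fun φ => φ.hom x) h0
      exact (congrArg ((H m).map i).hom (map_smul_id_apply f _ _ x)).symm.trans this
    · have hf : f ∈ l := by simpa [hfg] using h
      obtain ⟨k₁, hk₁⟩ := torsH_koszul f l hf (m + 1) (δ.hom y)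
      obtain ⟨x, hx⟩ := key (f ^ k₁ • y) (by rw [map_smul]; exact hk₁)
      obtain ⟨k₂, hk₂⟩ := torsH_koszul f l hf m x
      refine ⟨k₂ + k₁, ?_⟩
      rw [pow_add, mul_smul, ← hx, ← map_smul, hk₂, map_zero]

/-- The complement of `V(fs)`. -/
abbrev pOpen (A : Type u) [CommRing A] (fs : List A) : (Spec (CommRingCat.of A)).Opens :=
  LocCoh.puncturedOpen A (Ideal.span {a | a ∈ fs})

theorem mem_pOpen_iff (fs : List A) (x : Spec (CommRingCat.of A)) :
    x ∈ pOpen A fs ↔ ∃ f ∈ fs, f ∉ (x : PrimeSpectrum A).asIdeal := by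
  change (x : PrimeSpectrum A) ∈ (PrimeSpectrum.zeroLocus (R := A) (Ideal.span {a | a ∈ fs} : Set A))ᶜ ↔ _
  rw [PrimeSpectrum.zeroLocus_span, Set.mem_compl_iff, PrimeSpectrum.mem_zeroLocus, Set.not_subset]
  rfl

theorem subsingleton_stalk_tilde_iff {R : CommRingCat.{u}} (N : ModuleCat.{u} R) (x : PrimeSpectrum R) :
    Subsingleton ((tilde N).presheaf.stalk (x : Spec R)) ↔
      ∀ m : N, ∃ r ∉ x.asIdeal, r • m = 0 := by
  let e := IsLocalizedModule.iso x.asIdeal.primeCompl (tilde.toStalk N x).hom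
  refine e.symm.toEquiv.subsingleton_congr.trans ?_
  exact LocalizedModule.subsingleton_iff

theorem forall_torsion_iff (f : A) (N : ModuleCat.{u} A) :
    (∀ m : N, ∃ k : ℕ, f ^ k • m = 0) ↔
      ∀ x : PrimeSpectrum A, f ∉ x.asIdeal → ∀ m : N, ∃ r ∉ x.asIdeal, r • m = 0 := by
  constructor
  · intro h x hx m
    obtain ⟨k, hk⟩ := h m
    exact ⟨f ^ k, fun h => hx (x.isPrime.mem_of_pow_mem k h), hk⟩
  · intro h m
    let J : Ideal A := LinearMap.ker (LinearMap.toSpanSingleton A N m)
    have hJ : f ∈ J.radical := by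
      rw [Ideal.radical_eq_sInf, Submodule.mem_sInf]
      rintro p ⟨hJp, hp⟩
      by_contra hfp
      obtain ⟨r, hr, hr0⟩ := h ⟨p, hp⟩ hfp m
      exact hr (hJp (show r ∈ J from hr0))
    obtain ⟨k, hk⟩ := hJ
    exact ⟨k, hk⟩

variable [PreservesFiniteLimits (tilde.functor (CommRingCat.of A))]

/-- `tildeD`. -/
noncomputable abbrev tD (A : Type u) [CommRing A] [PreservesFiniteLimits (tilde.functor (CommRingCat.of A))] :=
  DCoh.tildeD (CommRingCat.of A)

instance full_tD : (tD A).Full :=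
  haveI := TildeDerLib.isIso_unit (CommRingCat.of A)
  (TildeDerLib.adjD (CommRingCat.of A)).fullyFaithfulLOfIsIsoUnit.full

instance faithful_tD : (tD A).Faithful :=
  haveI := TildeDerLib.isIso_unit (CommRingCat.of A)
  (TildeDerLib.adjD (CommRingCat.of A)).fullyFaithfulLOfIsIsoUnit.faithful

theorem isZero_restrictD_tD_iff (fs : List A) (M : DerivedCategory (ModuleCat.{u} A))
    [PreservesFiniteLimits (Scheme.Modules.restrictFunctor (pOpen A fs).ι)] :
    IsZero ((DCoh.restrictD (pOpen A fs).ι).obj ((tD A).obj M)) ↔ ∀ f ∈ fs, TorsH f M := by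
  rw [DCohRestrLib.isZero_restrictD_iff]
  have hst : ∀ (i : ℤ) (x : Spec (CommRingCat.of A)),
      x ∉ CohB1.support (DCoh.HD ((tD A).obj M) i) ↔
        ∀ m : (DerivedCategory.homologyFunctor (ModuleCat.{u} A) i).obj M,
          ∃ r ∉ (x : PrimeSpectrum A).asIdeal, r • m = 0 := fun i x => by
    refine not_not.trans ((DCohRestrLib.subsingleton_stalk_of_iso
      (TildeDerLib.tildeHIso (CommRingCat.of A) i M) x).trans ?_)
    exact subsingleton_stalk_tilde_iff _ x
  constructor
  · intro h f hf i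
    exact (forall_torsion_iff f _).2 fun x hx =>
      (hst i x).1 (h i x ((mem_pOpen_iff fs x).2 ⟨f, hf, hx⟩))
  · intro h i x hx
    obtain ⟨f, hf, hfx⟩ := (mem_pOpen_iff fs x).1 hx
    exact (hst i x).2 ((forall_torsion_iff f _).1 (h f hf i) x hfx)

theorem isZero_restrictD_kA (fs : List A)
    [PreservesFiniteLimits (Scheme.Modules.restrictFunctor (pOpen A fs).ι)] :
    IsZero ((DCoh.restrictD (pOpen A fs).ι).obj ((tD A).obj (kA fs))) :=
  (isZero_restrictD_tD_iff fs _).2 fun f hf => torsH_koszul f fs hf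

/-- No maps from the Koszul object in degree `n`. -/
def OrthX (fs : List A) (E : DCoh.D (Spec (CommRingCat.of A))) (n : ℤ) : Prop :=
  ∀ φ : ((tD A).obj (kA fs))⟦-n⟧ ⟶ E, φ = 0

theorem orthX_of_iso {fs : List A} {E E' : DCoh.D (Spec (CommRingCat.of A))} (e : E ≅ E') {n : ℤ}
    (h : OrthX fs E n) : OrthX fs E' n := fun φ => by
  rw [← cancel_mono e.inv, zero_comp]
  exact h _

theorem orthX_tD_iff (fs : List A) (M : DerivedCategory (ModuleCat.{u} A)) (n : ℤ) :
    OrthX fs ((tD A).obj M) n ↔ Orth fs M n := by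
  let c := ((tD A).commShiftIso (-n)).app (kA fs)
  refine Iff.trans ?_ (forall_shift_iff (kA fs) M (-n) n (by omega))
  constructor
  · intro h φ
    apply (tD A).map_injective
    rw [Functor.map_zero, ← cancel_epi c.inv, comp_zero]
    exact h _
  · intro h φ
    obtain ⟨φ', hφ'⟩ := (tD A).map_surjective (c.hom ≫ φ)
    rw [← cancel_epi c.hom, comp_zero, ← hφ', h φ', Functor.map_zero]

variable (fs : List A)
  [PreservesFiniteLimits (Scheme.Modules.restrictFunctor (pOpen A fs).ι)] [DCoh.HasRpush (pOpen A fs).ι]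
  (adj : DCoh.restrictD (pOpen A fs).ι ⊣ DCoh.Rpush (pOpen A fs).ι)

include adj in
theorem orthX_rpush (F : DCoh.D (pOpen A fs : Scheme.{u})) (n k : ℤ) :
    OrthX fs (((DCoh.Rpush (pOpen A fs).ι).obj F)⟦k⟧) n := by
  intro φ
  let K := ((tD A).obj (kA fs))⟦-n⟧
  have hz : IsZero ((DCoh.restrictD (pOpen A fs).ι).obj (K⟦-k⟧)) :=
    ((shiftFunctor _ (-k)).map_isZero (((shiftFunctor _ (-n)).map_isZero (isZero_restrictD_kA fs)).of_iso
      (((DCoh.restrictD (pOpen A fs).ι).commShiftIso (-n)).app _))).of_iso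
      (((DCoh.restrictD (pOpen A fs).ι).commShiftIso (-k)).app _)
  refine ((forall_shift_iff K ((DCoh.Rpush (pOpen A fs).ι).obj F) (-k) k (by omega)).1 (fun ψ => ?_)) φ
  exact (adj.homEquiv _ _).symm.injective (hz.eq_of_src _ _)

/-- The fibre of the unit, as a complex of modules. -/
theorem exists_fibre (hU : IsCompact (pOpen A fs : Set (Spec (CommRingCat.of A))))
    (E : DCoh.D (Spec (CommRingCat.of A))) (hE : DCoh.IsQCohD E) :
    ∃ (M N : DerivedCategory (ModuleCat.{u} A)) (ι : M ⟶ N) (eN : (tD A).obj N ≅ E)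
      (d : (DCoh.Rpush (pOpen A fs).ι).obj ((DCoh.restrictD (pOpen A fs).ι).obj E) ⟶ ((tD A).obj M)⟦(1 : ℤ)⟧),
      Triangle.mk ((tD A).map ι ≫ eN.hom) (adj.unit.app E) d ∈ distTriang _ ∧
      (∀ f ∈ fs, TorsH f M) ∧ ∀ n, OrthX fs ((tD A).obj M) n ↔ OrthX fs E n := by
  let j := (pOpen A fs).ι
  haveI : QuasiCompact j := by
    haveI : CompactSpace (pOpen A fs : Scheme.{u}) := isCompact_iff_compactSpace.mp hU
    exact quasiCompact_of_compactSpace _
  have hER : DCoh.IsQCohD ((DCoh.Rpush j).obj ((DCoh.restrictD j).obj E)) :=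
    QRlimLib.isQCohD_rpush j (fun i => by
      haveI := hE i
      haveI := KFlatLib.isQCoh_pullback j (DCoh.HD E i)
      haveI : Coh.IsQCoh ((DCoh.HD E i).restrict j) :=
        QCohLib.isQCoh_of_iso (((Scheme.Modules.restrictFunctorIsoPullback j).app _)).symm
      exact QCohLib.isQCoh_of_iso (DCohRestrLib.restrictHDIso j E i).symm)
  obtain ⟨L, ι', d, hT⟩ := Pretriangulated.distinguished_cocone_triangle₁ (adj.unit.app E)
  have hT' := inv_rot_of_distTriang _ hT
  have hLq : DCoh.IsQCohD L := KFlatLib.isQCohD₂ hT' (KFlatLib.isQCohD_shift hER (-1)) hE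
  obtain ⟨M, ⟨eM⟩⟩ := (TildeDerLib.isQCohD_iff (CommRingCat.of A) L).1 hLq
  obtain ⟨N, ⟨eN⟩⟩ := (TildeDerLib.isQCohD_iff (CommRingCat.of A) E).1 hE
  obtain ⟨ι, hι⟩ := (tD A).map_surjective (eM.hom ≫ ι' ≫ eN.inv)
  refine ⟨M, N, ι, eN, d ≫ (eM.inv)⟦(1 : ℤ)⟧', ?_, ?_, fun n => ?_⟩
  · refine isomorphic_distinguished _ hT _ (Triangle.isoMk _ _ eM (Iso.refl _) (Iso.refl _) ?_ ?_ ?_)
    · simp [hι]
    · simp
    · simp [← Functor.map_comp]
  · rw [← isZero_restrictD_tD_iff fs]
    have h2 := (DCoh.restrictD j).map_distinguished _ hT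
    haveI := isIso_restrictD_unit j adj E
    have hz : IsZero ((DCoh.restrictD j).obj L) :=
      ((((DCoh.restrictD j).mapTriangle.obj (Triangle.mk ι' (adj.unit.app E) d)).isZero₁_iff_isIso₂ h2).2
        ‹_›)
    exact hz.of_iso ((DCoh.restrictD j).mapIso eM)
  · constructor
    · intro h φ
      obtain ⟨ψ, hψ⟩ := Triangle.coyoneda_exact₂ _ hT φ ((orthX_of_iso
        ((shiftFunctorZero _ ℤ).app _) (orthX_rpush fs adj _ n 0)) _)
      rw [hψ, orthX_of_iso eM h ψ]
      exact zero_comp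
    · intro h φ
      obtain ⟨ψ, hψ⟩ := Triangle.coyoneda_exact₂ _ hT' (φ ≫ eM.hom) (h _)
      rw [← cancel_mono eM.hom, zero_comp, hψ]
      exact (congrArg (· ≫ _) (orthX_rpush fs adj _ n (-1) ψ)).trans zero_comp

end Groth.Agent.KoszOrthLib
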