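import Groth.Agent.KFlatLib.DerivedTensor
import Groth.Agent.KFlatLib.StalkTensor
import Groth.Agent.KiehlLib.Tensor
import Groth.Agent.TensorAssocLib.Derived
import Groth.Agent.PerfCompLib.Theta
import Groth.Agent.CubeConsLib.IsoCls
import Groth.Agent.CycPBLib.UnivHom
import Groth.Agent.RefHullLib.Reflexive
import Groth.Agent.QCohLib.QcqsSections

/-!
# Tensoring with an invertible module: an exact autoequivalence, and multiplication by a section
-/

set_option autoImplicit false
set_option linter.style.haveILetI false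
set_option backward.isDefEq.respectTransparency false
set_option backward.isDefEq.respectTransparency.types false
set_option maxHeartbeats 1000000

universe u

open CategoryTheory CategoryTheory.Limits AlgebraicGeometry TopologicalSpace Opposite MonoidalCategory
open AlgebraicGeometry.Scheme (Modules)

namespace Groth.Agent.KoszOrthLib

variable {X : Scheme.{u}}

/-- `- ⊗ L` as the flipped tensor bifunctor. -/
noncomputable def tRNat (L : X.Modules) :
    (DCoh.tensorBi (X := X)).flip.obj L ≅ DCoh.tensorRightMod L :=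
  NatIso.ofComponents (fun _ => Iso.refl _) fun f => (Category.comp_id _).trans (Category.id_comp _).symm

/-- `- ⊗ L ⊗ L' ≅ - ⊗ (L ⊗ L')`. -/
noncomputable def tRComp (L L' : X.Modules) :
    DCoh.tensorRightMod L ⋙ DCoh.tensorRightMod L' ≅ DCoh.tensorRightMod (CohB1.tensorMod L L') :=
  NatIso.ofComponents (fun M => ((TensorAssocLib.assocBiX.app M).app L).app L') fun {M N} f =>
    congrArg (fun t : _ ⟶ _ => (t.app L).app L') (TensorAssocLib.assocBiX.hom.naturality f)

/-- `- ⊗ O ≅ id`. -/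
noncomputable def tRUnit : DCoh.tensorRightMod (Coh.structureModule X) ≅ 𝟭 X.Modules :=
  NatIso.ofComponents (fun M => KFlatLib.tensSwap (Coh.structureModule X) M) (fun {M N} f =>
    (DCoh.shP.map_comp _ _).symm.trans ((congrArg DCoh.shP.map
      (BraidedCategory.braiding_naturality_left (DCoh.toP.map f) (DCoh.toP.obj (Coh.structureModule X)))).trans
        (DCoh.shP.map_comp _ _))) ≪≫ PerfCompLib.tensUnitNat

theorem isEquivalence_tensorRightMod {L : X.Modules} (hL : PicF.IsInvertible L) :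
    (DCoh.tensorRightMod L).IsEquivalence := by
  obtain ⟨d, hd⟩ := CubeConsLib.exists_inverse hL
  obtain ⟨L', rfl⟩ := Quotient.exists_rep d
  obtain ⟨e⟩ := CubeConsLib.cl_eq_one_iff.1 hd
  exact (CategoryTheory.Equivalence.mk (DCoh.tensorRightMod L) (DCoh.tensorRightMod L')
    (tRComp L L' ≪≫ KiehlLib.tensRightNatIso e ≪≫ tRUnit).symm
    (tRComp L' L ≪≫ KiehlLib.tensRightNatIso (HilbPolyLib.swapIso L' L ≪≫ e) ≪≫ tRUnit)).isEquivalence_functor

theorem preservesFiniteLimits_tensorRightMod {L : X.Modules} (hL : PicF.IsInvertible L) :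
    PreservesFiniteLimits (DCoh.tensorRightMod L) :=
  haveI := isEquivalence_tensorRightMod hL
  inferInstance

theorem preservesFiniteColimits_tensorRightMod {L : X.Modules} (hL : PicF.IsInvertible L) :
    PreservesFiniteColimits (DCoh.tensorRightMod L) :=
  haveI := isEquivalence_tensorRightMod hL
  inferInstance

/-- Functoriality of `- ⊗ L` in `L`. -/
noncomputable def tensMapR {L L' : X.Modules} (g : L ⟶ L') :
    DCoh.tensorRightMod L ⟶ DCoh.tensorRightMod L' :=
  (tRNat L).inv ≫ (DCoh.tensorBi (X := X)).flip.map g ≫ (tRNat L').hom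

/-- Multiplication by a section. -/
noncomputable def secNat (L : X.Modules) (σ : Γ(L, ⊤)) : 𝟭 X.Modules ⟶ DCoh.tensorRightMod L :=
  tRUnit.inv ≫ tensMapR (QCohLib.unitHom L σ)

/-- On the stalk at `x` the morphism `f` is `a` times an isomorphism. -/
def Scaled (x : X) (a : X.presheaf.stalk x) {M N : X.Modules} (f : M ⟶ N) : Prop :=
  ∃ θ : (DerSch.stalkFunctor X x).obj M ≅ (DerSch.stalkFunctor X x).obj N,
    (DerSch.stalkFunctor X x).map f = a • θ.hom

theorem Scaled.iso_comp {x : X} {a : X.presheaf.stalk x} {M' M N : X.Modules} (e : M' ≅ M) {f : M ⟶ N}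
    (h : Scaled x a f) : Scaled x a (e.hom ≫ f) := by
  obtain ⟨θ, hθ⟩ := h
  exact ⟨(DerSch.stalkFunctor X x).mapIso e ≪≫ θ,
    by rw [Functor.map_comp, hθ, Linear.comp_smul]; rfl⟩

theorem Scaled.comp_iso {x : X} {a : X.presheaf.stalk x} {M N N' : X.Modules} {f : M ⟶ N}
    (h : Scaled x a f) (e : N ≅ N') : Scaled x a (f ≫ e.hom) := by
  obtain ⟨θ, hθ⟩ := h
  exact ⟨θ ≪≫ (DerSch.stalkFunctor X x).mapIso e,
    by rw [Functor.map_comp, hθ, Linear.smul_comp]; rfl⟩

theorem Scaled.isIso {x : X} {a : X.presheaf.stalk x} (ha : IsUnit a) {M N : X.Modules} {f : M ⟶ N}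
    (h : Scaled x a f) : IsIso ((DerSch.stalkFunctor X x).map f) := by
  obtain ⟨θ, hθ⟩ := h
  obtain ⟨v, rfl⟩ := ha
  rw [hθ]
  refine ⟨((↑v⁻¹ : X.presheaf.stalk x)) • θ.inv, ?_, ?_⟩
  · rw [Linear.smul_comp, Linear.comp_smul, smul_smul, Iso.hom_inv_id, Units.mul_inv, one_smul]
  · rw [Linear.smul_comp, Linear.comp_smul, smul_smul, Iso.inv_hom_id, Units.inv_mul, one_smul]

/-- Near `x` a section of an invertible module is a multiple of a generator. -/
theorem exists_local_eq {L : X.Modules} (hL : PicF.IsInvertible L) (σ : Γ(L, ⊤)) (x : X) :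
    ∃ (V : X.Opens) (_ : x ∈ V) (r : Γ(X, V)) (e : Γ(L, V)), AmpleLib.GenOn L e ∧
      r • e = AmpleLib.res L le_top σ := by
  obtain ⟨V, e, hxV, he⟩ := TwistLib.exists_genOn hL x
  obtain ⟨r, hr⟩ := (he V le_rfl).2 (AmpleLib.res L le_top σ)
  exact ⟨V, hxV, r, e, he, by simpa only [AmpleLib.res_refl] using hr⟩

theorem exists_stalkMap_unitHom {L : X.Modules} (σ : Γ(L, ⊤)) {x : X} {V : X.Opens} (hx : x ∈ V) (r : Γ(X, V))
    (e : Γ(L, V)) (he : AmpleLib.GenOn L e) (hr : r • e = AmpleLib.res L le_top σ) :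
    ∃ θ : (DerSch.stalkFunctor X x).obj (Coh.structureModule X) ≅ (DerSch.stalkFunctor X x).obj L,
      (DerSch.stalkFunctor X x).map (QCohLib.unitHom L σ) = X.presheaf.germ V x hx r • θ.hom := by
  let S := DerSch.stalkFunctor X x
  let O' := Coh.structureModule X
  let R := X.presheaf.stalk x
  let a : R := X.presheaf.germ V x hx r
  have h1 := (AmpleLib.one_genOn (X := X) ⊤).genAt (x := x) (trivial : x ∈ (⊤ : X.Opens))
  let e₁ : R ≃ₗ[R] O'.presheaf.stalk x :=
    LinearEquiv.ofBijective (LinearMap.toSpanSingleton R _ (O'.presheaf.germ ⊤ x trivial (1 : Γ(X, ⊤)))) h1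
  let e₂ : R ≃ₗ[R] L.presheaf.stalk x :=
    LinearEquiv.ofBijective (LinearMap.toSpanSingleton R _ (L.presheaf.germ V x hx e)) (he.genAt hx)
  let θ : S.obj O' ≅ S.obj L := (e₁.symm.trans e₂).toModuleIso
  have hu : S.map (QCohLib.unitHom L σ) = a • θ.hom := by
    refine ModuleCat.hom_ext (LinearMap.ext fun v => ?_)
    obtain ⟨c, rfl⟩ := e₁.surjective v
    let f := (S.map (QCohLib.unitHom L σ)).hom
    have hf1 : f (O'.presheaf.germ ⊤ x trivial (1 : Γ(X, ⊤))) = a • L.presheaf.germ V x hx e := by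
      refine (DerSch.stalkFunctor_map_germ x (QCohLib.unitHom L σ) ⊤ trivial _).trans ?_
      rw [QCohLib.unitHom_app, one_smul]
      refine (AmpleLib.germ_res L _ σ _).trans ?_
      rw [← AmpleLib.germ_res L (le_top : V ≤ ⊤) σ hx, ← hr]
      exact AmpleLib.germ_smul L r e hx
    change f (e₁ c) = a • e₂ (e₁.symm (e₁ c))
    rw [LinearEquiv.symm_apply_apply]
    change f (c • O'.presheaf.germ ⊤ x trivial (1 : Γ(X, ⊤))) = a • (c • L.presheaf.germ V x hx e)
    refine (f.map_smul c _).trans ?_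
    rw [hf1]
    exact smul_comm c a (L.presheaf.germ V x hx e)
  exact ⟨θ, hu⟩

theorem scaled_whisker {L' L : X.Modules} (M : X.Modules) (g : L' ⟶ L) {x : X} (a : X.presheaf.stalk x)
    (θ : (DerSch.stalkFunctor X x).obj L' ≅ (DerSch.stalkFunctor X x).obj L)
    (hg : (DerSch.stalkFunctor X x).map g = a • θ.hom) :
    Scaled x a (((DCoh.tensorBi (X := X)).obj M).map g) := by
  refine ⟨(KFlatLib.stalkTensorIso M L' x).symm ≪≫ whiskerLeftIso ((DerSch.stalkFunctor X x).obj M) θ ≪≫
    KFlatLib.stalkTensorIso M L x, ?_⟩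
  have h2 := (Iso.inv_comp_eq (KFlatLib.stalkTensorIso M L' x)).2
    (KFlatLib.stalkTensorIso_natural_right (M := M) x g)
  refine h2.symm.trans ?_
  rw [hg, MonoidalLinear.whiskerLeft_smul, Linear.smul_comp, Linear.comp_smul]
  rfl

theorem scaled_secNat {L : X.Modules} (σ : Γ(L, ⊤)) {x : X} {V : X.Opens} (hx : x ∈ V) (r : Γ(X, V))
    (e : Γ(L, V)) (he : AmpleLib.GenOn L e) (hr : r • e = AmpleLib.res L le_top σ) (M : X.Modules) :
    Scaled x (X.presheaf.germ V x hx r) ((secNat L σ).app M) := by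
  obtain ⟨θ, hθ⟩ := exists_stalkMap_unitHom σ hx r e he hr
  have h : Scaled x (X.presheaf.germ V x hx r)
      (((DCoh.tensorBi (X := X)).flip.map (QCohLib.unitHom L σ)).app M) := by
    rw [Functor.flip_map_app]
    exact scaled_whisker M _ _ θ hθ
  rw [secNat, tensMapR, NatTrans.comp_app, NatTrans.comp_app, NatTrans.comp_app]
  exact ((h.comp_iso ((tRNat L).app M)).iso_comp ((tRNat (Coh.structureModule X)).app M).symm).iso_comp
    (tRUnit.app M).symm

/-- Sections of a quasi-coherent module supported off the generating locus are killed by powers. -/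
theorem exists_pow_germ_smul_eq_zero {L : X.Modules} (σ : Γ(L, ⊤)) (M : X.Modules) [Coh.IsQCoh M]
    (hM : ∀ y ∈ CohB1.support M, ¬ AmpleLib.GenAt L σ (show y ∈ (⊤ : X.Opens) from trivial))
    {x : X} {V : X.Opens} (hx : x ∈ V) (r : Γ(X, V)) (e : Γ(L, V)) (he : AmpleLib.GenOn L e)
    (hr : r • e = AmpleLib.res L le_top σ) (m : M.presheaf.stalk x) :
    ∃ k : ℕ, X.presheaf.germ V x hx r ^ k • m = 0 := by
  obtain ⟨W, hxW, s, rfl⟩ := TopCat.Presheaf.germ_exist M.presheaf m
  obtain ⟨V', hV', hxV', hV'W⟩ := Opens.isBasis_iff_nbhd.mp X.isBasis_affineOpens (U := W ⊓ V) (x := x) ⟨hxW, hx⟩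
  have h₁ : V' ≤ W := hV'W.trans inf_le_left
  have h₂ : V' ≤ V := hV'W.trans inf_le_right
  let r' : Γ(X, V') := X.presheaf.map (homOfLE h₂).op r
  let t : Γ(M, V') := M.presheaf.map (homOfLE h₁).op s
  have ht : M.presheaf.map (homOfLE (inf_le_left : V' ⊓ X.basicOpen r' ≤ V')).op t = 0 := by
    refine TopCat.Presheaf.section_ext ((SheafOfModules.toSheaf _).obj M) _ _ _ fun y hy => ?_
    have hyr : y ∈ X.basicOpen r := by
      have := hy.2
      rw [Scheme.basicOpen_res] at this
      exact this.2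
    have hys : Subsingleton (M.presheaf.stalk y) := not_not.1 fun h => by
      refine hM y h ?_
      rw [← AmpleLib.genAt_res (le_top : V ≤ ⊤) σ (h₂ hy.1), ← hr]
      exact (AmpleLib.genAt_smul_iff r e _ (he.genAt _)).2 hyr
    exact @Subsingleton.elim _ hys _ _
  obtain ⟨k, hk⟩ := QCohLib.exists_pow_smul_eq_zero r' V' hV'.isCompact le_rfl t
    (by simpa only [show (homOfLE (le_refl V')) = 𝟙 V' from rfl] using ht)
  refine ⟨k, ?_⟩
  have hk' : r' ^ k • t = 0 := by simpa using hk
  have e1 : X.presheaf.germ V x hx r = X.presheaf.germ V' x hxV' r' :=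
    (TopCat.Presheaf.germ_res_apply X.presheaf (homOfLE h₂) x hxV' r).symm
  have e2 : M.presheaf.germ W x hxW s = M.presheaf.germ V' x hxV' t :=
    (TopCat.Presheaf.germ_res_apply M.presheaf (homOfLE h₁) x hxV' s).symm
  rw [e1, e2, ← map_pow]
  refine (AmpleLib.germ_smul M (r' ^ k) t hxV').symm.trans ?_
  rw [hk', map_zero]

end Groth.Agent.KoszOrthLib
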