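import Groth.Agent.KoszOrthLib.Neg
import Groth.Agent.DCohRestrLib.Glue
import Groth.Agent.PerfDualLib.Dual
import Groth.Agent.PerfCompLib.ExtZero
import Groth.Agent.FiltSectLib.Stalks

/-!
# Extending by zero perfect objects supported on a closed subset
-/

set_option autoImplicit false
set_option linter.style.haveILetI false
set_option backward.isDefEq.respectTransparency false
set_option backward.isDefEq.respectTransparency.types false
set_option maxHeartbeats 1000000

universe u

open CategoryTheory CategoryTheory.Limits AlgebraicGeometry TopologicalSpace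

attribute [local instance] HasDerivedCategory.standard

namespace Groth.Agent.KoszOrthLib

variable {X : Scheme.{u}}

/-- The support of an extension by zero, for closed supports. -/
theorem support_extZeroD_subset (U : X.Opens) [PreservesFiniteLimits (CxOX.extZero U.ι)] {T : Set X}
    (P : DCoh.D (U : Scheme.{u}))
    (hP : ∀ i : ℤ, CohB1.support (DCoh.HD P i) ⊆ {v : ↥(U : Scheme.{u}) | U.ι.base v ∈ T}) (i : ℤ) :
    CohB1.support (DCoh.HD ((CxOX.extZeroD U.ι).obj P) i) ⊆ T :=
  (DCohRestrLib.support_HD_extZeroD U P i).trans (by rintro _ ⟨v, hv, rfl⟩; exact hP i hv)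

/-- Extension by zero of a perfect object with closed support is perfect. -/
theorem isPerfect_extZeroD (U : X.Opens) [PreservesFiniteLimits (CxOX.extZero U.ι)] {T : Set X}
    (hT : IsClosed T) (hTU : T ⊆ (U : Set X)) (P : DCoh.D (U : Scheme.{u})) (hP : DCoh.IsPerfect P)
    (hPT : ∀ i : ℤ, CohB1.support (DCoh.HD P i) ⊆ {v : ↥(U : Scheme.{u}) | U.ι.base v ∈ T}) :
    DCoh.IsPerfect ((CxOX.extZeroD U.ι).obj P) := by
  refine PerfDualLib.isPerfect_of_local fun x => ?_
  by_cases hx : x ∈ U
  · obtain ⟨e⟩ := DCohRestrLib.nonempty_restrictD_extZeroD U P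
    exact ⟨U, hx, PerfLib.isPerfect_of_iso e.symm hP⟩
  · exact ⟨⟨Tᶜ, hT.isOpen_compl⟩, fun h => hx (hTU h), PerfLib.isPerfect_of_isZero
      ((DCohRestrLib.isZero_restrictD_iff _ _).2 fun i y hy hs =>
        hy (support_extZeroD_subset U P hPT i hs))⟩

/-- An approximation on `U` of an object supported in `U` in high degrees is one on `X`. -/
theorem exists_approx_of_open (U : X.Opens) (T : Set X) (hT : IsClosed T) (hTU : T ⊆ (U : Set X))
    (E : DCoh.D X) (m : ℤ) {P : DCoh.D (U : Scheme.{u})} (α : P ⟶ (DCoh.restrictD U.ι).obj E)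
    (hP : DCoh.IsPerfect P)
    (hPT : ∀ i : ℤ, CohB1.support (DCoh.HD P i) ⊆ {v : ↥(U : Scheme.{u}) | U.ι.base v ∈ T})
    (hiso : ∀ i : ℤ, m < i → IsIso ((DerivedCategory.homologyFunctor _ i).map α))
    (hepi : Epi ((DerivedCategory.homologyFunctor _ m).map α))
    (hsupp : ∀ i : ℤ, m ≤ i → CohB1.support (DCoh.HD E i) ⊆ T) :
    ∃ (R : DCoh.D X) (β : R ⟶ E), DCoh.IsPerfect R ∧ (∀ i : ℤ, CohB1.support (DCoh.HD R i) ⊆ T) ∧
      (∀ i : ℤ, m < i → IsIso ((DerivedCategory.homologyFunctor X.Modules i).map β)) ∧
      Epi ((DerivedCategory.homologyFunctor X.Modules m).map β) := by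
  haveI : PreservesFiniteLimits (CxOX.extZero U.ι) := PerfCompLib.preservesFiniteLimits_extZero U
  let adj := DCohRestrLib.adjD U
  haveI := DCohRestrLib.isIso_adjD_unit U P
  let β := (adj.homEquiv P E).symm α
  have hβ : (DCoh.restrictD U.ι).map β = inv (adj.unit.app P) ≫ α := by
    rw [eq_comm, IsIso.inv_comp_eq]
    exact ((adj.homEquiv P E).apply_symm_apply α).symm.trans (adj.homEquiv_unit P E β)
  have hR := support_extZeroD_subset U P hPT
  let e := fun i => DerLib.ExactHomology.homologyIso (Scheme.Modules.restrictFunctor U.ι) i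
  have hz : ∀ (K : DCoh.D X) (i : ℤ) (x : X), x ∉ T → CohB1.support (DCoh.HD K i) ⊆ T →
      IsZero ((DerSch.stalkFunctor X x).obj (DCoh.HD K i)) := fun K i x hx hK => by
    haveI : Subsingleton ((DerSch.stalkFunctor X x).obj (DCoh.HD K i)) := not_not.1 fun h => hx (hK h)
    exact ModuleCat.isZero_of_subsingleton _
  refine ⟨_, β, isPerfect_extZeroD U hT hTU P hP hPT, hR, fun i hi => ?_, ?_⟩
  · refine FiltSectLib.isIso_of_stalks _ fun x => ?_
    by_cases hx : x ∈ U
    · haveI := hiso i hi
      haveI : IsIso ((Scheme.Modules.restrictFunctor U.ι).map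
          ((DerivedCategory.homologyFunctor X.Modules i).map β)) := by
        refine (NatIso.isIso_map_iff (e i) β).1 ?_
        change IsIso ((DerivedCategory.homologyFunctor _ i).map ((DCoh.restrictD U.ι).map β))
        rw [hβ, Functor.map_comp]
        infer_instance
      exact DCohRestrLib.isIso_stalk_of_restrict U.ι _ ⟨x, hx⟩
    · exact isIso_of_isTerminal (hz _ i x (fun h => hx (hTU h)) (hR i)).isTerminal
        (hz E i x (fun h => hx (hTU h)) (hsupp i hi.le)).isTerminal _
  · refine PerfCompLib.epi_of_stalks _ fun x => ?_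
    by_cases hx : x ∈ U
    · have h1 := (e m).hom.naturality β
      simp only [Functor.comp_map] at h1
      haveI : Epi ((DerivedCategory.homologyFunctor _ m).map ((DCoh.restrictD U.ι).map β)) := by
        rw [hβ, Functor.map_comp]
        infer_instance
      haveI : Epi ((Scheme.Modules.restrictFunctor U.ι).map
          ((DerivedCategory.homologyFunctor X.Modules m).map β)) := by
        haveI : Epi ((e m).hom.app _ ≫ (Scheme.Modules.restrictFunctor U.ι).map
            ((DerivedCategory.homologyFunctor X.Modules m).map β)) := by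
          rw [← h1]
          infer_instance
        exact epi_of_epi ((e m).hom.app _) _
      let f := (DerivedCategory.homologyFunctor X.Modules m).map β
      let F := Scheme.Modules.toPresheaf (U : Scheme.{u}) ⋙
        TopCat.Presheaf.stalkFunctor Ab.{u} (⟨x, hx⟩ : (U : Scheme.{u}).toTopCat)
      let G := Scheme.Modules.toPresheaf X ⋙ TopCat.Presheaf.stalkFunctor Ab.{u} (x : X.toTopCat)
      let ν : Scheme.Modules.restrictFunctor U.ι ⋙ F ≅ G := Scheme.Modules.restrictStalkNatIso U.ι ⟨x, hx⟩
      haveI : Epi (F.map ((Scheme.Modules.restrictFunctor U.ι).map f)) := by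
        haveI : Epi ((DerSch.stalkFunctor (U : Scheme.{u}) ⟨x, hx⟩).map
            ((Scheme.Modules.restrictFunctor U.ι).map f)) := inferInstance
        rw [AddCommGrpCat.epi_iff_surjective]
        exact ((ModuleCat.epi_iff_surjective _).1 ‹_› :)
      haveI : Epi ((Scheme.Modules.restrictFunctor U.ι ⋙ F).map f) :=
        show Epi (F.map ((Scheme.Modules.restrictFunctor U.ι).map f)) from inferInstance
      haveI : Epi (ν.hom.app _ ≫ G.map f) := by
        rw [← ν.hom.naturality f]
        infer_instance
      haveI hG : Epi (G.map f) := epi_of_epi (ν.hom.app _) _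
      rw [ModuleCat.epi_iff_surjective]
      exact ((AddCommGrpCat.epi_iff_surjective _).1 hG :)
    · exact ⟨fun _ _ _ => (hz E m x (fun h => hx (hTU h)) (hsupp m le_rfl)).eq_of_src _ _⟩

end Groth.Agent.KoszOrthLib
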