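import Groth.Agent.KoszOrthLib.Shift
import Groth.Agent.KoszOrthLib.Open

/-!
# Extending `P ⊕ P[2k+1]` with a map across an affine open
-/

set_option autoImplicit false
set_option linter.style.haveILetI false
set_option backward.isDefEq.respectTransparency false
set_option backward.isDefEq.respectTransparency.types false
set_option maxHeartbeats 1000000

universe u v w

open CategoryTheory CategoryTheory.Limits AlgebraicGeometry CategoryTheory.Pretriangulated TopologicalSpace

attribute [local instance] HasDerivedCategory.standard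

namespace Groth.Agent.KoszOrthLib

variable {X : Scheme.{u}}

/-- The cone criterion for approximations. -/
theorem isoAboveEpiAtX_iff (T : Triangle (DCoh.D X)) (hT : T ∈ distTriang _) (m : ℤ) :
    ((∀ i, m < i → IsIso ((DerivedCategory.homologyFunctor X.Modules i).map T.mor₁)) ∧
        Epi ((DerivedCategory.homologyFunctor X.Modules m).map T.mor₁)) ↔
      ∀ i, m ≤ i → IsZero (DCoh.HD T.obj₃ i) := by
  constructor
  · rintro ⟨hi, hm⟩ i hmi
    have hepi : Epi ((DerivedCategory.homologyFunctor X.Modules i).map T.mor₁) := by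
      rcases hmi.eq_or_lt with rfl | h
      · exact hm
      · have := hi i h
        infer_instance
    have hmono : Mono ((DerivedCategory.homologyFunctor X.Modules (i + 1)).map T.mor₁) := by
      have := hi (i + 1) (by omega)
      infer_instance
    exact (DerivedCategory.HomologySequence.exact₃ T hT i (i + 1) rfl).isZero_X₂
      ((DerivedCategory.HomologySequence.epi_homologyMap_mor₁_iff T hT i).mp hepi)
      ((DerivedCategory.HomologySequence.mono_homologyMap_mor₁_iff T hT i (i + 1) rfl).mp hmono)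
  · intro h
    have hepi : ∀ i, m ≤ i → Epi ((DerivedCategory.homologyFunctor X.Modules i).map T.mor₁) :=
      fun i hi => (DerivedCategory.HomologySequence.epi_homologyMap_mor₁_iff T hT i).mpr
        ((h i hi).eq_of_tgt _ _)
    refine ⟨fun i hi => ?_, hepi m le_rfl⟩
    have := hepi i hi.le
    have : Mono ((DerivedCategory.homologyFunctor X.Modules i).map T.mor₁) :=
      (DerivedCategory.HomologySequence.mono_homologyMap_mor₁_iff T hT (i - 1) i (by omega)).mpr
        ((h (i - 1) (by omega)).eq_of_src _ _)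
    exact isIso_of_mono_of_epi _

/-- Cohomology of a cone is supported where that of the source and target are. -/
theorem support_obj₃_subset (T : Triangle (DCoh.D X)) (hT : T ∈ distTriang _) {S : Set X} (hS : IsClosed S)
    (h₁ : ∀ i : ℤ, CohB1.support (DCoh.HD T.obj₁ i) ⊆ S)
    (h₂ : ∀ i : ℤ, CohB1.support (DCoh.HD T.obj₂ i) ⊆ S) (i : ℤ) :
    CohB1.support (DCoh.HD T.obj₃ i) ⊆ S := by
  let V : X.Opens := ⟨Sᶜ, hS.isOpen_compl⟩
  intro x hx
  by_contra hxS
  have hz : ∀ K : DCoh.D X, (∀ i : ℤ, CohB1.support (DCoh.HD K i) ⊆ S) →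
      IsZero ((DCoh.restrictD V.ι).obj K) := fun K hK =>
    (DCohRestrLib.isZero_restrictD_iff V K).2 fun j y hy hy' => hy (hK j hy')
  exact (DCohRestrLib.isZero_restrictD_iff V _).1
    (((DCoh.restrictD V.ι).mapTriangle.obj T).isZero₃_iff ((DCoh.restrictD V.ι).map_distinguished T hT)
      |>.2 ⟨(hz _ h₂).eq_of_src _ _, ((shiftFunctor _ (1 : ℤ)).map_isZero (hz _ h₁)).eq_of_tgt _ _⟩) i x hxS hx

theorem isZero_restrictD_of_support (V : X.Opens) {K : DCoh.D X} {S : Set X}
    (hK : ∀ i : ℤ, CohB1.support (DCoh.HD K i) ⊆ S) (hSV : ∀ x ∈ V, x ∉ S) :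
    IsZero ((DCoh.restrictD V.ι).obj K) :=
  (DCohRestrLib.isZero_restrictD_iff V K).2 fun i x hx hx' => hSV x hx (hK i hx')

theorem isPerfect_biprod {K L : DCoh.D X} (hK : DCoh.IsPerfect K) (hL : DCoh.IsPerfect L) :
    DCoh.IsPerfect (K ⊞ L) :=
  PerfLib.isPerfect_obj₂ _ (binaryBiproductTriangle_distinguished K L) hK hL

theorem support_biprod_subset {K L : DCoh.D X} {S : Set X} (hS : IsClosed S)
    (hK : ∀ i : ℤ, CohB1.support (DCoh.HD K i) ⊆ S) (hL : ∀ i : ℤ, CohB1.support (DCoh.HD L i) ⊆ S) (i : ℤ) :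
    CohB1.support (DCoh.HD (K ⊞ L) i) ⊆ S := by
  intro x hx
  by_contra hxS
  let V : X.Opens := ⟨Sᶜ, hS.isOpen_compl⟩
  have hz : IsZero ((DCoh.restrictD V.ι).obj (K ⊞ L)) :=
    ((DCoh.restrictD V.ι).mapTriangle.obj (binaryBiproductTriangle K L)).isZero₂_iff
      ((DCoh.restrictD V.ι).map_distinguished _ (binaryBiproductTriangle_distinguished K L)) |>.2
      ⟨(isZero_restrictD_of_support V hK fun y hy => hy).eq_of_src _ _,
        (isZero_restrictD_of_support V hL fun y hy => hy).eq_of_tgt _ _⟩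
  exact (DCohRestrLib.isZero_restrictD_iff V _).1 hz i x hxS hx

theorem support_shift_subset {K : DCoh.D X} {S : Set X} (hK : ∀ i : ℤ, CohB1.support (DCoh.HD K i) ⊆ S)
    (n i : ℤ) : CohB1.support (DCoh.HD (K⟦n⟧) i) ⊆ S := fun x hx =>
  hK (n + i) fun h => hx ((DCohRestrLib.subsingleton_stalk_of_iso
    (((DerivedCategory.homologyFunctor X.Modules 0).shiftIso n i (n + i) rfl).app K) x).2 h)

theorem isCompact_preimage_ι (V : X.Opens) (S : Set X) (h : IsCompact ((V : Set X) ∩ S)) :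
    IsCompact ((fun v : (V : Scheme.{u}) => V.ι v) ⁻¹' S) := by
  rw [V.ι.isOpenEmbedding.isEmbedding.isCompact_iff]
  rwa [Set.image_preimage_eq_range_inter, Scheme.Opens.range_ι]

/-- A stalk of the cone vanishes when those of the neighbours do. -/
theorem subsingleton_stalk_obj₃ (T : Triangle (DCoh.D X)) (hT : T ∈ distTriang _) (i : ℤ) (x : X)
    (h₂ : Subsingleton ((DCoh.HD T.obj₂ i).presheaf.stalk x))
    (h₁ : Subsingleton ((DCoh.HD T.obj₁ (i + 1)).presheaf.stalk x)) :
    Subsingleton ((DCoh.HD T.obj₃ i).presheaf.stalk x) := by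
  let Φ := DerSch.stalkFunctor X x
  have hex := (DerivedCategory.HomologySequence.exact₃ T hT i (i + 1) rfl).map Φ
  have hz : IsZero (Φ.obj (DCoh.HD T.obj₃ i)) := by
    haveI : Subsingleton (Φ.obj (DCoh.HD T.obj₂ i)) := h₂
    haveI : Subsingleton (Φ.obj (DCoh.HD T.obj₁ (i + 1))) := h₁
    exact hex.isZero_of_both_zeros ((ModuleCat.isZero_of_subsingleton (Φ.obj (DCoh.HD T.obj₂ i))).eq_of_src _ _)
      ((ModuleCat.isZero_of_subsingleton (Φ.obj (DCoh.HD T.obj₁ (i + 1)))).eq_of_tgt _ _)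
  exact ModuleCat.subsingleton_of_isZero hz

/-- A stalk of `J ⊞ J[n]` vanishes when those of `J` do. -/
theorem subsingleton_stalk_biprod {J : DCoh.D X} {x : X}
    (h : ∀ j : ℤ, Subsingleton ((DCoh.HD J j).presheaf.stalk x)) (n i : ℤ) :
    Subsingleton ((DCoh.HD (J ⊞ J⟦n⟧) i).presheaf.stalk x) := by
  have hs : ∀ j : ℤ, Subsingleton ((DCoh.HD (J⟦n⟧) j).presheaf.stalk x) := fun j =>
    (DCohRestrLib.subsingleton_stalk_of_iso
      (((DerivedCategory.homologyFunctor X.Modules 0).shiftIso n j (n + j) rfl).app J) x).2 (h _)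
  let Φ := DerSch.stalkFunctor X x
  have hex := (DerivedCategory.HomologySequence.exact₂ _
    (binaryBiproductTriangle_distinguished J (J⟦n⟧)) i).map Φ
  have hz : IsZero (Φ.obj (DCoh.HD (J ⊞ J⟦n⟧) i)) := by
    haveI : Subsingleton (Φ.obj (DCoh.HD J i)) := h i
    haveI : Subsingleton (Φ.obj (DCoh.HD (J⟦n⟧) i)) := hs i
    exact hex.isZero_of_both_zeros ((ModuleCat.isZero_of_subsingleton (Φ.obj (DCoh.HD J i))).eq_of_src _ _)
      ((ModuleCat.isZero_of_subsingleton (Φ.obj (DCoh.HD (J⟦n⟧) i))).eq_of_tgt _ _)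
  exact ModuleCat.subsingleton_of_isZero hz

section Split

variable {D : Type*} [Category D] [Preadditive D] [HasZeroObject D] [HasShift D ℤ]
  [∀ n : ℤ, (shiftFunctor D n).Additive] [Pretriangulated D] [HasBinaryBiproducts D]
  {D' : Type*} [Category D'] [Preadditive D'] [HasZeroObject D'] [HasShift D' ℤ]
  [∀ n : ℤ, (shiftFunctor D' n).Additive] [Pretriangulated D']
  (R : D ⥤ D') [R.CommShift ℤ] [R.IsTriangulated]

/-- In a triangle `C ⟶ A ⊞ B ⟶ S`, the component `A ⟶ S` is invertible if `C ⟶ B` is. -/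
theorem isIso_inl_comp {C A B S : D} {φ : C ⟶ A} {ψ : C ⟶ B} {p : A ⊞ B ⟶ S} {δ : S ⟶ C⟦(1 : ℤ)⟧}
    (hT : Triangle.mk (biprod.lift φ ψ) p δ ∈ distTriang D) [IsIso (R.map ψ)] :
    IsIso (R.map (biprod.inl ≫ p)) := by
  let T := R.mapTriangle.obj (Triangle.mk (biprod.lift φ ψ) p δ)
  have hT' : T ∈ distTriang D' := R.map_distinguished _ hT
  let r : R.obj (A ⊞ B) ⟶ R.obj C := R.map biprod.snd ≫ inv (R.map ψ)
  have hr : R.map (biprod.lift φ ψ) ≫ r = 𝟙 _ := by
    rw [← Category.assoc, ← Functor.map_comp, biprod.lift_snd, IsIso.hom_inv_id]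
  haveI : Mono (R.map (biprod.lift φ ψ)) := mono_of_mono_fac hr
  haveI : Epi (R.map p) := T.epi₂ hT' (T.mor₃_eq_zero_of_mono₁ hT' ‹_›)
  obtain ⟨g, hg⟩ := Triangle.yoneda_exact₂ T hT' (R.map biprod.fst - r ≫ R.map φ) (by
    change R.map (biprod.lift φ ψ) ≫ _ = 0
    rw [Preadditive.comp_sub, reassoc_of% hr, ← Functor.map_comp, biprod.lift_fst, sub_self])
  change R.obj S ⟶ R.obj A at g
  change R.map biprod.fst - r ≫ R.map φ = R.map p ≫ g at hg
  refine ⟨g, ?_, ?_⟩
  · rw [Functor.map_comp, Category.assoc, ← hg, Preadditive.comp_sub, ← Category.assoc,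
      ← Functor.map_comp, biprod.inl_fst, ← Category.assoc, ← Functor.map_comp, biprod.inl_snd,
      CategoryTheory.Functor.map_id, Functor.map_zero, zero_comp, zero_comp, sub_zero]
  · rw [← cancel_epi (R.map p), Category.comp_id, ← Category.assoc, ← hg, Functor.map_comp]
    have h0 : R.map φ ≫ R.map biprod.inl ≫ R.map p = -(R.map ψ ≫ R.map biprod.inr ≫ R.map p) := by
      rw [eq_neg_iff_add_eq_zero, ← Functor.map_comp, ← Functor.map_comp, ← Functor.map_comp,
        ← Functor.map_comp, ← Functor.map_add]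
      have h : φ ≫ biprod.inl ≫ p + ψ ≫ biprod.inr ≫ p = biprod.lift φ ψ ≫ p := by
        rw [biprod.lift_eq, Preadditive.add_comp, Category.assoc, Category.assoc]
      rw [h, Functor.map_comp]
      exact comp_distTriang_mor_zero₁₂ _ hT'
    rw [Preadditive.sub_comp, Category.assoc, Category.assoc, h0, Preadditive.comp_neg,
      IsIso.inv_hom_id_assoc, Preadditive.comp_neg, sub_neg_eq_add, ← Functor.map_comp, ← Functor.map_comp,
      ← Functor.map_comp, ← Functor.map_comp, ← Functor.map_add, ← Category.assoc, ← Category.assoc,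
      ← Preadditive.add_comp, biprod.total, Category.id_comp]

/-- In a triangle `C ⟶ A ⊞ B ⟶ S`, the component `B ⟶ S` is invertible if `C ⟶ A` is. -/
theorem isIso_inr_comp {C A B S : D} {φ : C ⟶ A} {ψ : C ⟶ B} {p : A ⊞ B ⟶ S} {δ : S ⟶ C⟦(1 : ℤ)⟧}
    (hT : Triangle.mk (biprod.lift φ ψ) p δ ∈ distTriang D) [IsIso (R.map φ)] :
    IsIso (R.map (biprod.inr ≫ p)) := by
  have hl : biprod.lift ψ φ ≫ (biprod.braiding B A).hom = biprod.lift φ ψ := by
    rw [biprod.braiding_hom]
    apply biprod.hom_ext <;> simp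
  have hT' : Triangle.mk (biprod.lift ψ φ) ((biprod.braiding B A).hom ≫ p) δ ∈ distTriang D :=
    isomorphic_distinguished _ hT _ (Triangle.isoMk _ _ (Iso.refl _) (biprod.braiding B A) (Iso.refl _)
      (hl.trans (Category.id_comp _).symm) (Category.comp_id _)
      ((by simp : δ ≫ (Iso.refl C).hom⟦(1 : ℤ)⟧' = (Iso.refl S).hom ≫ δ)))
  have h := isIso_inl_comp R hT'
  have he : (biprod.inl : B ⟶ B ⊞ A) ≫ (biprod.braiding B A).hom ≫ p = biprod.inr ≫ p := by
    rw [← Category.assoc]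
    congr 1
    rw [biprod.braiding_hom]
    apply biprod.hom_ext <;> simp
  rwa [he] at h

end Split

/-- `P ⊕ P[2k+1]` with `(α, 0)` extends across an affine open. -/
theorem exists_extend_map (U V : X.Opens) (hV : IsAffineOpen V)
    (hUV : IsCompact ((U ⊓ V : X.Opens) : Set X)) (hcov : U ⊔ V = ⊤)
    {T : Set X} (hT : IsClosed T) (hTV : IsCompact ((V : Set X) ∩ Tᶜ))
    {P : DCoh.D (U : Scheme.{u})} (hP : DCoh.IsPerfect P)
    (hPT : ∀ i : ℤ, CohB1.support (DCoh.HD P i) ⊆ {v : ↥(U : Scheme.{u}) | U.ι.base v ∈ T})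
    (E : DCoh.D X) (hE : DCoh.IsQCohD E) (α : P ⟶ (DCoh.restrictD U.ι).obj E) (k : ℕ) :
    ∃ (R : DCoh.D X) (β : R ⟶ E)
      (e : (DCoh.restrictD U.ι).obj R ≅ P ⊞ P⟦(2 * k + 1 : ℤ)⟧),
      DCoh.IsPerfect R ∧ (∀ i : ℤ, CohB1.support (DCoh.HD R i) ⊆ T) ∧
      (DCoh.restrictD U.ι).map β = e.hom ≫ biprod.fst ≫ α := by
  haveI : IsAffine (V : Scheme.{u}) := hV
  let n : ℤ := 2 * k + 1
  let jU := CxOX.extZeroD U.ι
  let jV := CxOX.extZeroD V.ι
  let adjU := DCohRestrLib.adjD U
  let adjV := DCohRestrLib.adjD V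
  let W : (V : Scheme.{u}).Opens := V.ι ⁻¹ᵁ U
  have hW : IsCompact (W : Set (V : Scheme.{u})) :=
    isCompact_preimage_ι V U (by rwa [Set.inter_comm])
  let adjW := DCohRestrLib.adjD W
  let resV := DCoh.restrictD V.ι
  let resW := DCoh.restrictD W.ι
  let resU := DCoh.restrictD U.ι
  haveI := DCohRestrLib.isIso_adjD_unit U P
  let J := jU.obj P
  have hJT : ∀ i : ℤ, CohB1.support (DCoh.HD J i) ⊆ T := support_extZeroD_subset U P hPT
  have hJU : ∀ i : ℤ, CohB1.support (DCoh.HD J i) ⊆ (U : Set X) := fun i =>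
    (DCohRestrLib.support_HD_extZeroD U P i).trans (by rintro _ ⟨w, -, rfl⟩; exact w.2)
  let αh : J ⟶ E := (adjU.homEquiv P E).symm α
  have hαh : resU.map αh = inv (adjU.unit.app P) ≫ α := by
    rw [eq_comm, IsIso.inv_comp_eq]
    exact ((adjU.homEquiv P E).apply_symm_apply α).symm.trans (adjU.homEquiv_unit P E αh)
  let A := J ⊞ J⟦n⟧
  have hAT : ∀ i : ℤ, CohB1.support (DCoh.HD A i) ⊆ T :=
    support_biprod_subset hT hJT (support_shift_subset hJT n)
  let αA : A ⟶ E := biprod.fst ≫ αh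
  let F := resW.obj (resV.obj J)
  have hF : DCoh.IsPerfect F := by
    refine PerfDualLib.isPerfect_of_local fun w => ?_
    rcases em (V.ι (W.ι w) ∈ T) with h | h
    · refine ⟨⊤, trivial, ?_⟩
      have hJU' : DCoh.IsPerfect ((DCoh.restrictD U.ι).obj J) :=
        PerfLib.isPerfect_of_iso (@asIso _ _ _ _ (adjU.unit.app P) _) hP
      let l : (W : Scheme.{u}) ⟶ (U : Scheme.{u}) := IsOpenImmersion.lift U.ι (W.ι ≫ V.ι) (by
        rintro _ ⟨z, rfl⟩
        rw [Scheme.Opens.range_ι]
        exact z.2)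
      haveI : IsOpenImmersion l :=
        haveI : IsOpenImmersion (l ≫ U.ι) := by rw [IsOpenImmersion.lift_fac]; infer_instance
        IsOpenImmersion.of_comp l U.ι
      obtain ⟨c₁⟩ := PerfLib.nonempty_resD_comp l U.ι J
      obtain ⟨c₂⟩ := PerfLib.nonempty_resD_comp W.ι V.ι J
      obtain ⟨c₃⟩ := PerfLib.nonempty_resD_congr (IsOpenImmersion.lift_fac U.ι (W.ι ≫ V.ι) (by
        rintro _ ⟨z, rfl⟩
        rw [Scheme.Opens.range_ι]
        exact z.2)) J
      exact isPerfect_restrictD _ (PerfLib.isPerfect_of_iso (c₁.symm ≪≫ c₃ ≪≫ c₂)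
        (isPerfect_restrictD l hJU'))
    · let O : (W : Scheme.{u}).Opens := W.ι ⁻¹ᵁ (V.ι ⁻¹ᵁ ⟨Tᶜ, hT.isOpen_compl⟩)
      refine ⟨O, h, PerfLib.isPerfect_of_isZero
        ((DCohRestrLib.isZero_restrictD_iff O F).2 fun i z hz hs => hz (hJT i ?_))⟩
      rw [DCohRestrLib.support_HD_restrictD, Set.mem_preimage, DCohRestrLib.support_HD_restrictD] at hs
      exact hs
  have hTV' : IsCompact ((fun v : (V : Scheme.{u}) => V.ι v) ⁻¹' T)ᶜ := isCompact_preimage_ι V Tᶜ hTV
  have hTc : IsClosed ((fun v : (V : Scheme.{u}) => V.ι v) ⁻¹' T) := hT.preimage V.ι.continuous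
  obtain ⟨fsT, hfsT⟩ := exists_list_zeroLocus hTc hTV'
  have hFT : ∀ i : ℤ, CohB1.support (DCoh.HD F i) ⊆
      {x : ↥(W : Scheme.{u}) | W.ι.base x ∈ (fun v : (V : Scheme.{u}) => V.ι v) ⁻¹' T} := fun i x hx => by
    rw [DCohRestrLib.support_HD_restrictD, Set.mem_preimage, DCohRestrLib.support_HD_restrictD] at hx
    exact hJT i hx
  obtain ⟨G, hG, ⟨eG⟩⟩ := exists_extend_sum_shift W hW hTc hfsT F hF hFT k
  haveI : PreservesBinaryBiproducts (resV ⋙ resW) :=
    haveI : PreservesFiniteBiproducts (resV ⋙ resW) := Functor.preservesFiniteBiproductsOfAdditive _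
    preservesBinaryBiproducts_of_preservesBiproducts _
  let e' : resW.obj ((tX (V : Scheme.{u})).obj G) ≅ resW.obj (resV.obj A) :=
    eG ≪≫ biprod.mapIso (Iso.refl F) (((resV ⋙ resW).commShiftIso n).app J).symm ≪≫
      ((resV ⋙ resW).mapBiprod J (J⟦n⟧)).symm
  obtain ⟨G₁, q, γ, hG₁, hq, hqγ⟩ := exists_lift_open W hW fsT hG (isQCohD_restrictD V.ι hE)
    (e'.hom ≫ resW.map (resV.map αA))
  let B := jV.obj ((tX (V : Scheme.{u})).obj G₁)
  have hG₁T : ∀ i : ℤ, CohB1.support (DCoh.HD ((tX (V : Scheme.{u})).obj G₁) i) ⊆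
      {v : ↥(V : Scheme.{u}) | V.ι.base v ∈ T} := fun i x hx => by
    have h1 := (torsAll_iff_support fsT G₁).1 hG₁.2 i hx
    rw [← hfsT] at h1
    exact h1
  have hBT : ∀ i : ℤ, CohB1.support (DCoh.HD B i) ⊆ T := support_extZeroD_subset V _ hG₁T
  let γh : B ⟶ E := (adjV.homEquiv _ E).symm γ
  let CW := resW.obj ((tX (V : Scheme.{u})).obj G₁)
  let CV := (CxOX.extZeroD W.ι).obj CW
  haveI := hq
  let φW : CW ⟶ resW.obj (resV.obj A) := resW.map ((tX (V : Scheme.{u})).map q) ≫ e'.hom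
  let φV : CV ⟶ resV.obj A := (adjW.homEquiv _ _).symm φW
  let ψV : CV ⟶ (tX (V : Scheme.{u})).obj G₁ := (adjW.homEquiv _ _).symm (𝟙 CW)
  let C := jV.obj CV
  let φ : C ⟶ A := (adjV.homEquiv _ _).symm φV
  let ψ : C ⟶ B := jV.map ψV
  have hcomp : φ ≫ αA = ψ ≫ γh := by
    apply (adjV.homEquiv CV E).injective
    rw [adjV.homEquiv_naturality_right, Equiv.apply_symm_apply, adjV.homEquiv_naturality_left,
      Equiv.apply_symm_apply]
    apply (adjW.homEquiv CW _).injective
    rw [adjW.homEquiv_naturality_right, Equiv.apply_symm_apply, adjW.homEquiv_naturality_right,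
      Equiv.apply_symm_apply, Category.id_comp]
    exact (Category.assoc _ _ _).trans hqγ
  obtain ⟨R, p, δ, hR⟩ := distinguished_cocone_triangle (biprod.lift φ ψ)
  obtain ⟨β, hβ⟩ := Triangle.yoneda_exact₂ _ hR (biprod.desc αA (-γh)) (by
    change biprod.lift φ ψ ≫ biprod.desc αA (-γh) = 0
    rw [biprod.lift_desc, Preadditive.comp_neg, hcomp, add_neg_cancel])
  change R ⟶ E at β
  change biprod.desc αA (-γh) = p ≫ β at hβ
  have hCVW : ∀ i : ℤ, CohB1.support (DCoh.HD CV i) ⊆ (W : Set (V : Scheme.{u})) := fun i =>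
    (DCohRestrLib.support_HD_extZeroD W CW i).trans (by rintro _ ⟨w, -, rfl⟩; exact w.2)
  have hunitW : ∀ {K : DCoh.D (V : Scheme.{u})} (f : CW ⟶ resW.obj K), IsIso f →
      IsIso (resW.map ((adjW.homEquiv CW K).symm f)) := fun {K} f hf => by
    haveI := DCohRestrLib.isIso_adjD_unit W CW
    haveI : IsIso (adjW.unit.app CW ≫ resW.map ((adjW.homEquiv CW K).symm f)) := by
      rw [show adjW.unit.app CW ≫ resW.map ((adjW.homEquiv CW K).symm f) = f from
        (adjW.homEquiv_unit CW K _).symm.trans (Equiv.apply_symm_apply _ f)]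
      exact hf
    exact IsIso.of_isIso_comp_left (adjW.unit.app CW) _
  have hCT : ∀ i : ℤ, CohB1.support (DCoh.HD C i) ⊆ T := by
    refine support_extZeroD_subset V CV fun i => support_extZeroD_subset W CW (fun j x hx => ?_) i
    rw [DCohRestrLib.support_HD_restrictD] at hx
    exact hG₁T j hx
  -- `ψ` is invertible over `U`, `φ` over `V`
  have hψU : IsIso (resU.map ψ) := by
    obtain ⟨D, a, b, hD⟩ := distinguished_cocone_triangle ψV
    have hz : IsZero (resW.obj D) := ((resW.mapTriangle.obj (Triangle.mk ψV a b)).isZero₃_iff_isIso₁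
      (resW.map_distinguished _ hD)).2 (hunitW _ inferInstance)
    refine ((resU.mapTriangle.obj (jV.mapTriangle.obj (Triangle.mk ψV a b))).isZero₃_iff_isIso₁
      (resU.map_distinguished _ (jV.map_distinguished _ hD))).1 ?_
    refine (DCohRestrLib.isZero_restrictD_iff U _).2 fun i x hxU hx => ?_
    obtain ⟨v, hv, rfl⟩ := DCohRestrLib.support_HD_extZeroD V D i hx
    exact (DCohRestrLib.isZero_restrictD_iff W D).1 hz i v hxU hv
  have hφV : IsIso (resV.map φ) := by
    haveI := DCohRestrLib.isIso_adjD_unit V CV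
    have h1 : IsIso φV := by
      obtain ⟨D, a, b, hD⟩ := distinguished_cocone_triangle φV
      have hz : IsZero (resW.obj D) := ((resW.mapTriangle.obj (Triangle.mk φV a b)).isZero₃_iff_isIso₁
        (resW.map_distinguished _ hD)).2 (hunitW φW inferInstance)
      refine ((Triangle.mk φV a b).isZero₃_iff_isIso₁ hD).1 ((DCohRestrLib.isZero_iff_HD D).2 fun i => ?_)
      rw [DCohRestrLib.isZero_iff_support_empty, Set.eq_empty_iff_forall_notMem]
      intro v hv
      by_cases hvW : v ∈ W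
      · exact (DCohRestrLib.isZero_restrictD_iff W D).1 hz i v hvW hv
      · have hAU : ∀ j : ℤ, CohB1.support (DCoh.HD A j) ⊆ (U : Set X) := fun j x hx => by
          by_contra hxU
          have hz1 : ∀ j, Subsingleton ((DCoh.HD J j).presheaf.stalk x) := fun j =>
            not_not.1 fun h => hxU (hJU j h)
          exact hx (subsingleton_stalk_biprod hz1 n j)
        have hsrc : Subsingleton ((DCoh.HD CV i).presheaf.stalk v) := not_not.1 fun h => hvW (hCVW i h)
        have hsrc' : Subsingleton ((DCoh.HD CV (i + 1)).presheaf.stalk v) :=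
          not_not.1 fun h => hvW (hCVW (i + 1) h)
        have htgt : Subsingleton ((DCoh.HD (resV.obj A) i).presheaf.stalk v) := not_not.1 fun h => by
          have h' : v ∈ CohB1.support (DCoh.HD (resV.obj A) i) := h
          rw [DCohRestrLib.support_HD_restrictD] at h'
          exact hvW (hAU i h')
        exact hv (subsingleton_stalk_obj₃ _ hD i v htgt hsrc')
    haveI : IsIso (adjV.unit.app CV ≫ resV.map φ) := by
      rw [show adjV.unit.app CV ≫ resV.map φ = φV from
        (adjV.homEquiv_unit CV A _).symm.trans (Equiv.apply_symm_apply _ φV)]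
      exact h1
    exact IsIso.of_isIso_comp_left (adjV.unit.app CV) _
  haveI : PreservesBinaryBiproducts resU :=
    haveI : PreservesFiniteBiproducts resU := Functor.preservesFiniteBiproductsOfAdditive _
    preservesBinaryBiproducts_of_preservesBiproducts _
  haveI : PreservesBinaryBiproducts resV :=
    haveI : PreservesFiniteBiproducts resV := Functor.preservesFiniteBiproductsOfAdditive _
    preservesBinaryBiproducts_of_preservesBiproducts _
  have hU₁ : IsIso (resU.map (biprod.inl ≫ p)) := by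
    haveI := hψU
    exact isIso_inl_comp resU hR
  have hV₁ : IsIso (resV.map (biprod.inr ≫ p)) := by
    haveI := hφV
    exact isIso_inr_comp resV hR
  haveI := hU₁
  let eJ : resU.obj J ≅ P := (asIso (adjU.unit.app P)).symm
  let e : resU.obj R ≅ P ⊞ P⟦n⟧ := (asIso (resU.map (biprod.inl ≫ p))).symm ≪≫ resU.mapBiprod J (J⟦n⟧) ≪≫
    biprod.mapIso eJ ((resU.commShiftIso n).app J ≪≫ (shiftFunctor _ n).mapIso eJ)
  refine ⟨R, β, e, ?_, support_obj₃_subset _ hR hT hCT
    (support_biprod_subset hT hAT hBT), ?_⟩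
  · refine PerfDualLib.isPerfect_of_local fun x => ?_
    by_cases hx : x ∈ U
    · exact ⟨U, hx, PerfLib.isPerfect_of_iso e.symm (isPerfect_biprod hP (PerfLib.isPerfect_shift hP n))⟩
    · have hxV : x ∈ V := by
        have : x ∈ U ⊔ V := by rw [hcov]; trivial
        exact this.resolve_left hx
      haveI := hV₁
      obtain ⟨c⟩ := DCohRestrLib.nonempty_restrictD_extZeroD V ((tX (V : Scheme.{u})).obj G₁)
      exact ⟨V, hxV, PerfLib.isPerfect_of_iso (c.symm ≪≫ asIso (resV.map (biprod.inr ≫ p)))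
        (isPerfect_tX hG₁.1)⟩
  · have h1 : resU.map (biprod.inl ≫ p) ≫ resU.map β = resU.map αA := by
      rw [← Functor.map_comp, Category.assoc, ← hβ, biprod.inl_desc]
    change resU.map β = e.hom ≫ biprod.fst ≫ α
    simp only [e, Iso.trans_hom, Iso.symm_hom, asIso_inv, Category.assoc]
    rw [eq_comm, IsIso.inv_comp_eq, h1]
    simp only [αA, Functor.map_comp, hαh, eJ]
    simp

end Groth.Agent.KoszOrthLib
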