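import Groth.Agent.KoszOrthLib.Twisted
import Groth.Agent.KoszOrthLib.Section
import Groth.Agent.KoszOrthLib.Glue
import Groth.Agent.DualCxLib.Chart2
import Groth.Agent.QRlimLib.Unbounded
import Groth.Agent.PerfBaseLib.FlatProper

/-!
# An invertible module detects objects on the affine loci of its sections
-/

set_option autoImplicit false
set_option linter.style.haveILetI false
set_option backward.isDefEq.respectTransparency false
set_option backward.isDefEq.respectTransparency.types false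
set_option maxHeartbeats 1000000

universe u

open CategoryTheory CategoryTheory.Limits AlgebraicGeometry TopologicalSpace CategoryTheory.Pretriangulated

attribute [local instance] HasDerivedCategory.standard

namespace Groth.Agent.KoszOrthLib

/-- The free module of rank one corresponds to the structure sheaf. -/
theorem nonempty_tX_kA_nil (X : Scheme.{u}) [IsAffine X] :
    Nonempty ((tX X).obj (kA ([] : List (AX X))) ≅ DCoh.inD X (Coh.structureModule X)) := by
  obtain ⟨e⟩ := nonempty_tildeD_single_self (CommRingCat.of (AX X))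
  exact ⟨(DCoh.restrictD X.isoSpec.hom).mapIso e ≪≫ DualCxLib.restrictInDUnit X.isoSpec.hom⟩

/-- On an affine scheme the structure sheaf generates. -/
theorem isZero_of_forall_hom_affine {X : Scheme.{u}} [IsAffine X] (E : DCoh.D X) (hE : DCoh.IsQCohD E)
    (h : ∀ (n : ℤ) (φ : DCoh.inD X (Coh.structureModule X) ⟶ E⟦n⟧), φ = 0) : IsZero E := by
  obtain ⟨M, ⟨e⟩⟩ := exists_tX_iso hE
  obtain ⟨c⟩ := nonempty_tX_kA_nil X
  refine IsZero.of_iso ((DCohRestrLib.isZero_iff_HD _).2 fun i => ?_) e.symm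
  have horth : Orth ([] : List (AX X)) M i := fun φ => by
    refine (tX X).map_injective ?_
    let e' : ((tX X).obj (M⟦i⟧)) ≅ E⟦i⟧ := ((tX X).commShiftIso i).app M ≪≫ (shiftFunctor _ i).mapIso e
    rw [(tX X).map_zero, ← cancel_mono e'.hom, ← cancel_epi c.inv, zero_comp, comp_zero]
    exact h i _
  exact (((tilde.functor (CommRingCat.of (AX X))).map_isZero ((orth_nil_iff M i).1 horth)) |> fun hz =>
    ((Scheme.Modules.restrictFunctor X.isoSpec.hom).map_isZero hz).of_iso (tXHIso i M))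

variable {X : Scheme.{u}} (L : X.Modules) [PreservesFiniteLimits (DCoh.tensorRightMod L)]
  [PreservesFiniteColimits (DCoh.tensorRightMod L)] (σ : Γ(L, ⊤))

theorem isPerfect_inD_unit (X : Scheme.{u}) : DCoh.IsPerfect (DCoh.inD X (Coh.structureModule X)) :=
  PerfLib.isPerfect_of_iso ((DerivedCategory.singleFunctorIsoCompQ X.Modules 0).app (Coh.structureModule X)).symm
    (PerfBaseLib.isPerfect_unitCx X)

theorem exists_iterT_triangle {A B C : DCoh.D X} (f : A ⟶ B) (g : B ⟶ C) (h : C ⟶ A⟦(1 : ℤ)⟧)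
    (hT : Triangle.mk f g h ∈ distTriang _) :
    ∀ k, ∃ h' : (iterT L k).obj C ⟶ ((iterT L k).obj A)⟦(1 : ℤ)⟧,
      Triangle.mk ((iterT L k).map f) ((iterT L k).map g) h' ∈ distTriang _
  | 0 => ⟨h, hT⟩
  | k + 1 => by
    obtain ⟨h', hk⟩ := exists_iterT_triangle f g h hT k
    exact ⟨_, (TD L).map_distinguished _ hk⟩

theorem isIso_restrictD_sD (hL : PicF.IsInvertible L) (U : X.Opens)
    (hU : ∀ y ∈ U, AmpleLib.GenAt L σ (show y ∈ (⊤ : X.Opens) from trivial)) (K : DCoh.D X) :
    IsIso ((DCoh.restrictD U.ι).map ((sD L σ).app K)) := by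
  rw [DerivedCategory.isIso_iff]
  intro i
  refine (NatIso.isIso_map_iff
    (DerLib.ExactHomology.homologyIso (Scheme.Modules.restrictFunctor U.ι) i) _).2 ?_
  exact PerfCompLib.isIso_restrict_of_stalks U.ι _ fun v => isIso_stalk_HD_sD hL (hU _ v.2) K i

theorem isIso_restrictD_iterS (hL : PicF.IsInvertible L) (U : X.Opens)
    (hU : ∀ y ∈ U, AmpleLib.GenAt L σ (show y ∈ (⊤ : X.Opens) from trivial)) (K : DCoh.D X) :
    ∀ k, IsIso ((DCoh.restrictD U.ι).map ((iterS L σ k).app K))
  | 0 => by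
    change IsIso ((DCoh.restrictD U.ι).map (𝟙 K))
    infer_instance
  | k + 1 => by
    haveI := isIso_restrictD_iterS hL U hU K k
    haveI := isIso_restrictD_sD L σ hL U hU ((iterT L k).obj K)
    change IsIso ((DCoh.restrictD U.ι).map ((iterS L σ k).app K ≫ (sD L σ).app ((iterT L k).obj K)))
    rw [Functor.map_comp]
    infer_instance

/-- If no twist of `K` receives a map from the structure sheaf, neither does `K` on the locus of `σ`. -/
theorem hom_restrictD_eq_zero [CompactSpace X] [QuasiSeparatedSpace X] (hL : PicF.IsInvertible L) (U : X.Opens)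
    (hU : ∀ y, y ∈ U ↔ AmpleLib.GenAt L σ (show y ∈ (⊤ : X.Opens) from trivial))
    (hUc : IsCompact (U : Set X)) (K : DCoh.D X) (hK : DCoh.IsQCohD K)
    (h : ∀ (k : ℕ) (φ : DCoh.inD X (Coh.structureModule X) ⟶ (iterT L k).obj K), φ = 0)
    (φ : DCoh.inD (U : Scheme.{u}) (Coh.structureModule (U : Scheme.{u})) ⟶ (DCoh.restrictD U.ι).obj K) :
    φ = 0 := by
  haveI : CompactSpace (U : Scheme.{u}) := isCompact_iff_compactSpace.mp hUc
  haveI : QuasiCompact U.ι := quasiCompact_of_compactSpace _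
  haveI := DCohRestrLib.hasRpush U.ι
  let adj := restrictRpushAdj U.ι
  haveI : (DCoh.Rpush U.ι).Additive := adj.right_adjoint_additive
  let O := DCoh.inD X (Coh.structureModule X)
  let eO : (DCoh.restrictD U.ι).obj O ≅ DCoh.inD (U : Scheme.{u}) (Coh.structureModule (U : Scheme.{u})) :=
    DualCxLib.restrictInDUnit U.ι
  let R := (DCoh.Rpush U.ι).obj ((DCoh.restrictD U.ι).obj K)
  let ψ : O ⟶ R := adj.homEquiv _ _ (eO.hom ≫ φ)
  suffices hψ : ψ = 0 by
    have : eO.hom ≫ φ = 0 := by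
      refine (adj.homEquiv _ _).injective ?_
      rw [show adj.homEquiv _ _ (eO.hom ≫ φ) = 0 from hψ, adj.homEquiv_unit, CategoryTheory.Functor.map_zero,
        comp_zero]
    exact zero_of_epi_comp eO.hom this
  obtain ⟨Λ, ι, d, hT⟩ := distinguished_cocone_triangle₁ (adj.unit.app K)
  have hΛU : IsZero ((DCoh.restrictD U.ι).obj Λ) := by
    haveI := isIso_restrictD_unit U.ι adj K
    exact (((DCoh.restrictD U.ι).mapTriangle.obj (Triangle.mk ι (adj.unit.app K) d)).isZero₁_iff_isIso₂
      ((DCoh.restrictD U.ι).map_distinguished _ hT)).2 ‹_›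
  have hΛq : DCoh.IsQCohD Λ := KFlatLib.isQCohD₂ (inv_rot_of_distTriang _ hT)
    (KFlatLib.isQCohD_shift (QRlimLib.isQCohD_rpush U.ι (isQCohD_restrictD U.ι hK)) (-1)) hK
  let S : Set X := (U : Set X)ᶜ
  have hΛS : ∀ i : ℤ, CohB1.support (DCoh.HD Λ i) ⊆ S := fun i y hy hyU =>
    (DCohRestrLib.isZero_restrictD_iff U Λ).1 hΛU i y hyU hy
  obtain ⟨N, hN⟩ := exists_iterS_kill L σ hL (isPerfect_inD_unit X)
    (KFlatLib.isQCohD_shift hΛq 1)
    (fun i y hy hg => support_shift_subset hΛS 1 i hy ((hU y).2 hg)) (ψ ≫ d)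
  have hnat : d ≫ (iterS L σ N).app (Λ⟦(1 : ℤ)⟧) = (iterS L σ N).app R ≫ (iterT L N).map d :=
    (iterS L σ N).naturality d
  rw [Category.assoc, hnat, ← Category.assoc] at hN
  obtain ⟨h', hT'⟩ := exists_iterT_triangle L _ _ _ (rot_of_distTriang _ hT) N
  obtain ⟨w, hw⟩ := Triangle.coyoneda_exact₂ _ hT' (ψ ≫ (iterS L σ N).app R) hN
  change O ⟶ (iterT L N).obj K at w
  change ψ ≫ (iterS L σ N).app R = w ≫ (iterT L N).map (adj.unit.app K) at hw
  rw [h N w, zero_comp] at hw
  haveI := isIso_restrictD_iterS L σ hL U (fun y hy => (hU y).1 hy) R N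
  have h0 : (DCoh.restrictD U.ι).map ψ = 0 := by
    rw [← cancel_mono ((DCoh.restrictD U.ι).map ((iterS L σ N).app R)), ← Functor.map_comp, hw,
      CategoryTheory.Functor.map_zero, zero_comp]
  refine (adj.homEquiv _ _).symm.injective ?_
  rw [adj.homEquiv_counit, adj.homEquiv_counit, h0, CategoryTheory.Functor.map_zero, zero_comp]

variable (X) in
/-- No nonzero maps from the structure sheaf to the twists of shifts of `K`. -/
def NoTwistHom (K : DCoh.D X) : Prop :=
  ∀ (n : ℤ) (k : ℕ) (φ : DCoh.inD X (Coh.structureModule X) ⟶ (iterT L k).obj (K⟦n⟧)), φ = 0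

/-- If no twist of a shift of `K` receives a map from the structure sheaf, `K` vanishes on the affine
locus of `σ`. -/
theorem notMem_support_of_noTwistHom [CompactSpace X] [QuasiSeparatedSpace X] (hL : PicF.IsInvertible L)
    (U : X.Opens) (hU : ∀ y, y ∈ U ↔ AmpleLib.GenAt L σ (show y ∈ (⊤ : X.Opens) from trivial))
    (hUa : IsAffineOpen U) (K : DCoh.D X) (hK : DCoh.IsQCohD K) (h : NoTwistHom X L K)
    (i : ℤ) (x : X) (hx : x ∈ U) : x ∉ CohB1.support (DCoh.HD K i) := by
  haveI : IsAffine (U : Scheme.{u}) := hUa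
  refine (DCohRestrLib.isZero_restrictD_iff U K).1 ?_ i x hx
  refine isZero_of_forall_hom_affine _ (isQCohD_restrictD U.ι hK) fun n φ => ?_
  let c := ((DCoh.restrictD U.ι).commShiftIso n).app K
  exact zero_of_comp_mono c.inv
    (hom_restrictD_eq_zero L σ hL U hU hUa.isCompact (K⟦n⟧) (KFlatLib.isQCohD_shift hK n) (h n) (φ ≫ c.inv))

end Groth.Agent.KoszOrthLib
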