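import Groth.Agent.KoszOrthLib.Extend
import Groth.Agent.DRingLib.PCohMore

/-!
# Approximation by perfect complexes on an affine scheme
-/

set_option autoImplicit false
set_option linter.style.haveILetI false
set_option backward.isDefEq.respectTransparency false
set_option backward.isDefEq.respectTransparency.types false
set_option maxHeartbeats 1000000

universe u

open CategoryTheory CategoryTheory.Limits AlgebraicGeometry CategoryTheory.Pretriangulated

attribute [local instance] HasDerivedCategory.standard

namespace Groth.Agent.KoszOrthLib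

variable {A : Type u} [CommRing A]

/-- Approximation by torsion perfect complexes. -/
theorem exists_approx_module (l : List A) {M : DerivedCategory (ModuleCat.{u} A)} {m : ℤ}
    (hpc : DRing.IsPseudoCoherent A m M)
    (hw : ∀ f ∈ l, ∀ i, m - (l.length : ℤ) + 1 ≤ i →
      ∀ y : (DerivedCategory.homologyFunctor (ModuleCat.{u} A) i).obj M, ∃ k : ℕ, f ^ k • y = 0) :
    ∃ (P : DerivedCategory (ModuleCat.{u} A)) (α : P ⟶ M), PTors l P ∧
      (∀ i, m < i → IsIso ((DerivedCategory.homologyFunctor (ModuleCat.{u} A) i).map α)) ∧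
      Epi ((DerivedCategory.homologyFunctor (ModuleCat.{u} A) m).map α) := by
  classical
  obtain ⟨E, a, b, α₀, hv, -, hiso, -⟩ := id hpc
  have hbd : ∀ i, max b m < i → IsZero ((DerivedCategory.homologyFunctor (ModuleCat.{u} A) i).obj M) := fun i hi => by
    haveI := hiso i (by omega)
    exact (DRingLib.isZero_Hn_Q E i (hv i (Or.inr (by omega)))).of_iso
      (asIso ((DerivedCategory.homologyFunctor (ModuleCat.{u} A) i).map α₀)).symm
  have key : ∀ k : ℕ, ∃ C, Good l M C ∧ ∀ i : ℤ, max (max b m - k) (m - 1) < i →
      IsZero ((DerivedCategory.homologyFunctor (ModuleCat.{u} A) i).obj C) := by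
    intro k
    induction k with
    | zero => exact ⟨M, Good.self l M, fun i hi => hbd i (by omega)⟩
    | succ k ih =>
      obtain ⟨C, hC, hz⟩ := ih
      by_cases hn : max b m - (k : ℤ) < m
      · exact ⟨C, hC, fun i hi => hz i (by omega)⟩
      obtain ⟨n, hn'⟩ : ∃ n, n = max b m - (k : ℤ) := ⟨_, rfl⟩
      have hCpc : DRing.IsPseudoCoherent A m C := by
        obtain ⟨G, φ, π, δ, hG, hT⟩ := hC
        exact DRingLib.isPseudoCoherent_obj₃ _ hT m (DRingLib.isPseudoCoherent_of_isPerfect hG.1 _) hpc
      haveI := DRingLib.finite_of_isPseudoCoherent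
        (DRingLib.isPseudoCoherent_mono (show m ≤ n by omega) hCpc) (fun i hi => hz i (by omega))
      obtain ⟨S, hS⟩ := Module.Finite.fg_top (R := A)
        (M := (DerivedCategory.homologyFunctor (ModuleCat.{u} A) n).obj C)
      obtain ⟨C', hC', ht'⟩ := Good.kill_list (fs := [(1 : A)]) n
        (fun f hf i h₁ _ => hw f hf i (by omega)) S.toList.length C hC
        (fun i hi f hf x => ⟨0, by
          haveI := ModuleCat.subsingleton_of_isZero (hz i (by omega))
          exact Subsingleton.elim _ _⟩) S.toList rfl
        (fun f _ x => ⟨0, by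
          rw [pow_zero, one_smul, show {a | a ∈ S.toList} = (S : Set _) from Set.ext fun _ => Finset.mem_toList, hS]
          trivial⟩)
      refine ⟨C', hC', fun i hi => ?_⟩
      haveI : Subsingleton ((DerivedCategory.homologyFunctor (ModuleCat.{u} A) i).obj C') :=
        subsingleton_of_forall_eq 0 fun x => by
          obtain ⟨e, he⟩ := ht' i (by omega) 1 List.mem_cons_self x
          rwa [one_pow, one_smul] at he
      exact ModuleCat.isZero_of_subsingleton _
  obtain ⟨C, ⟨G, φ, π, δ, hG, hT⟩, hz⟩ := key (max b m - (m - 1)).toNat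
  exact ⟨G, φ, hG, (DRingLib.isoAboveEpiAt_iff _ hT m).2 fun i hi => hz i (by omega)⟩

variable {X : Scheme.{u}} [IsAffine X]

/-- Approximation on an affine scheme. -/
theorem exists_approx_affine (l : List (AX X)) (m : ℤ) (E : DCoh.D X) (hq : DCoh.IsQCohD E)
    (hpc : DCoh.IsPseudoCoherentD m E)
    (hsupp : ∀ i : ℤ, m - (l.length : ℤ) + 1 ≤ i →
      CohB1.support (DCoh.HD E i) ⊆ X.zeroLocus (U := ⊤) {a : Γ(X, ⊤) | a ∈ l}) :
    ∃ (P : DCoh.D X) (α : P ⟶ E), DCoh.IsPerfect P ∧
      (∀ i : ℤ, CohB1.support (DCoh.HD P i) ⊆ X.zeroLocus (U := ⊤) {a : Γ(X, ⊤) | a ∈ l}) ∧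
      (∀ i : ℤ, m < i → IsIso ((DerivedCategory.homologyFunctor X.Modules i).map α)) ∧
      Epi ((DerivedCategory.homologyFunctor X.Modules m).map α) := by
  obtain ⟨M, ⟨eM⟩⟩ := exists_tX_iso hq
  obtain ⟨P, α, hP, hiso, hepi⟩ := exists_approx_module l
    (isPC_of_tX (PerfLib.isPC_of_iso eM.symm hpc)) fun f hf i hi =>
      (torsion_iff_support i M f).2 fun x hxf hx => (mem_zeroLocus_iff_list l x).1
        (hsupp i hi fun h => hx ((DCohRestrLib.subsingleton_stalk_of_iso
          ((DerivedCategory.homologyFunctor X.Modules i).mapIso eM) x).2 h)) f hf hxf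
  have hnat : ∀ i : ℤ, (DerivedCategory.homologyFunctor X.Modules i).map ((tX X).map α) ≫ (tXHIso i M).hom =
      (tXHIso i P).hom ≫ (Scheme.Modules.restrictFunctor X.isoSpec.hom).map
        ((tilde.functor (CommRingCat.of (AX X))).map
          ((DerivedCategory.homologyFunctor (ModuleCat.{u} (AX X)) i).map α)) := by
    intro i
    have h1 := (DerLib.ExactHomology.homologyIso (Scheme.Modules.restrictFunctor X.isoSpec.hom) i).hom.naturality
      ((tD (AX X)).map α)
    have h2 := (DerLib.ExactHomology.homologyIso (tilde.functor (CommRingCat.of (AX X))) i).hom.naturality α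
    have h2' := congrArg (Scheme.Modules.restrictFunctor X.isoSpec.hom).map h2
    simp only [Functor.comp_map, Functor.map_comp] at h1 h2'
    exact (Category.assoc _ _ _).symm.trans ((congrArg (· ≫ _) h1).trans
      ((Category.assoc _ _ _).trans ((congrArg (_ ≫ ·) h2').trans (Category.assoc _ _ _).symm)))
  refine ⟨(tX X).obj P, (tX X).map α ≫ eM.hom, isPerfect_tX hP.1,
    fun i => (torsAll_iff_support l P).1 hP.2 i, fun i hi => ?_, ?_⟩
  · haveI := hiso i hi
    haveI : IsIso ((DerivedCategory.homologyFunctor X.Modules i).map ((tX X).map α)) := by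
      haveI : IsIso ((DerivedCategory.homologyFunctor X.Modules i).map ((tX X).map α) ≫ (tXHIso i M).hom) := by
        rw [hnat i]
        infer_instance
      exact IsIso.of_isIso_comp_right _ (tXHIso i M).hom
    rw [Functor.map_comp]
    infer_instance
  · haveI := hepi
    haveI : (tilde.functor (CommRingCat.of (AX X))).PreservesEpimorphisms :=
      Functor.preservesEpimorphisms_of_adjunction (tilde.adjunction (R := CommRingCat.of (AX X)))
    haveI : (Scheme.Modules.restrictFunctor X.isoSpec.hom).PreservesEpimorphisms :=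
      Functor.preservesEpimorphisms_of_adjunction (Scheme.Modules.restrictAdjunction X.isoSpec.hom)
    have h0 : (DerivedCategory.homologyFunctor X.Modules m).map ((tX X).map α) =
        ((tXHIso m P).hom ≫ (Scheme.Modules.restrictFunctor X.isoSpec.hom).map
          ((tilde.functor (CommRingCat.of (AX X))).map
            ((DerivedCategory.homologyFunctor (ModuleCat.{u} (AX X)) m).map α))) ≫ (tXHIso m M).inv := by
      rw [← hnat m, Category.assoc, Iso.hom_inv_id, Category.comp_id]
    rw [Functor.map_comp, h0]
    infer_instance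

end Groth.Agent.KoszOrthLib
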