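import Groth.Agent.KoszOrthLib.Neg
import Groth.Agent.DRingLib.PCohTop
import Groth.Agent.DRingLib.FlatBC
import Mathlib.RingTheory.Localization.BaseChange

/-!
# Perfect objects on an open of an affine scheme are summands of restrictions
-/

set_option autoImplicit false
set_option linter.style.haveILetI false
set_option backward.isDefEq.respectTransparency false
set_option backward.isDefEq.respectTransparency.types false
set_option maxHeartbeats 2000000

universe u

open CategoryTheory CategoryTheory.Limits AlgebraicGeometry CategoryTheory.Pretriangulated TopologicalSpace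
open DerivedCategory.TStructure (t)
open scoped TensorProduct ZeroObject

attribute [local instance] HasDerivedCategory.standard

namespace Groth.Agent.KoszOrthLib

section Module

variable {A : Type u} [CommRing A]

theorem isZero_H_kA : ∀ (l : List A) (i : ℤ), 0 < i →
    IsZero ((DerivedCategory.homologyFunctor (ModuleCat.{u} A) i).obj (kA l))
  | [], i, hi => by
    refine IsZero.of_iso ?_ ((DerivedCategory.homologyFunctorFactors (ModuleCat.{u} A) i).app _)
    exact ((HomologicalComplex.exactAt_iff_isZero_homology _ i).1 (HomologicalComplex.ExactAt.of_isZero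
      (HomologicalComplex.isZero_single_obj_X (ComplexShape.up ℤ) 0 (ModuleCat.of A A) i (by omega))))
  | f :: l, i, hi => by
    obtain ⟨ι, d, hT⟩ := exists_koszul_triangle f l
    exact (DerivedCategory.HomologySequence.exact₃ _ hT i (i + 1) rfl).isZero_of_both_zeros
      ((isZero_H_kA l i hi).eq_of_src _ _) ((isZero_H_kA l (i + 1) (by omega)).eq_of_tgt _ _)

/-- Cones of maps from torsion perfect complexes to `N`. -/
def Good (fsT : List A) (N C : DerivedCategory (ModuleCat.{u} A)) : Prop :=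
  ∃ (G : DerivedCategory (ModuleCat.{u} A)) (φ : G ⟶ N) (π : N ⟶ C) (δ : C ⟶ G⟦(1 : ℤ)⟧),
    PTors fsT G ∧ Triangle.mk φ π δ ∈ distTriang _

theorem Good.torsAll {fsT : List A} {N C : DerivedCategory (ModuleCat.{u} A)} (h : Good fsT N C)
    (hN : TorsAll fsT N) : TorsAll fsT C := fun f hf => by
  obtain ⟨G, φ, π, δ, hG, hT⟩ := h
  exact TorsH.ext₂ _ (rot_of_distTriang _ hT) (hN f hf) ((hG.2 f hf).shift 1)

theorem Good.tors_deg {fsT : List A} {N C : DerivedCategory (ModuleCat.{u} A)} (h : Good fsT N C) {f : A}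
    (hf : f ∈ fsT) (i : ℤ)
    (hN : ∀ y : (DerivedCategory.homologyFunctor (ModuleCat.{u} A) i).obj N, ∃ k : ℕ, f ^ k • y = 0)
    (x : (DerivedCategory.homologyFunctor (ModuleCat.{u} A) i).obj C) : ∃ k : ℕ, f ^ k • x = 0 := by
  obtain ⟨G, φ, π, δ, hG, hT⟩ := h
  let H := fun j => DerivedCategory.homologyFunctor (ModuleCat.{u} A) j
  let d := DerivedCategory.HomologySequence.δ (Triangle.mk φ π δ) i (i + 1) rfl
  have hex := DerivedCategory.HomologySequence.exact₃ _ hT i (i + 1) rfl
  rw [ShortComplex.moduleCat_exact_iff] at hex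
  obtain ⟨k₁, hk₁⟩ := hG.2 f hf (i + 1) (d.hom x)
  obtain ⟨y, hy⟩ := hex (f ^ k₁ • x) (by
    change d.hom (f ^ k₁ • x) = 0
    rw [map_smul]
    exact hk₁)
  change ((H i).map π).hom y = f ^ k₁ • x at hy
  obtain ⟨k₂, hk₂⟩ := hN y
  refine ⟨k₂ + k₁, ?_⟩
  rw [pow_add, mul_smul, ← hy, ← map_smul, hk₂, map_zero]

/-- Torsion in the window below `n`. -/
def Window (fsT : List A) (N : DerivedCategory (ModuleCat.{u} A)) (n : ℤ) : Prop :=
  ∀ f ∈ fsT, ∀ i, n - (fsT.length : ℤ) < i → i ≤ n →
    ∀ y : (DerivedCategory.homologyFunctor (ModuleCat.{u} A) i).obj N, ∃ k : ℕ, f ^ k • y = 0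

theorem Good.self (fsT : List A) (N : DerivedCategory (ModuleCat.{u} A)) : Good fsT N N :=
  ⟨0, 0, 𝟙 N, 0, ⟨DRingLib.isPerfect_of_isZero (isZero_zero _), fun f _ => TorsH.of_isZero (isZero_zero _)⟩,
    contractible_distinguished₁ N⟩

/-- Killing one class in the top degree. -/
theorem Good.kill {fsT : List A} {N C : DerivedCategory (ModuleCat.{u} A)} (h : Good fsT N C)
    (n : ℤ) (hN : Window fsT N n) (x : (DerivedCategory.homologyFunctor (ModuleCat.{u} A) n).obj C) :
    ∃ (C' : DerivedCategory (ModuleCat.{u} A)) (p : C ⟶ C'), Good fsT N C' ∧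
      (∀ i, n < i → IsIso ((DerivedCategory.homologyFunctor (ModuleCat.{u} A) i).map p)) ∧
      Epi ((DerivedCategory.homologyFunctor (ModuleCat.{u} A) n).map p) ∧
      ((DerivedCategory.homologyFunctor (ModuleCat.{u} A) n).map p).hom x = 0 := by
  have hC : Window fsT C n := fun f hf i h₁ h₂ => h.tors_deg hf i (hN f hf i h₁ h₂)
  obtain ⟨g, hg⟩ := (TildeDerLib.bijective_ev 0 (C⟦n⟧)).2
    (ModuleCat.ofHom (LinearMap.toSpanSingleton A _ ((hShift C n).inv.hom x)))
  change kA ([] : List A) ⟶ C⟦n⟧ at g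
  obtain ⟨e₀, he₀⟩ := exists_factor_unit n fsT hC g
  obtain ⟨ψ, hψ⟩ := he₀ e₀ le_rfl
  let Q := (kA (fsT.map (· ^ e₀)))⟦-n⟧
  let e := (shiftFunctorCompIsoId (DerivedCategory (ModuleCat.{u} A)) n (-n) (by omega)).app C
  let ψ' : Q ⟶ C := ψ⟦-n⟧' ≫ e.hom
  obtain ⟨C', p, δ', hT'⟩ := Pretriangulated.distinguished_cocone_triangle ψ'
  obtain ⟨G, φ, π, δ, hG, hT⟩ := h
  obtain ⟨G', φ', δ'', hT''⟩ := Pretriangulated.distinguished_cocone_triangle₁ (π ≫ p)
  let o := Triangulated.someOctahedron' (rfl : π ≫ p = π ≫ p) hT hT' hT''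
  have hQ : PTors fsT Q := (pTors_kA_pow fsT e₀).shift (-n)
  have hG' : PTors fsT G' := PTors.ext₂ _ o.mem hG hQ
  have hQz : ∀ i, n < i → IsZero ((DerivedCategory.homologyFunctor (ModuleCat.{u} A) i).obj Q) := fun i hi =>
    (isZero_H_kA _ (-n + i) (by omega)).of_iso
      (((DerivedCategory.homologyFunctor (ModuleCat.{u} A) 0).shiftIso (-n) i (-n + i) rfl).app _)
  refine ⟨C', p, ⟨G', φ', π ≫ p, δ'', hG', hT''⟩, fun i hi => ?_, ?_, ?_⟩
  · exact DerLib.Devissage.isIso_homologyMap_mor₂ _ hT' i (hQz i hi) (hQz (i + 1) (by omega))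
  · exact (DerivedCategory.HomologySequence.exact₃ _ hT' n (n + 1) rfl).epi_f
      ((hQz (n + 1) (by omega)).eq_of_tgt _ _)
  · have h0 : ψ' ≫ p = 0 := comp_distTriang_mor_zero₁₂ _ hT'
    have h1 : ψ ≫ p⟦n⟧' = 0 := by
      apply (shiftFunctor (DerivedCategory (ModuleCat.{u} A)) (-n)).map_injective
      let e' := (shiftFunctorCompIsoId (DerivedCategory (ModuleCat.{u} A)) n (-n) (by omega)).app C'
      have hn : (p⟦n⟧')⟦-n⟧' ≫ e'.hom = e.hom ≫ p :=
        (shiftFunctorCompIsoId (DerivedCategory (ModuleCat.{u} A)) n (-n) (by omega)).hom.naturality p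
      rw [Functor.map_zero, ← cancel_mono e'.hom, zero_comp, Functor.map_comp, Category.assoc, hn,
        ← Category.assoc]
      exact h0
    have h2 : g ≫ p⟦n⟧' = 0 := by rw [← hψ, Category.assoc, h1, comp_zero]
    have h3 : ((DerivedCategory.homologyFunctor (ModuleCat.{u} A) 0).map (p⟦n⟧')).hom
        ((hShift C n).inv.hom x) = 0 := by
      have h4 := congrArg (fun z => z.hom (1 : A)) (TildeDerLib.ev_comp g (p⟦n⟧'))
      have h5 : (TildeDerLib.ev g).hom (1 : A) = (hShift C n).inv.hom x :=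
        (congrArg (fun z => z.hom (1 : A)) hg).trans (one_smul A _)
      rw [h2] at h4
      rw [← h5]
      refine h4.symm.trans ?_
      simp [TildeDerLib.ev, map_zero_H]
    have hnat := ((DerivedCategory.homologyFunctor (ModuleCat.{u} A) 0).shiftIso n 0 n (by omega)).hom.naturality p
    have h6 := congrArg (fun z => z.hom ((hShift C n).inv.hom x)) hnat
    have h7 : (hShift C n).hom.hom ((hShift C n).inv.hom x) = x := (hShift C n).toLinearEquiv.apply_symm_apply x
    refine Eq.trans ?_ ((h6.symm.trans (congrArg (hShift C' n).hom.hom h3)).trans (map_zero _))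
    exact (congrArg ((DerivedCategory.homologyFunctor (ModuleCat.{u} A) n).map p).hom h7).symm

/-- Killing finitely many classes in the top degree. -/
theorem Good.kill_list {fsT fs : List A} {N : DerivedCategory (ModuleCat.{u} A)} (n : ℤ)
    (hN : Window fsT N n) :
    ∀ (k : ℕ) (C : DerivedCategory (ModuleCat.{u} A)), Good fsT N C →
      (∀ i, n < i → ∀ f ∈ fs, ∀ m : (DerivedCategory.homologyFunctor (ModuleCat.{u} A) i).obj C,
        ∃ e : ℕ, f ^ e • m = 0) →
      ∀ S : List ((DerivedCategory.homologyFunctor (ModuleCat.{u} A) n).obj C), S.length = k →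
        (∀ f ∈ fs, ∀ m : (DerivedCategory.homologyFunctor (ModuleCat.{u} A) n).obj C,
          ∃ e : ℕ, f ^ e • m ∈ Submodule.span A {a | a ∈ S}) →
        ∃ C', Good fsT N C' ∧ ∀ i, n ≤ i → ∀ f ∈ fs,
          ∀ m : (DerivedCategory.homologyFunctor (ModuleCat.{u} A) i).obj C', ∃ e : ℕ, f ^ e • m = 0
  | 0, C, hC, ht, S, hS, hspan => by
    refine ⟨C, hC, fun i hi f hf m => ?_⟩
    rcases eq_or_lt_of_le hi with rfl | hi
    · obtain ⟨e, he⟩ := hspan f hf m
      have h0 : ({a | a ∈ S} : Set _) = ∅ := by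
        rw [List.eq_nil_of_length_eq_zero hS]
        exact Set.eq_empty_iff_forall_notMem.2 fun _ => List.not_mem_nil
      rw [h0, Submodule.span_empty, Submodule.mem_bot] at he
      exact ⟨e, he⟩
    · exact ht i hi f hf m
  | k + 1, C, hC, ht, S, hS, hspan => by
    obtain ⟨x, S', rfl⟩ := List.exists_cons_of_length_eq_add_one hS
    obtain ⟨C', p, hC', hiso, hepi, hx⟩ := hC.kill n hN x
    let P := ((DerivedCategory.homologyFunctor (ModuleCat.{u} A) n).map p).hom
    refine Good.kill_list n hN k C' hC' (fun i hi f hf m => ?_) (S'.map P) (by simpa using hS) fun f hf m => ?_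
    · haveI := hiso i hi
      obtain ⟨m₀, rfl⟩ := (ConcreteCategory.bijective_of_isIso
        ((DerivedCategory.homologyFunctor (ModuleCat.{u} A) i).map p)).2 m
      obtain ⟨e, he⟩ := ht i hi f hf m₀
      exact ⟨e, by rw [← map_smul, he, map_zero]⟩
    · haveI := hepi
      obtain ⟨m₀, rfl⟩ := (ModuleCat.epi_iff_surjective
        ((DerivedCategory.homologyFunctor (ModuleCat.{u} A) n).map p)).1 inferInstance m
      obtain ⟨e, he⟩ := hspan f hf m₀
      refine ⟨e, ?_⟩
      have h' := Submodule.mem_map_of_mem (f := P) he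
      rw [Submodule.map_span] at h'
      rw [← map_smul]
      refine (Submodule.span_le.2 ?_ : Submodule.span A _ ≤ _) h'
      rintro _ ⟨a, ha, rfl⟩
      rcases List.mem_cons.1 ha with rfl | ha
      · rw [show P a = 0 from hx]
        exact zero_mem _
      · exact Submodule.subset_span (List.mem_map_of_mem ha)

/-- A module with finite localization is generated by finitely many elements away from torsion. -/
theorem exists_finset_of_finite_localization (f : A) (M : ModuleCat.{u} A)
    (h : Module.Finite (Localization.Away f) (Localization.Away f ⊗[A] M)) :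
    ∃ S : Finset M, ∀ m : M, ∃ e : ℕ, f ^ e • m ∈ Submodule.span A (S : Set M) := by
  classical
  let B := Localization.Away f
  let mk : M →ₗ[A] B ⊗[A] M := TensorProduct.mk A B M 1
  have htop : Submodule.span B (Set.range mk) = ⊤ := by
    rw [eq_top_iff]
    intro z _
    induction z using TensorProduct.induction_on with
    | zero => exact zero_mem _
    | tmul b m =>
      rw [show b ⊗ₜ[A] m = b • ((1 : B) ⊗ₜ[A] m) by rw [TensorProduct.smul_tmul', smul_eq_mul, mul_one]]
      exact Submodule.smul_mem _ _ (Submodule.subset_span ⟨m, rfl⟩)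
    | add a b ha hb => exact add_mem (ha trivial) (hb trivial)
  obtain ⟨T, hT, hspan⟩ := (Submodule.fg_span_iff_fg_span_finset_subset _).1 (htop ▸ h.fg_top)
  choose g hg using hT
  let S : Finset M := T.attach.image fun y => g y.2
  refine ⟨S, fun m => ?_⟩
  let N := Submodule.span A (S : Set M)
  have hN : ∀ z ∈ Submodule.span B (T : Set (B ⊗[A] M)), N.mkQ.lTensor B z = 0 := by
    intro z hz
    induction hz using Submodule.span_induction with
    | mem y hy =>
      rw [← hg hy]
      change (1 : B) ⊗ₜ[A] N.mkQ (g hy) = 0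
      rw [Submodule.mkQ_apply, (Submodule.Quotient.mk_eq_zero N).2 (Submodule.subset_span
        (Finset.mem_image.2 ⟨⟨y, hy⟩, Finset.mem_attach _ _, rfl⟩)), TensorProduct.tmul_zero]
    | zero => exact map_zero _
    | add a b _ _ ha hb => rw [map_add, ha, hb, add_zero]
    | smul c a _ ha =>
      rw [← LinearMap.baseChange_eq_ltensor] at ha ⊢
      rw [map_smul, ha, smul_zero]
  have h0 : (TensorProduct.mk A B (M ⧸ N) 1) (N.mkQ m) = 0 :=
    hN (mk m) (hspan ▸ htop.ge trivial)
  obtain ⟨⟨s, hs⟩, hs0⟩ := (IsLocalizedModule.eq_zero_iff (Submonoid.powers f) _).1 h0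
  obtain ⟨e, rfl⟩ := hs
  refine ⟨e, (Submodule.Quotient.mk_eq_zero N).1 ?_⟩
  exact hs0

theorem subsingleton_tensor_away (f : A) (M : Type u) [AddCommGroup M] [Module A M]
    (h : ∀ m : M, ∃ e : ℕ, f ^ e • m = 0) : Subsingleton (Localization.Away f ⊗[A] M) := by
  refine subsingleton_of_forall_eq 0 fun z => ?_
  induction z using TensorProduct.induction_on with
  | zero => rfl
  | tmul b m =>
    have h1 : (TensorProduct.mk A (Localization.Away f) M 1) m = 0 :=
      (IsLocalizedModule.eq_zero_iff (Submonoid.powers f) _).2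
        (let ⟨e, he⟩ := h m; ⟨⟨f ^ e, e, rfl⟩, he⟩)
    rw [show b ⊗ₜ[A] m = b • ((1 : Localization.Away f) ⊗ₜ[A] m) by
      rw [TensorProduct.smul_tmul', smul_eq_mul, mul_one]]
    exact (congrArg (b • ·) h1).trans (smul_zero b)
  | add a b ha hb => rw [ha, hb, add_zero]

/-- The finite localization of the top cohomology. -/
theorem exists_finset_of_isPseudoCoherent (f : A) (K : CochainComplex (ModuleCat.{u} A) ℤ) (n : ℤ)
    (hpc : DRing.IsPseudoCoherent (Localization.Away f) n
      (DerivedCategory.Q.obj ((DRingLib.extCx (algebraMap A (Localization.Away f))).obj K)))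
    (ht : ∀ i, n < i → ∀ m : K.homology i, ∃ e : ℕ, f ^ e • m = 0) :
    ∃ S : Finset (K.homology n), ∀ m : K.homology n,
      ∃ e : ℕ, f ^ e • m ∈ Submodule.span A (S : Set (K.homology n)) := by
  let B := Localization.Away f
  let φ := algebraMap A B
  have hflat : φ.Flat := RingHom.flat_algebraMap_iff.2 (IsLocalization.flat B (Submonoid.powers f))
  have hfin := DRingLib.finite_of_isPseudoCoherent hpc fun i hi => by
    refine DRingLib.isZero_Hn_of_homology ?_
    obtain ⟨e⟩ := DRingLib.exists_homology_extCx_iso φ hflat K i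
    refine IsZero.of_iso ?_ e
    haveI : Subsingleton ((ModuleCat.extendScalars.{u, u, u} φ).obj (K.homology i)) :=
      haveI := subsingleton_tensor_away f (K.homology i) (ht i hi)
      (DRingLib.extendScalarsEquiv (K.homology i)).toEquiv.subsingleton
    exact ModuleCat.isZero_of_subsingleton _
  refine exists_finset_of_finite_localization f (K.homology n) ?_
  obtain ⟨e⟩ := DRingLib.exists_homology_extCx_iso φ hflat K n
  haveI : Module.Finite B ((DerivedCategory.Q ⋙ DerivedCategory.homologyFunctor (ModuleCat.{u} B) n).obj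
      ((DRingLib.extCx φ).obj K)) := hfin
  exact Module.Finite.equiv ((((DerivedCategory.homologyFunctorFactors (ModuleCat.{u} B) n).app
    ((DRingLib.extCx φ).obj K)) ≪≫ e).toLinearEquiv.trans (DRingLib.extendScalarsEquiv (K.homology n)))

end Module

variable {X : Scheme.{u}} [IsAffine X]

/-- Pseudo-coherence on a principal open inside `U`. -/
theorem isPC_extCx_of_restrictD (U : X.Opens) (f : AX X) (hf : X.basicOpen f ≤ U)
    (K : CochainComplex (ModuleCat.{u} (AX X)) ℤ) (n : ℤ)
    (h : DCoh.IsPseudoCoherentD n ((DCoh.restrictD U.ι).obj ((tX X).obj (DerivedCategory.Q.obj K)))) :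
    DRing.IsPseudoCoherent (Localization.Away f) n
      (DerivedCategory.Q.obj ((DRingLib.extCx (algebraMap (AX X) (Localization.Away f))).obj K)) := by
  haveI : PreservesFiniteLimits (tilde.functor (CommRingCat.of (Localization.Away f))) :=
    HensSchLib.tilde_preservesFiniteLimits _
  let φ := algebraMap (AX X) (Localization.Away f)
  haveI : IsOpenImmersion (Spec.map (CommRingCat.ofHom φ)) := IsOpenImmersion.of_isLocalization f
  let s := Spec.map (CommRingCat.ofHom φ)
  let j₀ := s ≫ X.isoSpec.inv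
  have hr : Set.range j₀ ⊆ Set.range U.ι := by
    rintro _ ⟨q, rfl⟩
    rw [Scheme.Opens.range_ι]
    refine hf ((notMem_asIdeal_iff f _).1 ?_)
    have h1 : X.isoSpec.hom (j₀ q) = s q := by
      change (j₀ ≫ X.isoSpec.hom) q = s q
      rw [Category.assoc, Iso.inv_hom_id, Category.comp_id]
      rfl
    rw [h1]
    exact fun hm => q.isPrime.ne_top
      (Ideal.eq_top_of_isUnit_mem _ hm (IsLocalization.Away.algebraMap_isUnit f))
  let l := IsOpenImmersion.lift U.ι j₀ hr
  haveI : IsOpenImmersion l :=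
    haveI : IsOpenImmersion (l ≫ U.ι) := by rw [IsOpenImmersion.lift_fac]; infer_instance
    IsOpenImmersion.of_comp l U.ι
  let M := (tX X).obj (DerivedCategory.Q.obj K)
  obtain ⟨c₁⟩ := PerfLib.nonempty_resD_comp l U.ι M
  obtain ⟨c₂⟩ := PerfLib.nonempty_resD_congr (IsOpenImmersion.lift_fac U.ι j₀ hr) M
  obtain ⟨c₃⟩ := PerfLib.nonempty_resD_comp s X.isoSpec.inv M
  obtain ⟨c₄⟩ := nonempty_restrictD_inv_tX (DerivedCategory.Q.obj K)
  obtain ⟨c₅⟩ := TildePCLib.nonempty_resD_tilde φ K
  exact TildePCLib.isPseudoCoherent_of_tildeD (PerfLib.isPC_of_iso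
    (c₁.symm ≪≫ c₂ ≪≫ c₃ ≪≫ (PerfLib.resD s).mapIso c₄ ≪≫ c₅) (PerfLib.isPC_res h l))

/-- One step down. -/
theorem exists_good_step (U : X.Opens) {fs fsT : List (AX X)}
    (hfs : (U : Set X)ᶜ = X.zeroLocus (U := ⊤) {a : Γ(X, ⊤) | a ∈ fs})
    {N C : DerivedCategory (ModuleCat.{u} (AX X))} (hN : TorsAll fsT N)
    (hNU : DCoh.IsPerfect ((DCoh.restrictD U.ι).obj ((tX X).obj N))) (hC : Good fsT N C) (n : ℤ)
    (ht : ∀ i, n < i → ∀ f ∈ fs,
      ∀ m : (DerivedCategory.homologyFunctor (ModuleCat.{u} (AX X)) i).obj C, ∃ e : ℕ, f ^ e • m = 0) :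
    ∃ C', Good fsT N C' ∧ ∀ i, n ≤ i → ∀ f ∈ fs,
      ∀ m : (DerivedCategory.homologyFunctor (ModuleCat.{u} (AX X)) i).obj C', ∃ e : ℕ, f ^ e • m = 0 := by
  classical
  have hCU : DCoh.IsPerfect ((DCoh.restrictD U.ι).obj ((tX X).obj C)) := by
    obtain ⟨G, φ, π, δ, hG, hT⟩ := hC
    exact PerfLib.isPerfect_obj₃ _ ((tX X ⋙ DCoh.restrictD U.ι).map_distinguished _ hT)
      (isPerfect_restrictD _ (isPerfect_tX hG.1)) hNU
  let K := DerivedCategory.Q.objPreimage C
  let eK := DerivedCategory.Q.objObjPreimageIso C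
  let H := fun i => (DerivedCategory.homologyFunctorFactors (ModuleCat.{u} (AX X)) i).symm.app K ≪≫
    (DerivedCategory.homologyFunctor (ModuleCat.{u} (AX X)) i).mapIso eK
  have hfin : ∀ f : {f // f ∈ fs}, ∃ S : Finset ((DerivedCategory.homologyFunctor (ModuleCat.{u} (AX X)) n).obj C),
      ∀ m, ∃ e : ℕ, f.1 ^ e • m ∈ Submodule.span (AX X)
        (S : Set ((DerivedCategory.homologyFunctor (ModuleCat.{u} (AX X)) n).obj C)) := by
    rintro ⟨f, hf⟩
    have hle : X.basicOpen f ≤ U := fun x hx => by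
      by_contra hxU
      have h1 : x ∈ (U : Set X)ᶜ := hxU
      rw [hfs, mem_zeroLocus_iff_list] at h1
      exact h1 f hf hx
    obtain ⟨S, hS⟩ := exists_finset_of_isPseudoCoherent f K n
      (isPC_extCx_of_restrictD U f hle K n (RelFlatLib.isPC_of_isPerfect (PerfLib.isPerfect_of_iso
        (((tX X ⋙ DCoh.restrictD U.ι).mapIso eK).symm) hCU) n))
      (fun i hi m => by
        obtain ⟨e, he⟩ := ht i hi f hf ((H i).hom.hom m)
        refine ⟨e, (ConcreteCategory.bijective_of_isIso (H i).hom).1 ?_⟩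
        rw [map_smul, map_zero]
        exact he)
    refine ⟨S.image (H n).hom.hom, fun m => ?_⟩
    obtain ⟨m₀, rfl⟩ := (ConcreteCategory.bijective_of_isIso (H n).hom).2 m
    obtain ⟨e, he⟩ := hS m₀
    refine ⟨e, ?_⟩
    have h' := Submodule.mem_map_of_mem (f := (H n).hom.hom) he
    rw [Submodule.map_span, map_smul] at h'
    rw [Finset.coe_image]
    exact h'
  choose S hS using hfin
  let T : Finset ((DerivedCategory.homologyFunctor (ModuleCat.{u} (AX X)) n).obj C) :=
    fs.attach.toFinset.biUnion S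
  refine Good.kill_list n (fun f hf i _ _ => hN f hf i) T.toList.length C hC ht T.toList rfl fun f hf m => ?_
  obtain ⟨e, he⟩ := hS ⟨f, hf⟩ m
  exact ⟨e, Submodule.span_mono (fun a ha => Finset.mem_toList.2 (Finset.mem_biUnion.2
    ⟨⟨f, hf⟩, List.mem_toFinset.2 (List.mem_attach _ _), ha⟩)) he⟩

/-- A perfect object on a quasi-compact open with support in `T` is a summand of a restriction. -/
theorem exists_retract (U : X.Opens) (hU : IsCompact (U : Set X)) {T : Set X} (hT : IsClosed T)
    {fsT : List (AX X)} (hfsT : T = X.zeroLocus (U := ⊤) {a : Γ(X, ⊤) | a ∈ fsT})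
    (F : DCoh.D (U : Scheme.{u})) (hF : DCoh.IsPerfect F)
    (hFT : ∀ i : ℤ, CohB1.support (DCoh.HD F i) ⊆ {x : ↥(U : Scheme.{u}) | U.ι.base x ∈ T}) :
    ∃ (G : DerivedCategory (ModuleCat.{u} (AX X))) (i : F ⟶ (DCoh.restrictD U.ι).obj ((tX X).obj G))
      (r : (DCoh.restrictD U.ι).obj ((tX X).obj G) ⟶ F), PTors fsT G ∧ i ≫ r = 𝟙 F := by
  let j := U.ι
  haveI := DCohRestrLib.hasRpush j
  haveI : CompactSpace (U : Scheme.{u}) := isCompact_iff_compactSpace.mp hU
  haveI : QuasiCompact j := quasiCompact_of_compactSpace _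
  obtain ⟨fs, hfs⟩ := exists_list_zeroLocus (T := (U : Set X)ᶜ) U.2.isClosed_compl (by rwa [compl_compl])
  obtain ⟨N, ⟨eN⟩⟩ := exists_tX_iso (QRlimLib.isQCohD_rpush j (isQCohD_of_isPerfect hF))
  haveI := isIso_counit j (restrictRpushAdj j)
  let eF : (DCoh.restrictD j).obj ((tX X).obj N) ≅ F :=
    (DCoh.restrictD j).mapIso eN ≪≫ (asIso (restrictRpushAdj j).counit).app F
  have hN : TorsAll fsT N := by
    let V : X.Opens := ⟨Tᶜ, hT.isOpen_compl⟩
    haveI := DCohRestrLib.hasRpush (j ∣_ V)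
    obtain ⟨e⟩ := DCohRestrLib.nonempty_restrictD_Rpush j V
    have hz : IsZero ((DCoh.restrictD V.ι).obj ((tX X).obj N)) :=
      ((DCohRestrLib.isZero_Rpush _ ((DCohRestrLib.isZero_restrictD_iff _ F).2
        fun i x hx hs => (show x ∈ j ⁻¹ᵁ V from hx) (hFT i hs))).of_iso (e.app F)).of_iso ((DCoh.restrictD V.ι).mapIso eN)
    rw [torsAll_iff_support, ← hfsT]
    intro i x hx
    by_contra hxT
    exact (DCohRestrLib.isZero_restrictD_iff V _).1 hz i x hxT hx
  obtain ⟨b, hb⟩ := KiehlLib.exists_isLE_of_isPC (RelFlatLib.isPC_of_isPerfect hF 0)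
  have hvan : ∀ (C : DerivedCategory (ModuleCat.{u} (AX X))) (i : ℤ),
      (∀ f ∈ fs, ∀ m : (DerivedCategory.homologyFunctor (ModuleCat.{u} (AX X)) i).obj C, ∃ e : ℕ, f ^ e • m = 0) ↔
        IsZero (DCoh.HD ((DCoh.restrictD j).obj ((tX X).obj C)) i) := fun C i => by
    rw [DCohRestrLib.isZero_iff_support_empty, DCohRestrLib.support_HD_restrictD,
      Set.eq_empty_iff_forall_notMem]
    constructor
    · intro h v hv
      have h1 : (j v : X) ∉ (U : Set X)ᶜ := fun h' => h' v.2
      rw [hfs, mem_zeroLocus_iff_list] at h1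
      push Not at h1
      obtain ⟨f, hf, hfv⟩ := h1
      exact (torsion_iff_support i C f).1 (h f hf) _ hfv hv
    · intro h f hf
      refine (torsion_iff_support i C f).2 fun x hxf hx => ?_
      have hxU : x ∈ U := by
        by_contra hxU
        have h1 : x ∈ (U : Set X)ᶜ := hxU
        rw [hfs, mem_zeroLocus_iff_list] at h1
        exact h1 f hf hxf
      exact h ⟨x, hxU⟩ hx
  have hgood : ∀ k : ℕ, ∃ C, Good fsT N C ∧ ∀ i : ℤ, b - k < i → ∀ f ∈ fs,
      ∀ m : (DerivedCategory.homologyFunctor (ModuleCat.{u} (AX X)) i).obj C, ∃ e : ℕ, f ^ e • m = 0 := by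
    intro k
    induction k with
    | zero =>
      refine ⟨N, Good.self fsT N, fun i hi => (hvan N i).2 ?_⟩
      haveI := hb
      exact (DerivedCategory.isZero_of_isLE F b i (by simpa using hi)).of_iso
        ((DerivedCategory.homologyFunctor (U : Scheme.{u}).Modules i).mapIso eF)
    | succ k ih =>
      obtain ⟨C, hC, ht⟩ := ih
      obtain ⟨C', hC', ht'⟩ := exists_good_step U hfs hN (PerfLib.isPerfect_of_iso eF.symm hF) hC (b - k) ht
      exact ⟨C', hC', fun i hi => ht' i (by push_cast at hi; omega)⟩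
  obtain ⟨M₀, hM₀⟩ := exists_hom_eq_zero_open U hU hF
  obtain ⟨C, ⟨G, φ, π, δ, hG, hGT⟩, ht⟩ := hgood (b - M₀).toNat
  have hT' := (tX X ⋙ DCoh.restrictD j).map_distinguished _ hGT
  obtain ⟨i₀, hi₀⟩ := Triangle.coyoneda_exact₂ _ hT' eF.inv
    (hM₀ _ (isQCohD_restrictD j (isQCohD_tX C)) ((DerivedCategory.isLE_iff _ M₀).2 fun i hi =>
      (hvan C i).1 (ht i (by omega))) _)
  exact ⟨G, i₀, (DCoh.restrictD j).map ((tX X).map φ) ≫ eF.hom, hG, by
    rw [← Category.assoc]
    exact (congrArg (· ≫ eF.hom) hi₀.symm).trans eF.inv_hom_id⟩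

end Groth.Agent.KoszOrthLib
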