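import Groth.Agent.KoszOrthLib.Affine
import Groth.Agent.DRingLib.Devissage

/-!
# Maps from perfect complexes into torsion complexes factor through perfect torsion complexes
-/

set_option autoImplicit false
set_option linter.style.haveILetI false
set_option backward.isDefEq.respectTransparency false
set_option backward.isDefEq.respectTransparency.types false
set_option maxHeartbeats 1000000

universe u v w

open CategoryTheory CategoryTheory.Limits CategoryTheory.Pretriangulated HomologicalComplex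
open scoped ZeroObject

attribute [local instance] HasDerivedCategory.standard

namespace Groth.Agent.KoszOrthLib

section Abstract

variable {D : Type w} [Category.{v} D] [HasZeroObject D] [HasShift D ℤ] [Preadditive D]
  [∀ n : ℤ, (shiftFunctor D n).Additive] [Pretriangulated D]

/-- Every map from `P` to an object satisfying `L` factors through an object satisfying `C`. -/
def Factors (C L : D → Prop) (P : D) : Prop :=
  ∀ M, L M → ∀ φ : P ⟶ M, ∃ (Q : D) (a : P ⟶ Q) (b : Q ⟶ M), C Q ∧ φ = a ≫ b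

theorem Factors.of_retract {C L : D → Prop} {P P' : D} (i : P' ⟶ P) (r : P ⟶ P') (hir : i ≫ r = 𝟙 P')
    (h : Factors C L P) : Factors C L P' := fun M hM φ => by
  obtain ⟨Q, a, b, hQ, hab⟩ := h M hM (r ≫ φ)
  exact ⟨Q, i ≫ a, b, hQ, by rw [Category.assoc, ← hab, reassoc_of% hir]⟩

theorem Factors.of_iso {C L : D → Prop} {P P' : D} (e : P ≅ P') (h : Factors C L P) : Factors C L P' :=
  h.of_retract e.inv e.hom e.inv_hom_id

theorem Factors.shift {C L : D → Prop} {P : D} (n : ℤ)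
    (hC : ∀ Q, C Q → C (Q⟦n⟧)) (hL : ∀ M, L M → L (M⟦-n⟧))
    (h : Factors C L P) : Factors C L (P⟦n⟧) := fun M hM φ => by
  let e := (shiftFunctorCompIsoId D (-n) n (by omega)).app M
  obtain ⟨φ₀, hφ₀⟩ := (shiftFunctor D n).map_surjective (φ ≫ e.inv)
  obtain ⟨Q, a, b, hQ, hab⟩ := h _ (hL M hM) φ₀
  refine ⟨Q⟦n⟧, a⟦n⟧', b⟦n⟧' ≫ e.hom, hC Q hQ, ?_⟩
  rw [← Category.assoc, ← Functor.map_comp, ← hab, hφ₀, Category.assoc, Iso.inv_hom_id, Category.comp_id]

theorem Factors.ext {C L : D → Prop} (hCL : ∀ Q, C Q → L (Q⟦(1 : ℤ)⟧))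
    (hC : ∀ T ∈ distTriang D, C (T : Triangle D).obj₁ → C T.obj₃ → C T.obj₂)
    (hL : ∀ T ∈ distTriang D, L (T : Triangle D).obj₁ → L T.obj₃ → L T.obj₂)
    (T : Triangle D) (hT : T ∈ distTriang D) (h₁ : Factors C L T.obj₁) (h₃ : Factors C L T.obj₃) :
    Factors C L T.obj₂ := fun M hM φ => by
  obtain ⟨C₁, a, b, hC₁, hab⟩ := h₁ M hM (T.mor₁ ≫ φ)
  obtain ⟨M', π, δ, hM'⟩ := Pretriangulated.distinguished_cocone_triangle b
  have hM'r := rot_of_distTriang _ hM'
  have hLM' : L M' := hL _ hM'r hM (hCL C₁ hC₁)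
  have h0 : T.mor₁ ≫ φ ≫ π = 0 := by
    rw [← Category.assoc, hab, Category.assoc]
    exact (congrArg (a ≫ ·) (comp_distTriang_mor_zero₁₂ _ hM')).trans comp_zero
  obtain ⟨φ'', hφ''⟩ := Triangle.yoneda_exact₂ T hT (φ ≫ π) h0
  obtain ⟨C₃, c, e, hC₃, hce⟩ := h₃ M' hLM' φ''
  obtain ⟨Q, i, q', hQ⟩ := Pretriangulated.distinguished_cocone_triangle₂ (e ≫ δ)
  obtain ⟨q, hq1, hq2⟩ := complete_distinguished_triangle_morphism₂ _ _ hQ hM' (𝟙 C₁) e (by change (e ≫ δ) ≫ (𝟙 C₁)⟦(1 : ℤ)⟧' = e ≫ δ; rw [CategoryTheory.Functor.map_id, Category.comp_id])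
  change Q ⟶ M at q
  change i ≫ q = 𝟙 C₁ ≫ b at hq1
  change q' ≫ e = q ≫ π at hq2
  have hlift : (T.mor₂ ≫ c) ≫ e ≫ δ = 0 := by
    rw [Category.assoc, ← Category.assoc c, ← hce, ← Category.assoc, ← hφ'', Category.assoc]
    exact (congrArg (φ ≫ ·) (comp_distTriang_mor_zero₂₃ _ hM')).trans comp_zero
  obtain ⟨ct, hct⟩ := Triangle.coyoneda_exact₃ _ hQ (T.mor₂ ≫ c) hlift
  change T.obj₂ ⟶ Q at ct
  change T.mor₂ ≫ c = ct ≫ q' at hct
  have h1 : (φ - ct ≫ q) ≫ π = 0 := by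
    rw [Preadditive.sub_comp, sub_eq_zero, hφ'', hce, ← Category.assoc, hct, Category.assoc, hq2,
      Category.assoc]
  obtain ⟨r, hr⟩ := Triangle.coyoneda_exact₂ _ hM' (φ - ct ≫ q) h1
  change T.obj₂ ⟶ C₁ at r
  change φ - ct ≫ q = r ≫ b at hr
  refine ⟨Q, ct + r ≫ i, q, hC _ hQ hC₁ hC₃, ?_⟩
  rw [Preadditive.add_comp, Category.assoc, hq1, Category.id_comp, ← hr]
  abel

end Abstract

variable {A : Type u} [CommRing A]

theorem ev_smul_apply {m : ℤ} {M : DerivedCategory (ModuleCat.{u} A)} (a : A)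
    (g : TildeDerLib.gen A m ⟶ M) :
    (TildeDerLib.ev (a • g)).hom (1 : A) = a • (TildeDerLib.ev g).hom (1 : A) := by
  rw [TildeDerLib.ev, smul_homology_map, Linear.comp_smul]
  rfl

theorem TorsH.of_retract {f : A} {K L : DerivedCategory (ModuleCat.{u} A)} (i : K ⟶ L) (r : L ⟶ K)
    (hir : i ≫ r = 𝟙 K) (h : TorsH f L) : TorsH f K := fun m x => by
  obtain ⟨k, hk⟩ := h m (((DerivedCategory.homologyFunctor (ModuleCat.{u} A) m).map i).hom x)
  refine ⟨k, ?_⟩
  have h2 := congrArg ((DerivedCategory.homologyFunctor (ModuleCat.{u} A) m).map r).hom hk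
  rw [map_smul, map_zero, ← ModuleCat.comp_apply, ← Functor.map_comp, hir,
    CategoryTheory.Functor.map_id] at h2
  exact h2

theorem TorsH.of_iso {f : A} {K L : DerivedCategory (ModuleCat.{u} A)} (e : K ≅ L) (h : TorsH f K) :
    TorsH f L := h.of_retract e.inv e.hom e.inv_hom_id

theorem TorsH.of_isZero {f : A} {K : DerivedCategory (ModuleCat.{u} A)} (h : IsZero K) : TorsH f K :=
  fun m x => ⟨0, by
    haveI : Subsingleton ((DerivedCategory.homologyFunctor (ModuleCat.{u} A) m).obj K) :=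
      ModuleCat.subsingleton_of_isZero ((DerivedCategory.homologyFunctor (ModuleCat.{u} A) m).map_isZero h)
    exact Subsingleton.elim _ _⟩

theorem TorsH.shift {f : A} {K : DerivedCategory (ModuleCat.{u} A)} (h : TorsH f K) (n : ℤ) :
    TorsH f (K⟦n⟧) := fun m x => by
  let e := ((DerivedCategory.homologyFunctor (ModuleCat.{u} A) 0).shiftIso n m (n + m) rfl).app K
  obtain ⟨k, hk⟩ := h (n + m) (e.hom.hom x)
  refine ⟨k, (ConcreteCategory.bijective_of_isIso e.hom).1 ?_⟩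
  rw [map_smul, map_zero]
  exact hk

theorem TorsH.ext₂ {f : A} (T : Triangle (DerivedCategory (ModuleCat.{u} A))) (hT : T ∈ distTriang _)
    (h₁ : TorsH f T.obj₁) (h₃ : TorsH f T.obj₃) : TorsH f T.obj₂ := fun m y => by
  let H := DerivedCategory.homologyFunctor (ModuleCat.{u} A) m
  have hex := DerivedCategory.HomologySequence.exact₂ _ hT m
  rw [ShortComplex.moduleCat_exact_iff] at hex
  obtain ⟨k₁, hk₁⟩ := h₃ m ((H.map T.mor₂).hom y)
  obtain ⟨x, hx⟩ := hex (f ^ k₁ • y) (by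
    change (H.map T.mor₂).hom (f ^ k₁ • y) = 0
    rw [map_smul]
    exact hk₁)
  change (H.map T.mor₁).hom x = f ^ k₁ • y at hx
  obtain ⟨k₂, hk₂⟩ := h₁ m x
  refine ⟨k₂ + k₁, ?_⟩
  rw [pow_add, mul_smul, ← hx, ← map_smul, hk₂, map_zero]

/-- Torsion objects. -/
def TorsAll (fs : List A) (K : DerivedCategory (ModuleCat.{u} A)) : Prop := ∀ f ∈ fs, TorsH f K

/-- Perfect torsion objects. -/
def PTors (fs : List A) (K : DerivedCategory (ModuleCat.{u} A)) : Prop :=
  DRing.IsPerfect A K ∧ TorsAll fs K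

theorem PTors.ext₂ {fs : List A} (T : Triangle (DerivedCategory (ModuleCat.{u} A))) (hT : T ∈ distTriang _)
    (h₁ : PTors fs T.obj₁) (h₃ : PTors fs T.obj₃) : PTors fs T.obj₂ :=
  ⟨DRingLib.isPerfect_obj₂ T hT h₁.1 h₃.1, fun f hf => TorsH.ext₂ T hT (h₁.2 f hf) (h₃.2 f hf)⟩

theorem PTors.shift {fs : List A} {K : DerivedCategory (ModuleCat.{u} A)} (h : PTors fs K) (n : ℤ) :
    PTors fs (K⟦n⟧) :=
  ⟨DRingLib.isPerfect_shift h.1 n, fun f hf => (h.2 f hf).shift n⟩

theorem isPerfectModule_self : DRing.IsPerfectModule A A :=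
  ⟨(HomologicalComplex.single (ModuleCat.{u} A) (ComplexShape.up ℤ) 0).obj (ModuleCat.of A A), 0, 0,
    fun i hi => HomologicalComplex.isZero_single_obj_X _ _ _ _ (by omega),
    fun i => by
      by_cases hi : i = 0
      · subst hi
        exact ⟨Module.Finite.equiv
            ((HomologicalComplex.singleObjXSelf (ComplexShape.up ℤ) 0 (ModuleCat.of A A)).toLinearEquiv).symm,
          Module.Projective.of_equiv
            ((HomologicalComplex.singleObjXSelf (ComplexShape.up ℤ) 0 (ModuleCat.of A A)).toLinearEquiv).symm⟩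
      · have hz := HomologicalComplex.isZero_single_obj_X (ComplexShape.up ℤ) 0 (ModuleCat.of A A) i hi
        haveI := ModuleCat.subsingleton_of_isZero hz
        exact ⟨inferInstance, inferInstance⟩,
    ⟨((DerivedCategory.singleFunctorIsoCompQ (ModuleCat.{u} A) 0).app _).symm⟩⟩

theorem isPerfect_kA : ∀ l : List A, DRing.IsPerfect A (kA l)
  | [] => DRingLib.isPerfect_of_iso ((DerivedCategory.singleFunctorIsoCompQ (ModuleCat.{u} A) 0).app _)
      isPerfectModule_self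
  | f :: l => by
    obtain ⟨i, d, hT⟩ := exists_koszul_triangle f l
    exact DRingLib.isPerfect_obj₃ _ hT (isPerfect_kA l) (isPerfect_kA l)

/-- The unit `A ⟶ K(l)`, on complexes. -/
noncomputable def unitCx : ∀ l : List A, Koszul.koszul A ([] : List A) ⟶ Koszul.koszul A l
  | [] => 𝟙 _
  | f :: l => unitCx l ≫ CochainComplex.mappingCone.inr (f • 𝟙 (Koszul.koszul A l))

/-- The unit `A ⟶ K(l)`. -/
noncomputable abbrev unitK (l : List A) : kA ([] : List A) ⟶ kA l := DerivedCategory.Q.map (unitCx l)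

/-- The inclusion `K(l) ⟶ K(f :: l)`. -/
noncomputable abbrev inclK (f : A) (l : List A) : kA l ⟶ kA (f :: l) :=
  DerivedCategory.Q.map (CochainComplex.mappingCone.inr (f • 𝟙 (Koszul.koszul A l)))

theorem unitK_cons (f : A) (l : List A) : unitK (f :: l) = unitK l ≫ inclK f l := by
  rw [unitK, inclK, ← Functor.map_comp]
  rfl

theorem exists_inclK_triangle (f : A) (l : List A) :
    ∃ d : kA (f :: l) ⟶ (kA l)⟦(1 : ℤ)⟧, Triangle.mk (f • 𝟙 (kA l)) (inclK f l) d ∈ distTriang _ := by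
  let φ : Koszul.koszul A l ⟶ Koszul.koszul A l := f • 𝟙 _
  have e : DerivedCategory.Q.map φ = f • 𝟙 (kA l) := by
    simp only [φ, Functor.map_smul, CategoryTheory.Functor.map_id]
  refine ⟨DerivedCategory.Q.map (CochainComplex.mappingCone.triangle φ).mor₃ ≫
      (DerivedCategory.Q.commShiftIso (1 : ℤ)).hom.app (Koszul.koszul A l), ?_⟩
  rw [← e]
  exact DerivedCategory.mappingCone_triangle_distinguished φ

theorem exists_comparison {e e' : ℕ} (h : e' ≤ e) : ∀ l : List A,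
    ∃ q : kA (l.map (· ^ e)) ⟶ kA (l.map (· ^ e')), unitK (l.map (· ^ e)) ≫ q = unitK (l.map (· ^ e'))
  | [] => ⟨𝟙 _, Category.comp_id _⟩
  | f :: l => by
    obtain ⟨q, hq⟩ := exists_comparison h l
    obtain ⟨d, hT⟩ := exists_inclK_triangle (f ^ e) (l.map (· ^ e))
    obtain ⟨d', hT'⟩ := exists_inclK_triangle (f ^ e') (l.map (· ^ e'))
    obtain ⟨q', hq', -⟩ := complete_distinguished_triangle_morphism _ _ hT hT' (f ^ (e - e') • q) q (by
      change (f ^ e • 𝟙 _) ≫ q = (f ^ (e - e') • q) ≫ (f ^ e' • 𝟙 _)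
      rw [Linear.smul_comp, Category.id_comp, Linear.smul_comp, Linear.comp_smul, Category.comp_id,
        smul_smul, ← pow_add, Nat.sub_add_cancel h])
    change inclK (f ^ e) (l.map (· ^ e)) ≫ q' = q ≫ inclK (f ^ e') (l.map (· ^ e')) at hq'
    refine ⟨q', ?_⟩
    change unitK (f ^ e :: l.map (· ^ e)) ≫ q' = unitK (f ^ e' :: l.map (· ^ e'))
    rw [unitK_cons, unitK_cons, Category.assoc, hq', ← Category.assoc, hq]

variable {M : DerivedCategory (ModuleCat.{u} A)}

/-- Torsion in a range of degrees. -/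
theorem tors_window (f : A) (n : ℤ) : ∀ (l : List A) (m : ℤ), m ≤ n →
    (∀ i, m - (l.length : ℤ) ≤ i → i ≤ n →
      ∀ x : (DerivedCategory.homologyFunctor (ModuleCat.{u} A) i).obj M, ∃ k : ℕ, f ^ k • x = 0) →
    ∀ φ : kA l ⟶ M⟦m⟧, ∃ k : ℕ, f ^ k • φ = 0
  | [], m, hm, h, φ => by
    obtain ⟨k, hk⟩ := h m (by simp) hm
      ((hShift M m).hom.hom ((TildeDerLib.ev ((kNilIso (A := A)).inv ≫ φ)).hom (1 : A)))
    refine ⟨k, ?_⟩
    rw [← cancel_epi (kNilIso (A := A)).inv, comp_zero, Linear.comp_smul, gen_hom_eq_zero_iff]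
    have h2 : f ^ k • (TildeDerLib.ev ((kNilIso (A := A)).inv ≫ φ)).hom (1 : A) = 0 := by
      refine (ConcreteCategory.bijective_of_isIso (hShift M m).hom).1 ?_
      rw [map_smul, map_zero]
      exact hk
    rw [ev_smul_apply]
    exact h2
  | g :: l, m, hm, h, φ => by
    simp only [List.length_cons, Nat.cast_add, Nat.cast_one] at h
    obtain ⟨i, d, hT⟩ := exists_koszul_triangle g l
    obtain ⟨k₁, hk₁⟩ := tors_window f n l m hm (fun j h₁ h₂ => h j (by omega) h₂) (i ≫ φ)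
    obtain ⟨ψ, hψ⟩ := Triangle.yoneda_exact₃ _ hT (f ^ k₁ • φ)
      (show i ≫ (f ^ k₁ • φ) = 0 by rw [Linear.comp_smul]; exact hk₁)
    change (kA l)⟦(1 : ℤ)⟧ ⟶ M⟦m⟧ at ψ
    change f ^ k₁ • φ = d ≫ ψ at hψ
    obtain ⟨ψ₀, hψ₀⟩ := exists_unshift ψ
    obtain ⟨k₂, hk₂⟩ := tors_window f n l (m - 1) (by omega) (fun j h₁ h₂ => h j (by omega) h₂) ψ₀
    refine ⟨k₂ + k₁, ?_⟩
    rw [pow_add, mul_smul, hψ, ← Linear.comp_smul, hψ₀, ← Linear.smul_comp, ← Functor.map_smul, hk₂,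
      Functor.map_zero, zero_comp, comp_zero]

/-- A class of degree `n` with torsion below factors through a Koszul complex of powers. -/
theorem exists_factor_unit (n : ℤ) : ∀ (l : List A),
    (∀ f ∈ l, ∀ i, n - (l.length : ℤ) < i → i ≤ n →
      ∀ x : (DerivedCategory.homologyFunctor (ModuleCat.{u} A) i).obj M, ∃ k : ℕ, f ^ k • x = 0) →
    ∀ φ : kA ([] : List A) ⟶ M⟦n⟧, ∃ e₀ : ℕ, ∀ e, e₀ ≤ e →
      ∃ ψ : kA (l.map (· ^ e)) ⟶ M⟦n⟧, unitK (l.map (· ^ e)) ≫ ψ = φ
  | [], _, φ => ⟨0, fun e _ => ⟨φ, by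
      change DerivedCategory.Q.map (𝟙 _) ≫ φ = φ
      rw [CategoryTheory.Functor.map_id, Category.id_comp]⟩⟩
  | f :: l, h, φ => by
    simp only [List.length_cons, Nat.cast_add, Nat.cast_one] at h
    obtain ⟨e₀, he₀⟩ := exists_factor_unit n l
      (fun g hg i h₁ h₂ => h g (List.mem_cons_of_mem f hg) i (by omega) h₂) φ
    obtain ⟨ψ₀, hψ₀⟩ := he₀ e₀ le_rfl
    obtain ⟨k, hk⟩ := tors_window f n (l.map (· ^ e₀)) n le_rfl
      (fun i h₁ h₂ => h f List.mem_cons_self i (by rw [List.length_map] at h₁; omega) h₂) ψ₀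
    refine ⟨max e₀ k, fun e he => ?_⟩
    obtain ⟨q, hq⟩ := exists_comparison ((le_max_left e₀ k).trans he) l
    obtain ⟨d, hT⟩ := exists_inclK_triangle (f ^ e) (l.map (· ^ e))
    obtain ⟨ψ, hψ⟩ := Triangle.yoneda_exact₂ _ hT (q ≫ ψ₀)
      (show (f ^ e • 𝟙 (kA (l.map (· ^ e)))) ≫ q ≫ ψ₀ = 0 by
        have h0 : f ^ e • ψ₀ = 0 := by
          rw [show e = (e - k) + k by omega, pow_add, mul_smul, hk, smul_zero]
        rw [Linear.smul_comp, Category.id_comp, ← Linear.comp_smul, h0, comp_zero])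
    change kA (f ^ e :: l.map (· ^ e)) ⟶ M⟦n⟧ at ψ
    change q ≫ ψ₀ = inclK (f ^ e) (l.map (· ^ e)) ≫ ψ at hψ
    refine ⟨ψ, ?_⟩
    change unitK (f ^ e :: l.map (· ^ e)) ≫ ψ = φ
    rw [unitK_cons, Category.assoc, ← hψ, ← Category.assoc, hq, hψ₀]

theorem torsH_of_pow {f : A} {e : ℕ} {K : DerivedCategory (ModuleCat.{u} A)} (h : TorsH (f ^ e) K) :
    TorsH f K := fun i x => by
  obtain ⟨k, hk⟩ := h i x
  exact ⟨e * k, by rw [pow_mul]; exact hk⟩

theorem pTors_kA_pow (fs : List A) (e : ℕ) : PTors fs (kA (fs.map (· ^ e))) :=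
  ⟨isPerfect_kA _, fun _ hf => torsH_of_pow (torsH_koszul _ _ (List.mem_map_of_mem hf))⟩

theorem factors_nil (fs : List A) : Factors (PTors fs) (TorsAll fs) (kA ([] : List A)) := fun M hM φ => by
  let s := (shiftFunctorZero (DerivedCategory (ModuleCat.{u} A)) ℤ).app M
  obtain ⟨e₀, he⟩ := exists_factor_unit (M := M) 0 fs (fun f hf i _ _ => hM f hf i) (φ ≫ s.inv)
  obtain ⟨ψ, hψ⟩ := he e₀ le_rfl
  exact ⟨_, unitK _, ψ ≫ s.hom, pTors_kA_pow fs e₀, by
    rw [← Category.assoc, hψ, Category.assoc, Iso.inv_hom_id, Category.comp_id]⟩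

theorem factors_of_isPerfect (fs : List A) {P : DerivedCategory (ModuleCat.{u} A)}
    (hP : DRing.IsPerfect A P) : Factors (PTors fs) (TorsAll fs) P := by
  have hshift : ∀ (n : ℤ) (K : DerivedCategory (ModuleCat.{u} A)),
      Factors (PTors fs) (TorsAll fs) K → Factors (PTors fs) (TorsAll fs) (K⟦n⟧) := fun n K h =>
    h.shift n (fun Q hQ => hQ.shift n) (fun M hM f hf => (hM f hf).shift (-n))
  have hext : ∀ T ∈ distTriang (DerivedCategory (ModuleCat.{u} A)),
      Factors (PTors fs) (TorsAll fs) (T : Triangle _).obj₁ → Factors (PTors fs) (TorsAll fs) T.obj₃ →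
        Factors (PTors fs) (TorsAll fs) T.obj₂ := fun T hT =>
    Factors.ext (fun Q hQ f hf => (hQ.2 f hf).shift 1) (fun T hT => PTors.ext₂ T hT)
      (fun T hT h₁ h₃ f hf => TorsH.ext₂ T hT (h₁ f hf) (h₃ f hf)) T hT
  have hz : ∀ K : DerivedCategory (ModuleCat.{u} A), IsZero K → Factors (PTors fs) (TorsAll fs) K :=
    fun K hK M _ φ => ⟨0, 0, 0, ⟨DRingLib.isPerfect_of_isZero (isZero_zero _),
      fun f _ => TorsH.of_isZero (isZero_zero _)⟩, hK.eq_of_src _ _⟩
  let S := DerivedCategory.singleFunctor (ModuleCat.{u} A) 0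
  have hfree : ∀ k : ℕ, Factors (PTors fs) (TorsAll fs) (S.obj (ModuleCat.of A (Fin k → A))) := by
    intro k
    induction k with
    | zero => exact hz _ (S.map_isZero (ModuleCat.isZero_of_subsingleton _))
    | succ k ih =>
      haveI : PreservesBinaryBiproducts S :=
        haveI : PreservesFiniteBiproducts S := Functor.preservesFiniteBiproductsOfAdditive _
        preservesBinaryBiproducts_of_preservesBiproducts _
      refine Factors.of_iso ((S.mapBiprod (ModuleCat.of A A) (ModuleCat.of A (Fin k → A))).symm ≪≫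
        S.mapIso (ModuleCat.biprodIsoProd _ _ ≪≫
          (Fin.consLinearEquiv A (fun _ : Fin (k + 1) => A)).toModuleIso)) ?_
      exact hext _ (binaryBiproductTriangle_distinguished _ _) ((factors_nil fs).of_iso
        ((DerivedCategory.singleFunctorIsoCompQ (ModuleCat.{u} A) 0).app _).symm) ih
  obtain ⟨E, a, b, hv, hf, ⟨e⟩⟩ := hP
  refine Factors.of_iso e ((show DRingLib.Devissable (Factors (PTors fs) (TorsAll fs)) from
    ⟨fun e h => h.of_iso e, fun {X} h => hz X h, hext⟩).of_terms a (b + 1 - a).toNat E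
    (fun i hi => hv i (by omega)) fun i => ?_)
  haveI := (hf i).1
  haveI := (hf i).2
  obtain ⟨k, f, hsurj⟩ := Module.Finite.exists_fin' A (E.X i)
  obtain ⟨g, hg⟩ := Module.projective_lifting_property f LinearMap.id hsurj
  refine Factors.of_iso (((DerivedCategory.singleFunctors (ModuleCat.{u} A)).shiftIso (-i) i 0 (by omega)).app (E.X i))
    (hshift (-i) _ ((hfree k).of_retract (S.map (ModuleCat.ofHom g)) (S.map (ModuleCat.ofHom f)) ?_))
  rw [← Functor.map_comp, ← ModuleCat.ofHom_comp, hg]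
  exact S.map_id _

end Groth.Agent.KoszOrthLib
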