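import Groth.Agent.KoszOrthLib.Aff

/-!
# Lifting maps out of perfect objects from an open of an affine scheme
-/

set_option autoImplicit false
set_option linter.style.haveILetI false
set_option backward.isDefEq.respectTransparency false
set_option backward.isDefEq.respectTransparency.types false
set_option maxHeartbeats 1000000

universe u

open CategoryTheory CategoryTheory.Limits AlgebraicGeometry CategoryTheory.Pretriangulated

attribute [local instance] HasDerivedCategory.standard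

namespace Groth.Agent.KoszOrthLib

section Module

variable {A : Type u} [CommRing A]

/-- Induction for perfect complexes. -/
theorem perfect_induction {Φ : DerivedCategory (ModuleCat.{u} A) → Prop} (hd : DRingLib.Devissable Φ)
    (hshift : ∀ (n : ℤ) K, Φ K → Φ (K⟦n⟧))
    (hretract : ∀ {K L : DerivedCategory (ModuleCat.{u} A)} (i : K ⟶ L) (r : L ⟶ K),
      i ≫ r = 𝟙 K → Φ L → Φ K)
    (hunit : Φ (kA ([] : List A))) {P : DerivedCategory (ModuleCat.{u} A)} (hP : DRing.IsPerfect A P) :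
    Φ P := by
  let S := DerivedCategory.singleFunctor (ModuleCat.{u} A) 0
  have hfree : ∀ k : ℕ, Φ (S.obj (ModuleCat.of A (Fin k → A))) := by
    intro k
    induction k with
    | zero => exact hd.zero (S.map_isZero (ModuleCat.isZero_of_subsingleton _))
    | succ k ih =>
      haveI : PreservesBinaryBiproducts S :=
        haveI : PreservesFiniteBiproducts S := Functor.preservesFiniteBiproductsOfAdditive _
        preservesBinaryBiproducts_of_preservesBiproducts _
      refine hd.iso ((S.mapBiprod (ModuleCat.of A A) (ModuleCat.of A (Fin k → A))).symm ≪≫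
        S.mapIso (ModuleCat.biprodIsoProd _ _ ≪≫
          (Fin.consLinearEquiv A (fun _ : Fin (k + 1) => A)).toModuleIso)) ?_
      exact hd.ext _ (binaryBiproductTriangle_distinguished _ _)
        (hd.iso ((DerivedCategory.singleFunctorIsoCompQ (ModuleCat.{u} A) 0).app _).symm hunit) ih
  obtain ⟨E, a, b, hv, hf, ⟨e⟩⟩ := hP
  refine hd.iso e (hd.of_terms a (b + 1 - a).toNat E (fun i hi => hv i (by omega)) fun i => ?_)
  haveI := (hf i).1
  haveI := (hf i).2
  obtain ⟨k, f, hsurj⟩ := Module.Finite.exists_fin' A (E.X i)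
  obtain ⟨g, hg⟩ := Module.projective_lifting_property f LinearMap.id hsurj
  refine hd.iso (((DerivedCategory.singleFunctors (ModuleCat.{u} A)).shiftIso (-i) i 0 (by omega)).app (E.X i))
    (hshift (-i) _ (hretract (S.map (ModuleCat.ofHom g)) (S.map (ModuleCat.ofHom f)) ?_ (hfree k)))
  rw [← Functor.map_comp, ← ModuleCat.ofHom_comp, hg]
  exact S.map_id _

/-- Maps from a perfect complex into a torsion complex are killed by a power. -/
theorem exists_pow_smul_eq_zero (f : A) {P : DerivedCategory (ModuleCat.{u} A)} (hP : DRing.IsPerfect A P) :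
    ∀ M, TorsH f M → ∀ φ : P ⟶ M, ∃ k : ℕ, f ^ k • φ = 0 := by
  refine perfect_induction (Φ := fun P => ∀ M, TorsH f M → ∀ φ : P ⟶ M, ∃ k : ℕ, f ^ k • φ = 0)
    ⟨fun {K L} e h M hM φ => ?_, fun {K} hK M _ φ => ⟨0, by rw [hK.eq_of_src φ 0, smul_zero]⟩,
      fun T hT h₁ h₃ M hM φ => ?_⟩ (fun n K h M hM φ => ?_) (fun {K L} i r hir h M hM φ => ?_) ?_ hP
  · obtain ⟨k, hk⟩ := h M hM (e.hom ≫ φ)
    refine ⟨k, ?_⟩
    rwa [← cancel_epi e.hom, comp_zero, Linear.comp_smul]
  · obtain ⟨k₁, hk₁⟩ := h₁ M hM (T.mor₁ ≫ φ)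
    obtain ⟨ψ, hψ⟩ := Triangle.yoneda_exact₂ T hT (f ^ k₁ • φ) (by rw [Linear.comp_smul, hk₁])
    obtain ⟨k₂, hk₂⟩ := h₃ M hM ψ
    exact ⟨k₂ + k₁, by rw [pow_add, mul_smul, hψ, ← Linear.comp_smul, hk₂, comp_zero]⟩
  · let e := (shiftFunctorCompIsoId (DerivedCategory (ModuleCat.{u} A)) (-n) n (by omega)).app M
    obtain ⟨φ₀, hφ₀⟩ := (shiftFunctor (DerivedCategory (ModuleCat.{u} A)) n).map_surjective (φ ≫ e.inv)
    obtain ⟨k, hk⟩ := h _ (hM.shift (-n)) φ₀
    refine ⟨k, ?_⟩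
    rw [← cancel_mono e.inv, zero_comp, Linear.smul_comp, ← hφ₀, ← Functor.map_smul, hk, Functor.map_zero]
  · obtain ⟨k, hk⟩ := h M hM (r ≫ φ)
    refine ⟨k, ?_⟩
    rw [← Category.id_comp (f ^ k • φ), ← hir, Category.assoc, Linear.comp_smul, hk, comp_zero]
  · intro M hM φ
    obtain ⟨k, hk⟩ := tors_koszul f hM [] 0 (φ ≫ ((shiftFunctorZero _ ℤ).app M).inv)
    refine ⟨k, ?_⟩
    rwa [← cancel_mono ((shiftFunctorZero (DerivedCategory (ModuleCat.{u} A)) ℤ).app M).inv, zero_comp,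
      Linear.smul_comp]

theorem exists_factor_cons {f : A} {fs : List A} {P C : DerivedCategory (ModuleCat.{u} A)}
    (hP : DRing.IsPerfect A P) (hPf : TorsH f P) (hC : PTors fs C) (φ : P ⟶ C) :
    ∃ (C' : DerivedCategory (ModuleCat.{u} A)) (a : P ⟶ C') (b : C' ⟶ C),
      PTors (f :: fs) C' ∧ φ = a ≫ b := by
  obtain ⟨k, hk⟩ := exists_pow_smul_eq_zero f hP P hPf (𝟙 P)
  obtain ⟨C', ι, δ, hT⟩ := Pretriangulated.distinguished_cocone_triangle₁ (f ^ k • 𝟙 C)
  obtain ⟨a, ha⟩ := Triangle.coyoneda_exact₂ _ hT φ (by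
    change φ ≫ (f ^ k • 𝟙 C) = 0
    rw [Linear.comp_smul, Category.comp_id, ← Category.id_comp φ, ← Linear.smul_comp, hk, zero_comp])
  refine ⟨C', a, ι, ⟨DRingLib.isPerfect_obj₁ _ hT hC.1 hC.1, fun g hg => ?_⟩, ha⟩
  rcases List.mem_cons.1 hg with rfl | hg
  · intro m y
    let H := fun j => DerivedCategory.homologyFunctor (ModuleCat.{u} A) j
    let T := Triangle.mk ι (g ^ k • 𝟙 C) δ
    let d := DerivedCategory.HomologySequence.δ T (m - 1) m (by omega)
    have hex := DerivedCategory.HomologySequence.exact₁ T hT (m - 1) m (by omega)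
    rw [ShortComplex.moduleCat_exact_iff] at hex
    obtain ⟨x, hx⟩ := hex (g ^ k • y) (by
      change ((H m).map ι).hom (g ^ k • y) = 0
      rw [map_smul, ← map_smul_id_apply (g ^ k) C m]
      have h0 : (H m).map ι ≫ (H m).map (g ^ k • 𝟙 C) = 0 := ((H m).map_comp _ _).symm.trans
        ((congrArg (H m).map (comp_distTriang_mor_zero₁₂ _ hT)).trans (map_zero_H m))
      exact congrArg (fun φ => φ.hom y) h0)
    change d.hom x = g ^ k • y at hx
    refine ⟨k + k, ?_⟩
    rw [pow_add, mul_smul, ← hx]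
    have h1 : d.hom (g ^ k • x) = 0 := (congrArg d.hom (map_smul_id_apply (g ^ k) C (m - 1) x)).symm.trans
      (congrArg (fun φ => φ.hom x) (DerivedCategory.HomologySequence.comp_δ T hT (m - 1) m (by omega)))
    exact (d.hom.map_smul (g ^ k) x).symm.trans h1
  · exact TorsH.ext₂ _ (inv_rot_of_distTriang _ hT) ((hC.2 g hg).shift (-1)) (hC.2 g hg)

/-- A map from a torsion perfect complex refines the torsion of its target. -/
theorem exists_factor_append : ∀ (fsT : List A) {fs : List A} {P C : DerivedCategory (ModuleCat.{u} A)},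
    DRing.IsPerfect A P → TorsAll fsT P → PTors fs C → ∀ φ : P ⟶ C,
      ∃ (C' : DerivedCategory (ModuleCat.{u} A)) (a : P ⟶ C') (b : C' ⟶ C),
        PTors (fsT ++ fs) C' ∧ φ = a ≫ b
  | [], _, _, C, _, _, hC, φ => ⟨C, φ, 𝟙 C, hC, (Category.comp_id φ).symm⟩
  | f :: fsT, fs, P, C, hP, hPT, hC, φ => by
    obtain ⟨C₁, a₁, b₁, hC₁, h₁⟩ :=
      exists_factor_append fsT hP (fun g hg => hPT g (List.mem_cons_of_mem f hg)) hC φ
    obtain ⟨C₂, a₂, b₂, hC₂, h₂⟩ := exists_factor_cons hP (hPT f List.mem_cons_self) hC₁ a₁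
    exact ⟨C₂, a₂, b₂ ≫ b₁, hC₂, by rw [h₁, h₂, Category.assoc]⟩

end Module

variable {X : Scheme.{u}} [IsAffine X]

theorem isZero_restrictD_tX_iff (U : X.Opens) [PreservesFiniteLimits (Scheme.Modules.restrictFunctor U.ι)]
    {fs : List (AX X)} (hfs : (U : Set X)ᶜ = X.zeroLocus (U := ⊤) {a : Γ(X, ⊤) | a ∈ fs})
    (C : DerivedCategory (ModuleCat.{u} (AX X))) :
    IsZero ((DCoh.restrictD U.ι).obj ((tX X).obj C)) ↔ TorsAll fs C := by
  rw [torsAll_iff_support, DCohRestrLib.isZero_restrictD_iff, ← hfs]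
  exact ⟨fun h i x hx hxU => h i x hxU hx, fun h i x hxU hx => h i hx hxU⟩

/-- Maps on an open lift after changing the perfect source away from the open. -/
theorem exists_lift_open (U : X.Opens) (hU : IsCompact (U : Set X))
    [PreservesFiniteLimits (Scheme.Modules.restrictFunctor U.ι)] (fsT : List (AX X))
    {P : DerivedCategory (ModuleCat.{u} (AX X))} (hP : PTors fsT P) {Q : DCoh.D X} (hQ : DCoh.IsQCohD Q)
    (α : (DCoh.restrictD U.ι).obj ((tX X).obj P) ⟶ (DCoh.restrictD U.ι).obj Q) :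
    ∃ (P₁ : DerivedCategory (ModuleCat.{u} (AX X))) (q : P₁ ⟶ P) (γ : (tX X).obj P₁ ⟶ Q),
      PTors fsT P₁ ∧ IsIso ((DCoh.restrictD U.ι).map ((tX X).map q)) ∧
        (DCoh.restrictD U.ι).map ((tX X).map q) ≫ α = (DCoh.restrictD U.ι).map γ := by
  let j := U.ι
  haveI := DCohRestrLib.hasRpush j
  haveI : QuasiCompact j := by
    haveI : CompactSpace (U : Scheme.{u}) := isCompact_iff_compactSpace.mp hU
    exact quasiCompact_of_compactSpace _
  let adj := restrictRpushAdj j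
  obtain ⟨fs, hfs⟩ := exists_list_zeroLocus (T := (U : Set X)ᶜ) U.2.isClosed_compl (by rwa [compl_compl])
  obtain ⟨L, ι, d, hT⟩ := Pretriangulated.distinguished_cocone_triangle₁ (adj.unit.app Q)
  have hLq : DCoh.IsQCohD L := KFlatLib.isQCohD₂ (inv_rot_of_distTriang _ hT)
    (KFlatLib.isQCohD_shift (QRlimLib.isQCohD_rpush j (isQCohD_restrictD j hQ)) (-1)) hQ
  obtain ⟨M, ⟨eM⟩⟩ := exists_tX_iso hLq
  have hM : TorsAll fs M := by
    haveI := isIso_restrictD_unit j adj Q
    refine (isZero_restrictD_tX_iff U hfs M).1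
      (IsZero.of_iso ?_ ((DCoh.restrictD j).mapIso eM))
    exact (((DCoh.restrictD j).mapTriangle.obj (Triangle.mk ι (adj.unit.app Q) d)).isZero₁_iff_isIso₂
      ((DCoh.restrictD j).map_distinguished _ hT)).2 ‹_›
  let c : L⟦(1 : ℤ)⟧ ≅ (tX X).obj (M⟦(1 : ℤ)⟧) :=
    (shiftFunctor _ (1 : ℤ)).mapIso eM.symm ≪≫ (((tX X).commShiftIso (1 : ℤ)).app M).symm
  obtain ⟨o, ho⟩ := (tX X).map_surjective (adj.homEquiv _ _ α ≫ d ≫ c.hom)
  obtain ⟨C₀, a₀, b₀, hC₀, hab⟩ := factors_of_isPerfect fs hP.1 _ (fun f hf => (hM f hf).shift 1) o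
  obtain ⟨C, a, b, hC, ha⟩ := exists_factor_append fsT hP.1 hP.2 hC₀ a₀
  obtain ⟨P₁, q, δ, hq⟩ := Pretriangulated.distinguished_cocone_triangle₁ a
  have h0 : q ≫ o = 0 := by
    rw [hab, ha, Category.assoc, ← Category.assoc, show q ≫ a = 0 from comp_distTriang_mor_zero₁₂ _ hq,
      zero_comp]
  obtain ⟨γ, hγ⟩ := Triangle.coyoneda_exact₃ _ hT ((tX X).map q ≫ adj.homEquiv _ _ α) (by
    change ((tX X).map q ≫ adj.homEquiv _ _ α) ≫ d = 0
    rw [← cancel_mono c.hom, zero_comp, Category.assoc, Category.assoc, ← ho, ← Functor.map_comp, h0,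
      Functor.map_zero])
  change (tX X).obj P₁ ⟶ Q at γ
  change (tX X).map q ≫ adj.homEquiv _ _ α = γ ≫ adj.unit.app Q at hγ
  refine ⟨P₁, q, γ, ⟨DRingLib.isPerfect_obj₁ _ hq hP.1 hC.1, fun f hf => ?_⟩, ?_, ?_⟩
  · exact TorsH.ext₂ _ (inv_rot_of_distTriang _ hq)
      ((hC.2 f (List.mem_append_left _ hf)).shift (-1)) (hP.2 f hf)
  · have hz : IsZero ((DCoh.restrictD j).obj ((tX X).obj C)) :=
      (isZero_restrictD_tX_iff U hfs C).2 fun f hf => hC.2 f (List.mem_append_right _ hf)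
    exact (((tX X ⋙ DCoh.restrictD j).mapTriangle.obj (Triangle.mk q a δ)).isZero₃_iff_isIso₁
      ((tX X ⋙ DCoh.restrictD j).map_distinguished _ hq)).1 hz
  · apply (adj.homEquiv _ _).injective
    rw [adj.homEquiv_naturality_left, hγ, ← Category.comp_id ((DCoh.restrictD U.ι).map γ),
      adj.homEquiv_naturality_left, adj.homEquiv_id]

end Groth.Agent.KoszOrthLib
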