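import Groth.Agent.KoszOrthLib.Compact
import Groth.Agent.QCohLib.QcqsSections
import Groth.Agent.FreeResLib.Colimit
import Groth.Prelude.Def_KLin
import Mathlib.Algebra.Homology.DerivedCategory.Linear
import Mathlib.Algebra.Category.Grp.Limits
import Mathlib.GroupTheory.QuotientGroup.Basic

/-!
# Maps out of perfect objects into objects supported on `V(a)` are killed by a power of `a`
-/

set_option autoImplicit false
set_option linter.style.haveILetI false
set_option backward.isDefEq.respectTransparency false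
set_option backward.isDefEq.respectTransparency.types false
set_option maxHeartbeats 1000000

universe u

open CategoryTheory CategoryTheory.Limits AlgebraicGeometry CategoryTheory.Pretriangulated TopologicalSpace Opposite
open PerfCompLib (FinFac cut proj)

attribute [local instance] HasDerivedCategory.standard

namespace Groth.Agent.KoszOrthLib

/-- `1 - shift ∘ g` on `⊕_ℕ G` is bijective for a locally nilpotent `g`. -/
theorem bijective_telescope {G : AddCommGrpCat.{u}} (g : G ⟶ G) (hg : ∀ x : G, ∃ k : ℕ, g^[k] x = 0)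
    (c : Cofan fun _ : ULift.{u} ℕ => G) (hc : IsColimit c) (f : c.pt ⟶ c.pt)
    (hf : ∀ n : ℕ, c.inj ⟨n⟩ ≫ f = c.inj ⟨n⟩ - g ≫ c.inj ⟨n + 1⟩) : Function.Bijective f := by
  classical
  have gen : ∀ H : AddSubgroup c.pt, (∀ i x, c.inj i x ∈ H) → ∀ y, y ∈ H := by
    intro H hH y
    let q : c.pt ⟶ AddCommGrpCat.of (c.pt ⧸ H) := AddCommGrpCat.ofHom (QuotientAddGroup.mk' H)
    have hq : q = 0 := Cofan.IsColimit.hom_ext hc _ _ fun i => by
      ext x
      exact (QuotientAddGroup.eq_zero_iff _).2 (hH i x)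
    exact (QuotientAddGroup.eq_zero_iff _).1 (DFunLike.congr_fun (congrArg (fun φ => φ.hom) hq) y)
  let π : ULift.{u} ℕ → (c.pt ⟶ G) := fun k => Cofan.IsColimit.desc hc fun j => if j = k then 𝟙 G else 0
  have hπ : ∀ j k, c.inj j ≫ π k = if j = k then 𝟙 G else 0 := fun j k => Cofan.IsColimit.fac hc _ j
  have hπ0 : f ≫ π ⟨0⟩ = π ⟨0⟩ := Cofan.IsColimit.hom_ext hc _ _ fun ⟨n⟩ => by
    rw [← Category.assoc, hf, Preadditive.sub_comp, Category.assoc, hπ, hπ, if_neg (by simp : (⟨n + 1⟩ : ULift.{u} ℕ) ≠ ⟨0⟩),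
      comp_zero, sub_zero]
  have hπs : ∀ m, f ≫ π ⟨m + 1⟩ = π ⟨m + 1⟩ - π ⟨m⟩ ≫ g := fun m =>
    Cofan.IsColimit.hom_ext hc _ _ fun ⟨n⟩ => by
      rw [← Category.assoc, hf, Preadditive.sub_comp, Preadditive.comp_sub, Category.assoc,
        ← Category.assoc _ (π ⟨m⟩), hπ, hπ, hπ]
      rcases eq_or_ne n m with rfl | h
      · simp
      · simp [h]
  refine ⟨(injective_iff_map_eq_zero f.hom).2 fun y hy => ?_, fun y => ?_⟩
  · have hz : ∀ m : ℕ, π ⟨m⟩ y = 0 := by
      intro m
      induction m with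
      | zero =>
        rw [← hπ0]
        change π ⟨0⟩ (f.hom y) = 0
        rw [hy, map_zero]
      | succ m ih =>
        have h1 : π ⟨m + 1⟩ (f.hom y) = π ⟨m + 1⟩ y - g (π ⟨m⟩ y) :=
          DFunLike.congr_fun (congrArg (fun φ => φ.hom) (hπs m)) y
        rw [hy, map_zero, ih, map_zero, sub_zero] at h1
        exact h1.symm
    let H : AddSubgroup c.pt :=
      { carrier := {y | ∃ S : Finset (ULift.{u} ℕ), y = ∑ k ∈ S, c.inj k (π k y) ∧ ∀ k, k ∉ S → π k y = 0}
        zero_mem' := ⟨∅, by simp, fun k _ => map_zero _⟩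
        add_mem' := by
          rintro a b ⟨S, hS, hS'⟩ ⟨T, hT, hT'⟩
          refine ⟨S ∪ T, ?_, fun k hk => ?_⟩
          · simp only [map_add, Finset.sum_add_distrib]
            rw [← Finset.sum_subset Finset.subset_union_left (fun k _ hk => by rw [hS' k hk, map_zero]),
              ← Finset.sum_subset Finset.subset_union_right (fun k _ hk => by rw [hT' k hk, map_zero]),
              ← hS, ← hT]
          · simp only [Finset.mem_union, not_or] at hk
            rw [map_add, hS' k hk.1, hT' k hk.2, add_zero]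
        neg_mem' := by
          rintro a ⟨S, hS, hS'⟩
          refine ⟨S, ?_, fun k hk => by rw [map_neg, hS' k hk, neg_zero]⟩
          simp only [map_neg, Finset.sum_neg_distrib, ← hS] }
    obtain ⟨S, hS, -⟩ : y ∈ H := gen H (fun i x => ⟨{i}, by
      have h1 : π i (c.inj i x) = x := by
        have := DFunLike.congr_fun (congrArg (fun φ => φ.hom) (hπ i i)) x
        simpa using this
      rw [Finset.sum_singleton, h1], fun k hk => by
      have := DFunLike.congr_fun (congrArg (fun φ => φ.hom) (hπ i k)) x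
      rw [if_neg fun h => hk (Finset.mem_singleton.2 h.symm)] at this
      simpa using this⟩) y
    rw [hS]
    exact Finset.sum_eq_zero fun k _ => by rw [hz k.down, map_zero]
  · refine gen f.hom.range (fun i x => ?_) y
    obtain ⟨k, hk⟩ := hg x
    induction k generalizing i x with
    | zero =>
      rw [Function.iterate_zero, id_eq] at hk
      rw [hk, map_zero]
      exact zero_mem _
    | succ k ih =>
      rw [Function.iterate_succ, Function.comp_apply] at hk
      obtain ⟨n⟩ := i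
      have h1 : f.hom (c.inj ⟨n⟩ x) = c.inj ⟨n⟩ x - c.inj ⟨n + 1⟩ (g x) :=
        DFunLike.congr_fun (congrArg (fun φ => φ.hom) (hf n)) x
      rw [show c.inj ⟨n⟩ x = f.hom (c.inj ⟨n⟩ x) + c.inj ⟨n + 1⟩ (g x) by rw [h1, sub_add_cancel]]
      exact add_mem ⟨_, rfl⟩ (ih ⟨n + 1⟩ (g x) hk)

variable {A : Type u} [CommRing A] {X : Scheme.{u}} [X.Over (Spec (CommRingCat.of A))]

/-- A scalar is locally nilpotent on the stalks of a quasi-coherent module supported on its zero locus. -/
theorem exists_iterate_stalk_eq_zero (M : X.Modules) [Coh.IsQCoh M] (a : A)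
    (hM : CohB1.support M ⊆ (X.zeroLocus (U := ⊤) {Coh.toGlobal (X ↘ Spec (CommRingCat.of A)) a} : Set X))
    (x : X) (m : M.presheaf.stalk x) :
    ∃ k : ℕ, ((TopCat.Presheaf.stalkFunctor Ab.{u} (x : X.toTopCat)).map
      ((Scheme.Modules.toPresheaf X).map (a • 𝟙 M)))^[k] m = 0 := by
  let r : Γ(X, ⊤) := Coh.toGlobal (X ↘ Spec (CommRingCat.of A)) a
  obtain ⟨U, hU, hxU, -⟩ := Opens.isBasis_iff_nbhd.mp X.isBasis_affineOpens (U := ⊤) (x := x) trivial
  obtain ⟨W, hxW, s, rfl⟩ := TopCat.Presheaf.germ_exist M.presheaf m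
  obtain ⟨V, hV, hxV, hVW⟩ := Opens.isBasis_iff_nbhd.mp X.isBasis_affineOpens (U := W) (x := x) hxW
  let t : Γ(M, V) := M.presheaf.map (homOfLE hVW).op s
  have ht : M.presheaf.map (homOfLE (inf_le_left : V ⊓ X.basicOpen r ≤ V)).op t = 0 := by
    refine TopCat.Presheaf.section_ext ((Scheme.Modules.toPresheaf X).obj M |> fun _ =>
      ((SheafOfModules.toSheaf _).obj M)) _ _ _ fun y hy => ?_
    have hys : Subsingleton (M.presheaf.stalk y) := not_not.1 fun h => by
      have := hM h
      rw [Scheme.zeroLocus_singleton] at this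
      exact this hy.2
    exact @Subsingleton.elim _ hys _ _
  obtain ⟨k, hk⟩ := QCohLib.exists_pow_smul_eq_zero r V hV.isCompact le_top t ht
  refine ⟨k, ?_⟩
  have hiter : ∀ (j : ℕ) (w : Γ(M, V)), ((TopCat.Presheaf.stalkFunctor Ab.{u} (x : X.toTopCat)).map
      ((Scheme.Modules.toPresheaf X).map (a • 𝟙 M)))^[j] (M.presheaf.germ V x hxV w) =
        M.presheaf.germ V x hxV ((X.presheaf.map (homOfLE (le_top : V ≤ ⊤)).op r) ^ j • w) := by
    intro j
    induction j with
    | zero => intro w; simp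
    | succ j ih =>
      intro w
      rw [Function.iterate_succ, Function.comp_apply]
      have h1 : (TopCat.Presheaf.stalkFunctor Ab.{u} (x : X.toTopCat)).map
          ((Scheme.Modules.toPresheaf X).map (a • 𝟙 M)) (M.presheaf.germ V x hxV w) =
            M.presheaf.germ V x hxV ((a • 𝟙 M).app V w) :=
        TopCat.Presheaf.stalkFunctor_map_germ_apply (F := M.presheaf) (G := M.presheaf) V x hxV _ w
      rw [h1, KLin.smul_app_apply, Scheme.Modules.Hom.id_app, ih]
      rw [pow_succ, mul_smul]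
      rfl
  have hs : M.presheaf.germ W x hxW s = M.presheaf.germ V x hxV t :=
    (TopCat.Presheaf.germ_res_apply M.presheaf (homOfLE hVW) x hxV s).symm
  rw [hs, hiter, hk, map_zero]

/-- The telescope of a locally nilpotent scalar is invertible in the derived category. -/
theorem isIso_telescope (P : CochainComplex X.Modules ℤ) (a : A)
    (hq : ∀ i, Coh.IsQCoh (P.homology i))
    (hP : ∀ i, CohB1.support (P.homology i) ⊆
      (X.zeroLocus (U := ⊤) {Coh.toGlobal (X ↘ Spec (CommRingCat.of A)) a} : Set X)) :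
    IsIso (DerivedCategory.Q.map (𝟙 (∐ fun _ : ULift.{u} ℕ => P) -
      Sigma.desc fun i => (a • 𝟙 P) ≫ Sigma.ι (fun _ : ULift.{u} ℕ => P) ⟨i.down + 1⟩)) := by
  let Y := fun _ : ULift.{u} ℕ => P
  let φ := 𝟙 (∐ Y) - Sigma.desc fun i => (a • 𝟙 P) ≫ Sigma.ι Y ⟨i.down + 1⟩
  haveI : QuasiIso φ := ⟨fun i => by
    rw [quasiIsoAt_iff_isIso_homologyMap]
    refine FiltSectLib.isIso_of_stalks _ fun x => ?_
    let S : X.Modules ⥤ AddCommGrpCat.{u} := QCohLib.toAbF X ⋙
      (TopCat.Sheaf.forget AddCommGrpCat.{u} X.toTopCat ⋙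
        TopCat.Presheaf.stalkFunctor AddCommGrpCat.{u} (x : X.toTopCat))
    haveI : PreservesColimitsOfSize.{u, u} (QCohLib.toAbF X) := QCohLib.preservesColimitsOfSize_toAbF (X := X)
    let H := HomologicalComplex.homologyFunctor X.Modules (ComplexShape.up ℤ) i ⋙ S
    haveI : HasFiniteBiproducts X.Modules := Abelian.hasFiniteBiproducts
    haveI : AB4OfSize.{u} X.Modules := AB4.of_AB5 X.Modules
    have hcol : IsColimit (Cofan.mk (H.obj (∐ Y)) fun j => H.map (Sigma.ι Y j)) :=
      isColimitMapCoconeCofanMkEquiv H Y _ (isColimitOfPreserves S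
        (Groth.Agent.FreeResLib.isColimitHomology _ (coproductIsCoproduct Y) i))
    have hsm : ∀ {E F : CochainComplex X.Modules ℤ} (f : E ⟶ F),
        HomologicalComplex.homologyMap (a • f) i = a • HomologicalComplex.homologyMap f i := fun f => by
      let F' := HomologicalComplex.shortComplexFunctor X.Modules (ComplexShape.up ℤ) i
      have h0 : F'.map (a • f) = a • F'.map f := by ext <;> rfl
      change ShortComplex.homologyMap (F'.map (a • f)) = a • ShortComplex.homologyMap (F'.map f)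
      rw [h0]
      erw [ShortComplex.homologyMap_smul]
    haveI : PreservesColimitsOfSize.{0, 0} S := preservesColimitsOfSize_shrink.{0, u, 0, u} _
    haveI : PreservesBinaryBiproducts S := preservesBinaryBiproducts_of_preservesBinaryCoproducts _
    haveI : S.Additive := Functor.additive_of_preservesBinaryBiproducts _
    haveI : H.Additive := inferInstanceAs (Functor.Additive (_ ⋙ S))
    have hg : H.map (a • 𝟙 P) = S.map (a • 𝟙 (P.homology i)) := by
      change S.map (HomologicalComplex.homologyMap (a • 𝟙 P) i) = _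
      rw [hsm, HomologicalComplex.homologyMap_id]
    have hb := bijective_telescope (G := H.obj P) (H.map (a • 𝟙 P))
      (fun m => by
        rw [hg]
        haveI := hq i
        exact exists_iterate_stalk_eq_zero (P.homology i) a (hP i) x m) _ hcol (H.map φ) fun n => by
        change H.map (Sigma.ι Y ⟨n⟩) ≫ H.map φ = H.map (Sigma.ι Y ⟨n⟩) - H.map (a • 𝟙 P) ≫ H.map (Sigma.ι Y ⟨n + 1⟩)
        rw [← H.map_comp, ← H.map_comp, ← Functor.map_sub, Preadditive.comp_sub, Category.comp_id,
          Sigma.ι_desc]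
    exact (ConcreteCategory.isIso_iff_bijective _).2 hb⟩
  infer_instance

/-- A power of `a` kills maps from a perfect object to an object supported on `V(a)`. -/
theorem exists_pow_smul_hom_eq_zero [CompactSpace ↥X] [QuasiSeparatedSpace ↥X] (a : A) {E E' : DCoh.D X}
    (hE : DCoh.IsPerfect E) (hq : DCoh.IsQCohD E')
    (hsupp : ∀ i : ℤ, CohB1.support (DCoh.HD E' i) ⊆
      (X.zeroLocus (U := ⊤) {Coh.toGlobal (X ↘ Spec (CommRingCat.of A)) a} : Set X))
    (α : E ⟶ E') : ∃ n : ℕ, (a ^ n) • α = 0 := by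
  classical
  haveI := hasCoproducts_D X
  let P := DerivedCategory.Q.objPreimage E'
  let e : DerivedCategory.Q.obj P ≅ E' := DerivedCategory.Q.objObjPreimageIso E'
  let eH : ∀ i, DCoh.HD E' i ≅ P.homology i := fun i =>
    (DerivedCategory.homologyFunctor X.Modules i).mapIso e.symm ≪≫
      (DerivedCategory.homologyFunctorFactors X.Modules i).app P
  let Y := fun _ : ULift.{u} ℕ => P
  let φ := 𝟙 (∐ Y) - Sigma.desc fun i => (a • 𝟙 P) ≫ Sigma.ι Y ⟨i.down + 1⟩
  haveI : IsIso (DerivedCategory.Q.map φ) := isIso_telescope P a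
    (fun i => @QCohLib.isQCoh_of_iso _ _ _ (eH i) (hq i))
    (fun i x hx => hsupp i fun h => hx ((DCohRestrLib.subsingleton_stalk_of_iso (eH i) x).1 h))
  let M := fun _ : ULift.{u} ℕ => DerivedCategory.Q.obj P
  let c := (KFlatLib.isColimit_Q_sigma Y).some.coconePointUniqueUpToIso (coproductIsCoproduct M)
  have hc : ∀ j, DerivedCategory.Q.map (Sigma.ι Y j) ≫ c.hom = Sigma.ι M j := fun j =>
    IsColimit.comp_coconePointUniqueUpToIso_hom (KFlatLib.isColimit_Q_sigma Y).some
      (coproductIsCoproduct M) (Discrete.mk j)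
  let α' : E ⟶ DerivedCategory.Q.obj P := α ≫ e.inv
  let z : E ⟶ ∐ M := α' ≫ DerivedCategory.Q.map (Sigma.ι Y ⟨0⟩) ≫ inv (DerivedCategory.Q.map φ) ≫ c.hom
  have hQP : DCoh.IsQCohD (DerivedCategory.Q.obj P) := fun i =>
    @QCohLib.isQCoh_of_iso _ _ _ ((DerivedCategory.homologyFunctor X.Modules i).mapIso e.symm) (hq i)
  obtain ⟨S, hS⟩ := finFac_of_isQCohD hE M (fun _ => hQP) z
  let ψ : DerivedCategory.Q.obj P ⟶ DerivedCategory.Q.obj P := a • 𝟙 _
  let σ : ∐ M ⟶ ∐ M := Sigma.desc fun i => ψ ≫ Sigma.ι M ⟨i.down + 1⟩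
  have hφ : c.hom ≫ (𝟙 _ - σ) = DerivedCategory.Q.map φ ≫ c.hom := by
    refine Cofan.IsColimit.hom_ext (KFlatLib.isColimit_Q_sigma Y).some _ _ fun j => ?_
    change DerivedCategory.Q.map (Sigma.ι Y j) ≫ _ = DerivedCategory.Q.map (Sigma.ι Y j) ≫ _
    rw [← Category.assoc, hc, ← Category.assoc, ← Functor.map_comp]
    have hψ : ψ = DerivedCategory.Q.map (a • 𝟙 P) := by
      rw [Functor.map_smul, CategoryTheory.Functor.map_id]
    simp only [φ, σ, Preadditive.comp_sub, Category.comp_id, Sigma.ι_desc, Functor.map_sub,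
      Functor.map_comp, Preadditive.sub_comp, Category.assoc, hc, hψ]
    erw [Category.comp_id]
  have hz : z ≫ (𝟙 _ - σ) = α' ≫ Sigma.ι M ⟨0⟩ := by
    simp only [z, Category.assoc, hφ, IsIso.inv_hom_id_assoc, hc]
  have hσ₀ : σ ≫ proj M ⟨0⟩ = 0 := Sigma.hom_ext _ _ fun i => by
    rw [comp_zero, Sigma.ι_desc_assoc, Category.assoc]
    simp [proj]
  have hσ : ∀ m, σ ≫ proj M ⟨m + 1⟩ = proj M ⟨m⟩ ≫ ψ := fun m => Sigma.hom_ext _ _ fun i => by
    obtain ⟨n⟩ := i
    rw [Sigma.ι_desc_assoc]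
    rcases eq_or_ne n m with rfl | h
    · simp [proj, M]
    · simp [proj, h]
  have hp : ∀ m : ℕ, z ≫ proj M ⟨m⟩ = a ^ m • α' := by
    intro m
    induction m with
    | zero =>
      have h := congrArg (· ≫ proj M ⟨0⟩) hz
      simp only [Category.assoc, Preadditive.sub_comp, Category.id_comp, hσ₀, sub_zero] at h
      rw [h, pow_zero, one_smul]
      simp [proj, M]
    | succ m ih =>
      have h := congrArg (· ≫ proj M ⟨m + 1⟩) hz
      simp only [Category.assoc, Preadditive.sub_comp, Category.id_comp, hσ, Preadditive.comp_sub] at h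
      have h0 : Sigma.ι M ⟨0⟩ ≫ proj M ⟨m + 1⟩ = 0 := by simp [proj]
      rw [h0, comp_zero, ← Category.assoc z (proj M ⟨m⟩), ih, sub_eq_zero] at h
      rw [h]
      simp only [ψ, Linear.comp_smul, pow_succ']
      erw [Category.comp_id]
      rw [smul_smul]
  obtain ⟨n, hn⟩ : ∃ n : ℕ, (⟨n⟩ : ULift.{u} ℕ) ∉ S :=
    ⟨S.sup ULift.down + 1, fun h => by
      have h' : S.sup ULift.down + 1 ≤ S.sup ULift.down := Finset.le_sup (s := S) (f := ULift.down) h
      omega⟩
  have h0 : cut M S ≫ proj M ⟨n⟩ = 0 := Sigma.hom_ext _ _ fun i => by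
    rw [← Category.assoc, PerfCompLib.ι_cut, comp_zero]
    split_ifs with hi
    · have hne : i ≠ ⟨n⟩ := fun e => hn (e ▸ hi)
      simp [proj, hne]
    · rw [zero_comp]
  refine ⟨n, (cancel_mono e.inv).1 ?_⟩
  rw [Linear.smul_comp, zero_comp, ← hp n, ← hS, Category.assoc, h0, comp_zero]

end Groth.Agent.KoszOrthLib
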