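import Groth.Agent.KoszOrthLib.Sum
import Groth.Agent.KoszOrthLib.Approx

/-!
# `F ⊕ F[2k+1]` extends, and the cone criterion for approximations
-/

set_option autoImplicit false
set_option linter.style.haveILetI false
set_option backward.isDefEq.respectTransparency false
set_option backward.isDefEq.respectTransparency.types false
set_option maxHeartbeats 1000000

universe u v w

open CategoryTheory CategoryTheory.Limits AlgebraicGeometry CategoryTheory.Pretriangulated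

attribute [local instance] HasDerivedCategory.standard

namespace Groth.Agent.KoszOrthLib

section Abstract

variable {D : Type w} [Category.{v} D] [HasZeroObject D] [HasShift D ℤ] [Preadditive D]
  [∀ n : ℤ, (shiftFunctor D n).Additive] [Pretriangulated D] [IsTriangulated D] [HasBinaryBiproducts D]

/-- The cone of the map matching a common summand. -/
theorem nonempty_cone_match {A B C Z : D} (u : C ⊞ A ⟶ Z) (v : Z ⟶ (A ⊞ B)⟦(1 : ℤ)⟧)
    (hT : Triangle.mk (biprod.fst ≫ biprod.inr : A ⊞ B ⟶ C ⊞ A) u v ∈ distTriang D) :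
    Nonempty (Z ≅ C ⊞ B⟦(1 : ℤ)⟧) := by
  have hsw : ∀ P Q : D, (biprod.inr : Q ⟶ P ⊞ Q) ≫ (biprod.braiding P Q).hom = biprod.inl := fun P Q => by
    apply biprod.hom_ext
    · rw [Category.assoc, biprod.braiding_hom, biprod.inl_fst]
      erw [biprod.lift_fst, biprod.inr_snd]
    · rw [Category.assoc, biprod.braiding_hom, biprod.inl_snd]
      erw [biprod.lift_snd, biprod.inr_fst]
  have hfs : ∀ P Q : D, (biprod.fst : P ⊞ Q ⟶ P) = (biprod.braiding P Q).hom ≫ biprod.snd := fun P Q => by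
    rw [biprod.braiding_hom]
    exact (biprod.lift_snd _ _).symm
  have h₁₂ : Triangle.mk (biprod.fst : A ⊞ B ⟶ A) (0 : A ⟶ B⟦(1 : ℤ)⟧)
      (-(biprod.inr : B ⟶ A ⊞ B)⟦(1 : ℤ)⟧') ∈ distTriang D := by
    refine isomorphic_distinguished _ (rot_of_distTriang _ (binaryBiproductTriangle_distinguished B A)) _
      (Triangle.isoMk _ _ (biprod.braiding A B) (Iso.refl _) (Iso.refl _)
        ((Category.comp_id _).trans (hfs A B)) ((Category.comp_id _).trans (Category.id_comp _).symm) ?_)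
    change (-(biprod.inr : B ⟶ A ⊞ B)⟦(1 : ℤ)⟧') ≫ (biprod.braiding A B).hom⟦(1 : ℤ)⟧' =
      𝟙 _ ≫ (-(biprod.inl : B ⟶ B ⊞ A)⟦(1 : ℤ)⟧')
    rw [Category.id_comp, Preadditive.neg_comp, ← Functor.map_comp, hsw A B]
  have h₂₃ : Triangle.mk (biprod.inr : A ⟶ C ⊞ A) (biprod.fst : C ⊞ A ⟶ C) (0 : C ⟶ A⟦(1 : ℤ)⟧) ∈ distTriang D :=
    isomorphic_distinguished _ (binaryBiproductTriangle_distinguished A C) _
      (Triangle.isoMk _ _ (Iso.refl _) (biprod.braiding C A) (Iso.refl _)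
        ((hsw C A).trans (Category.id_comp _).symm) ((Category.comp_id _).trans (hfs C A))
        (by
          change (0 : C ⟶ A⟦(1 : ℤ)⟧) ≫ _ = _ ≫ (0 : C ⟶ A⟦(1 : ℤ)⟧)
          rw [zero_comp, comp_zero]))
  let o := Triangulated.someOctahedron
    (rfl : (biprod.fst : A ⊞ B ⟶ A) ≫ (biprod.inr : A ⟶ C ⊞ A) = _) h₁₂ h₂₃ hT
  obtain ⟨e, -, -⟩ := exists_iso_binaryBiproduct_of_distTriang _ o.mem (by
    change (0 : C ⟶ A⟦(1 : ℤ)⟧) ≫ _ = 0
    rw [zero_comp])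
  exact ⟨e ≪≫ biprod.braiding _ _⟩

end Abstract

variable {X : Scheme.{u}} [IsAffine X]

/-- `F ⊕ F[2k+1]` is the restriction of a torsion perfect object. -/
theorem exists_extend_sum_shift (U : X.Opens) (hU : IsCompact (U : Set X)) {T : Set X} (hT : IsClosed T)
    {fsT : List (AX X)} (hfsT : T = X.zeroLocus (U := ⊤) {a : Γ(X, ⊤) | a ∈ fsT})
    (F : DCoh.D (U : Scheme.{u})) (hF : DCoh.IsPerfect F)
    (hFT : ∀ i : ℤ, CohB1.support (DCoh.HD F i) ⊆ {x : ↥(U : Scheme.{u}) | U.ι.base x ∈ T}) :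
    ∀ k : ℕ, ∃ G : DerivedCategory (ModuleCat.{u} (AX X)), PTors fsT G ∧
      Nonempty ((DCoh.restrictD U.ι).obj ((tX X).obj G) ≅ F ⊞ F⟦(2 * k + 1 : ℤ)⟧) := by
  obtain ⟨G₀, i, r, hG₀, hir⟩ := exists_retract U hU hT hfsT F hF hFT
  obtain ⟨Z, b, c, hZ⟩ := Pretriangulated.distinguished_cocone_triangle
    (𝟙 ((DCoh.restrictD U.ι).obj ((tX X).obj G₀)) - r ≫ i)
  obtain ⟨e⟩ := nonempty_cone_idem i r hir b c hZ
  obtain ⟨G₁, hG₁, ⟨e'⟩⟩ := exists_res_cone U hU hG₀ hG₀ _ b c hZ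
  intro k
  induction k with
  | zero => exact ⟨G₁, hG₁, ⟨e' ≪≫ e⟩⟩
  | succ k ih =>
    obtain ⟨G, hG, ⟨eG⟩⟩ := ih
    haveI : PreservesBinaryBiproducts (shiftFunctor (DCoh.D (U : Scheme.{u})) (1 : ℤ)) :=
      haveI : PreservesFiniteBiproducts (shiftFunctor (DCoh.D (U : Scheme.{u})) (1 : ℤ)) :=
        Functor.preservesFiniteBiproductsOfAdditive _
      preservesBinaryBiproducts_of_preservesBiproducts _
    let e₁ : (DCoh.restrictD U.ι).obj ((tX X).obj (G⟦(1 : ℤ)⟧)) ≅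
        F⟦(1 : ℤ)⟧ ⊞ (F⟦(2 * k + 1 : ℤ)⟧)⟦(1 : ℤ)⟧ :=
      ((tX X ⋙ DCoh.restrictD U.ι).commShiftIso (1 : ℤ)).app G ≪≫
        (shiftFunctor _ (1 : ℤ)).mapIso eG ≪≫ (shiftFunctor _ (1 : ℤ)).mapBiprod _ _
    let e₂ := e' ≪≫ e
    obtain ⟨Z', b', c', hZ'⟩ := Pretriangulated.distinguished_cocone_triangle
      (biprod.fst ≫ biprod.inr : F⟦(1 : ℤ)⟧ ⊞ (F⟦(2 * k + 1 : ℤ)⟧)⟦(1 : ℤ)⟧ ⟶ F ⊞ F⟦(1 : ℤ)⟧)
    obtain ⟨d⟩ := nonempty_cone_match b' c' hZ'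
    obtain ⟨G', hG', ⟨eG'⟩⟩ := exists_res_cone U hU (hG.shift 1) hG₁ (Z := Z')
      (e₁.hom ≫ (biprod.fst ≫ biprod.inr) ≫ e₂.inv) (e₂.hom ≫ b') (c' ≫ e₁.inv⟦(1 : ℤ)⟧')
      (isomorphic_distinguished _ hZ' _ (Triangle.isoMk _ _ e₁ e₂ (Iso.refl _) (by simp) (by simp)
        (by simp [← Functor.map_comp])))
    exact ⟨G', hG', ⟨eG' ≪≫ d ≪≫ biprod.mapIso (Iso.refl F)
      ((shiftFunctor _ (1 : ℤ)).mapIso
          ((shiftFunctorAdd' (DCoh.D (U : Scheme.{u})) (2 * k + 1 : ℤ) 1 (2 * k + 2) (by omega)).app F).symm ≪≫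
        ((shiftFunctorAdd' (DCoh.D (U : Scheme.{u})) (2 * k + 2 : ℤ) 1 (2 * ((k + 1 : ℕ) : ℤ) + 1)
          (by push_cast; omega)).app F).symm)⟩⟩

end Groth.Agent.KoszOrthLib
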