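import Groth.Agent.KoszOrthLib.Glue

/-!
# The induction step for approximation by perfect complexes
-/

set_option autoImplicit false
set_option linter.style.haveILetI false
set_option backward.isDefEq.respectTransparency false
set_option backward.isDefEq.respectTransparency.types false
set_option maxHeartbeats 1000000

universe u

open CategoryTheory CategoryTheory.Limits AlgebraicGeometry CategoryTheory.Pretriangulated TopologicalSpace
open DerivedCategory.TStructure (t)

attribute [local instance] HasDerivedCategory.standard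

namespace Groth.Agent.KoszOrthLib

variable {X : Scheme.{u}}

/-- Approximation by perfect complexes holds on `X`. -/
def ApproxHolds (X : Scheme.{u}) : Prop :=
  ∀ (T : Set ↥X), IsClosed T → IsRetrocompact Tᶜ → ∃ r : ℤ, ∀ (m : ℤ) (E : DCoh.D X), DCoh.IsQCohD E →
    DCoh.IsPseudoCoherentD (m - r) E → (∀ i : ℤ, m - r ≤ i → CohB1.support (DCoh.HD E i) ⊆ T) →
    ∃ (P : DCoh.D X) (α : P ⟶ E), DCoh.IsPerfect P ∧ (∀ i : ℤ, CohB1.support (DCoh.HD P i) ⊆ T) ∧
      (∀ i : ℤ, m < i → IsIso ((DerivedCategory.homologyFunctor _ i).map α)) ∧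
      Epi ((DerivedCategory.homologyFunctor _ m).map α)

/-- The cohomology of the cone is supported in `S` in a degree where that of `E` is. -/
theorem support_cone_deg (T : Triangle (DCoh.D X)) (hT : T ∈ distTriang _) {S : Set X}
    (h₁ : ∀ i : ℤ, CohB1.support (DCoh.HD T.obj₁ i) ⊆ S) (i : ℤ)
    (h₂ : CohB1.support (DCoh.HD T.obj₂ i) ⊆ S) : CohB1.support (DCoh.HD T.obj₃ i) ⊆ S := fun x hx => by
  by_contra hxS
  exact hx (subsingleton_stalk_obj₃ T hT i x (not_not.1 fun h => hxS (h₂ h))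
    (not_not.1 fun h => hxS (h₁ (i + 1) h)))

/-- From `U` to `U ∪ V`, `V` affine. -/
theorem approxHolds_step (U V : X.Opens) (hU : IsCompact (U : Set X)) (hV : IsAffineOpen V)
    (hUV : IsCompact ((U ⊓ V : X.Opens) : Set X)) (hcov : U ⊔ V = ⊤)
    (hAU : ApproxHolds (U : Scheme.{u})) : ApproxHolds X := by
  classical
  intro T hT hTr
  haveI : IsAffine (V : Scheme.{u}) := hV
  haveI : CompactSpace (U : Scheme.{u}) := isCompact_iff_compactSpace.mp hU
  -- the closed set on `U`
  obtain ⟨rU, hrU⟩ := hAU ((fun v : (U : Scheme.{u}) => U.ι v) ⁻¹' T) (hT.preimage U.ι.continuous)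
    (by
      intro O hOc hOo
      rw [U.ι.isOpenEmbedding.isEmbedding.isCompact_iff]
      have h1 := hTr (hOc.image U.ι.continuous) (U.ι.isOpenEmbedding.isOpenMap O hOo)
      have h2 : (fun v : (U : Scheme.{u}) => U.ι v) '' (((fun v : (U : Scheme.{u}) => U.ι v) ⁻¹' T)ᶜ ∩ O) =
          Tᶜ ∩ ((fun v : (U : Scheme.{u}) => U.ι v) '' O) := by
        ext x
        constructor
        · rintro ⟨v, ⟨hv, hvO⟩, rfl⟩
          exact ⟨hv, v, hvO, rfl⟩
        · rintro ⟨hx, v, hv, rfl⟩
          exact ⟨v, ⟨hx, hv⟩, rfl⟩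
      exact h2 ▸ h1)
  have hTV : IsCompact ((V : Set X) ∩ Tᶜ) := by
    rw [Set.inter_comm]
    exact hTr hV.isCompact V.isOpen
  -- the closed set `T ∖ U` in `V`
  let S : Set X := T ∩ (U : Set X)ᶜ
  have hS : IsClosed S := hT.inter U.isOpen.isClosed_compl
  have hSV : S ⊆ (V : Set X) := fun x hx => by
    have : x ∈ U ⊔ V := by rw [hcov]; trivial
    exact this.resolve_left hx.2
  have hSc : IsCompact ((fun v : (V : Scheme.{u}) => V.ι v) ⁻¹' S)ᶜ := by
    refine isCompact_preimage_ι V Sᶜ ?_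
    rw [Set.compl_inter, compl_compl, Set.inter_union_distrib_left]
    exact hTV.union (by rwa [Set.inter_comm])
  obtain ⟨l, hl⟩ := exists_list_zeroLocus (hS.preimage V.ι.continuous) hSc
  refine ⟨max rU 0 + (l.length : ℤ), fun m E hE hpc hsupp => ?_⟩
  let m₁ := m - (l.length : ℤ)
  -- the approximation on `U`
  obtain ⟨P, α, hP, hPT, hPi, hPe⟩ := hrU m₁ ((DCoh.restrictD U.ι).obj E) (isQCohD_restrictD U.ι hE)
    (PerfLib.isPC_mono (show m - (max rU 0 + (l.length : ℤ)) ≤ m₁ - rU by omega) (isPC_restrictD U.ι hpc))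
    (fun i hi v hv => by
      rw [DCohRestrLib.support_HD_restrictD] at hv
      exact hsupp i (by omega) hv)
  obtain ⟨b, hb⟩ := KiehlLib.exists_isLE_of_isPC (RelFlatLib.isPC_of_isPerfect hP 0)
  haveI := hb
  let k : ℕ := (b - m₁).toNat + 1
  obtain ⟨R, β, e, hR, hRT, hβ⟩ := exists_extend_map U V hV hUV hcov hT hTV hP hPT E hE α k
  obtain ⟨E', p, d, hT₁⟩ := distinguished_cocone_triangle β
  -- the cone is supported outside `U` in high degrees
  have hz : ∀ i, m₁ ≤ i → IsZero (DCoh.HD ((DCoh.restrictD U.ι).obj E') i) := by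
    refine (isoAboveEpiAtX_iff _ ((DCoh.restrictD U.ι).map_distinguished _ hT₁) m₁).1 ?_
    have hfst : ∀ i, m₁ ≤ i → IsIso ((DerivedCategory.homologyFunctor _ i).map
        (biprod.fst : P ⊞ P⟦(2 * k + 1 : ℤ)⟧ ⟶ P)) := fun i hi => by
      let H := DerivedCategory.homologyFunctor (U : Scheme.{u}).Modules i
      haveI : PreservesBinaryBiproducts H :=
        haveI : PreservesFiniteBiproducts H := Functor.preservesFiniteBiproductsOfAdditive _
        preservesBinaryBiproducts_of_preservesBiproducts _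
      have h0 : IsZero (H.obj (P⟦(2 * k + 1 : ℤ)⟧)) :=
        (DerivedCategory.isZero_of_isLE P b (2 * k + 1 + i) (by omega)).of_iso
          (((DerivedCategory.homologyFunctor _ 0).shiftIso (2 * k + 1 : ℤ) i (2 * k + 1 + i) rfl).app P)
      refine ⟨H.map biprod.inl, ?_, by rw [← Functor.map_comp, biprod.inl_fst, H.map_id]⟩
      have h := congrArg H.map (biprod.total (X := P) (Y := P⟦(2 * k + 1 : ℤ)⟧))
      rw [Functor.map_add, H.map_id, show H.map (biprod.snd ≫ biprod.inr :
        P ⊞ P⟦(2 * k + 1 : ℤ)⟧ ⟶ P ⊞ P⟦(2 * k + 1 : ℤ)⟧) = 0 by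
          rw [Functor.map_comp, h0.eq_of_tgt (H.map biprod.snd) 0, zero_comp], add_zero, Functor.map_comp] at h
      exact h
    refine ⟨fun i hi => ?_, ?_⟩
    · change IsIso ((DerivedCategory.homologyFunctor _ i).map ((DCoh.restrictD U.ι).map β))
      haveI := hfst i hi.le
      haveI := hPi i hi
      rw [hβ, Functor.map_comp, Functor.map_comp]
      infer_instance
    · change Epi ((DerivedCategory.homologyFunctor _ m₁).map ((DCoh.restrictD U.ι).map β))
      haveI := hfst m₁ le_rfl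
      haveI := hPe
      rw [hβ, Functor.map_comp, Functor.map_comp]
      infer_instance
  have hE'S : ∀ i, m₁ ≤ i → CohB1.support (DCoh.HD E' i) ⊆ S := fun i hi x hx => by
    refine ⟨support_cone_deg _ hT₁ hRT i (hsupp i (by omega)) hx, fun hxU => ?_⟩
    have h := hz i hi
    rw [DCohRestrLib.isZero_iff_support_empty, DCohRestrLib.support_HD_restrictD,
      Set.eq_empty_iff_forall_notMem] at h
    exact h ⟨x, hxU⟩ hx
  have hE'q : DCoh.IsQCohD E' :=
    KFlatLib.isQCohD₂ (rot_of_distTriang _ hT₁) hE (KFlatLib.isQCohD_shift (isQCohD_of_isPerfect hR) 1)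
  have hE'pc : DCoh.IsPseudoCoherentD m E' :=
    PerfLib.isPC_obj₃ _ hT₁ m (RelFlatLib.isPC_of_isPerfect hR _)
      (PerfLib.isPC_mono (by omega) hpc)
  -- approximation on `V` and extension by zero
  obtain ⟨P', α', hP', hP'T, hi', he'⟩ := exists_approx_affine l m ((DCoh.restrictD V.ι).obj E')
    (isQCohD_restrictD V.ι hE'q) (isPC_restrictD V.ι hE'pc) (fun i hi v hv => by
      rw [DCohRestrLib.support_HD_restrictD] at hv
      rw [← hl]
      exact hE'S i (by omega) hv)
  obtain ⟨P'', α'', hP'', hP''T, hi'', he''⟩ := exists_approx_of_open V S hS hSV E' m α' hP'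
    (fun i v hv => by
      have h1 := hP'T i hv
      rw [← hl] at h1
      exact h1) hi' he' (fun i hi => hE'S i (by omega))
  obtain ⟨Z, q, d', hT₂⟩ := distinguished_cocone_triangle α''
  obtain ⟨R', β', d'', hT₃⟩ := distinguished_cocone_triangle₁ (p ≫ q)
  let o := Triangulated.someOctahedron' (rfl : p ≫ q = p ≫ q) hT₁ hT₂ hT₃
  refine ⟨R', β', PerfLib.isPerfect_obj₂ _ o.mem hR hP'', fun i x hx => ?_, ?_⟩
  · by_contra hxT
    let O : X.Opens := ⟨Tᶜ, hT.isOpen_compl⟩
    have hz' : IsZero ((DCoh.restrictD O.ι).obj R') :=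
      ((DCoh.restrictD O.ι).mapTriangle.obj (Triangle.mk o.m₁ o.m₃ _)).isZero₂_iff
        ((DCoh.restrictD O.ι).map_distinguished _ o.mem) |>.2
        ⟨(isZero_restrictD_of_support O hRT fun y hy => hy).eq_of_src _ _,
          (isZero_restrictD_of_support O hP''T fun y hy hy' => hy hy'.1).eq_of_tgt _ _⟩
    exact (DCohRestrLib.isZero_restrictD_iff O _).1 hz' i x hxT hx
  · exact (isoAboveEpiAtX_iff _ hT₃ m).2 ((isoAboveEpiAtX_iff _ hT₂ m).1 ⟨hi'', he''⟩)

end Groth.Agent.KoszOrthLib
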