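import Groth.Agent.KoszOrthLib.Extend

/-!
# `F ⊕ F[1]` extends from an open of an affine scheme
-/

set_option autoImplicit false
set_option linter.style.haveILetI false
set_option backward.isDefEq.respectTransparency false
set_option backward.isDefEq.respectTransparency.types false
set_option maxHeartbeats 1000000

universe u v w

open CategoryTheory CategoryTheory.Limits AlgebraicGeometry CategoryTheory.Pretriangulated

attribute [local instance] HasDerivedCategory.standard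

namespace Groth.Agent.KoszOrthLib

section Abstract

variable {D : Type w} [Category.{v} D] [HasZeroObject D] [HasShift D ℤ] [Preadditive D]
  [∀ n : ℤ, (shiftFunctor D n).Additive] [Pretriangulated D]

/-- The cone of the complementary idempotent of a retract is `F ⊕ F[1]`. -/
theorem nonempty_cone_idem {F A : D} (i : F ⟶ A) (r : A ⟶ F) (hir : i ≫ r = 𝟙 F)
    [HasBinaryBiproduct F (F⟦(1 : ℤ)⟧)] {Z : D} (u : A ⟶ Z) (v : Z ⟶ A⟦(1 : ℤ)⟧)
    (hT : Triangle.mk (𝟙 A - r ≫ i) u v ∈ distTriang D) :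
    Nonempty (Z ≅ F ⊞ F⟦(1 : ℤ)⟧) := by
  let e : A ⟶ A := r ≫ i
  have hie : i ≫ e = i := by rw [← Category.assoc, hir, Category.id_comp]
  have her : e ≫ r = r := by rw [Category.assoc, hir, Category.comp_id]
  have heu : (𝟙 A - e) ≫ u = 0 := comp_distTriang_mor_zero₁₂ _ hT
  have hve : v ≫ (𝟙 A - e)⟦(1 : ℤ)⟧' = 0 := comp_distTriang_mor_zero₃₁ _ hT
  have huv : u ≫ v = 0 := comp_distTriang_mor_zero₂₃ _ hT
  obtain ⟨s, hs⟩ := Triangle.coyoneda_exact₁ _ hT (i⟦(1 : ℤ)⟧') (by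
    change i⟦(1 : ℤ)⟧' ≫ (𝟙 A - e)⟦(1 : ℤ)⟧' = 0
    rw [← Functor.map_comp, Preadditive.comp_sub, Category.comp_id, hie, sub_self, Functor.map_zero])
  change F⟦(1 : ℤ)⟧ ⟶ Z at s
  change i⟦(1 : ℤ)⟧' = s ≫ v at hs
  obtain ⟨t, ht⟩ := Triangle.yoneda_exact₂ _ hT r (by
    change (𝟙 A - e) ≫ r = 0
    rw [Preadditive.sub_comp, Category.id_comp, her, sub_self])
  change Z ⟶ F at t
  change r = u ≫ t at ht
  let snd : Z ⟶ F⟦(1 : ℤ)⟧ := v ≫ r⟦(1 : ℤ)⟧'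
  let fst : Z ⟶ F := t - snd ≫ s ≫ t
  have hssnd : s ≫ snd = 𝟙 _ := by
    rw [← Category.assoc, ← hs, ← Functor.map_comp, hir, CategoryTheory.Functor.map_id]
  have hufst : u ≫ fst = r := by
    rw [Preadditive.comp_sub, ← ht, show u ≫ snd ≫ s ≫ t = 0 by
      simp only [snd, Category.assoc, reassoc_of% huv, zero_comp], sub_zero]
  have husnd : u ≫ snd = 0 := by simp only [snd, reassoc_of% huv, zero_comp]
  have hsfst : s ≫ fst = 0 := by
    rw [Preadditive.comp_sub, reassoc_of% hssnd, sub_self]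
  let φ : F ⊞ F⟦(1 : ℤ)⟧ ⟶ Z := biprod.desc (i ≫ u) s
  let ψ : Z ⟶ F ⊞ F⟦(1 : ℤ)⟧ := biprod.lift fst snd
  have h1 : φ ≫ ψ = 𝟙 _ := by
    ext
    · simp [φ, ψ, hufst, hir]
    · simp [φ, ψ, husnd]
    · simp [φ, ψ, hsfst]
    · simp [φ, ψ, hssnd]
  have hidem : (ψ ≫ φ) ≫ (ψ ≫ φ) = ψ ≫ φ := by rw [Category.assoc, reassoc_of% h1]
  have hu : u ≫ (ψ ≫ φ - 𝟙 Z) = 0 := by
    rw [Preadditive.comp_sub, Category.comp_id, sub_eq_zero, biprod.lift_desc, Preadditive.comp_add,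
      reassoc_of% hufst, reassoc_of% husnd, zero_comp, add_zero]
    rw [Preadditive.sub_comp, Category.id_comp, sub_eq_zero] at heu
    exact ((Category.assoc r i u).symm.trans heu.symm)
  have hv : (ψ ≫ φ - 𝟙 Z) ≫ v = 0 := by
    rw [Preadditive.sub_comp, Category.id_comp, sub_eq_zero, biprod.lift_desc, Preadditive.add_comp,
      Category.assoc, Category.assoc, huv, comp_zero, comp_zero, zero_add, Category.assoc, ← hs]
    rw [Functor.map_sub, CategoryTheory.Functor.map_id, Preadditive.comp_sub, Category.comp_id,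
      sub_eq_zero, Functor.map_comp, ← Category.assoc] at hve
    exact hve.symm
  obtain ⟨a, ha⟩ := Triangle.yoneda_exact₃ _ hT _ hu
  change A⟦(1 : ℤ)⟧ ⟶ Z at a
  change ψ ≫ φ - 𝟙 Z = v ≫ a at ha
  have hsq : (ψ ≫ φ - 𝟙 Z) ≫ (ψ ≫ φ - 𝟙 Z) = 0 := by
    nth_rw 2 [ha]
    rw [← Category.assoc, hv, zero_comp]
  have h2 : ψ ≫ φ = 𝟙 Z := by
    rw [Preadditive.sub_comp, Preadditive.comp_sub, hidem, Category.comp_id, sub_self, zero_sub,
      Category.id_comp, neg_sub] at hsq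
    exact (sub_eq_zero.1 hsq).symm
  exact ⟨⟨ψ, φ, h2, h1⟩⟩

end Abstract

variable {X : Scheme.{u}} [IsAffine X]

/-- Restrictions of torsion perfect objects are closed under cones. -/
theorem exists_res_cone (U : X.Opens) (hU : IsCompact (U : Set X)) {fsT : List (AX X)}
    {G₁ G₂ : DerivedCategory (ModuleCat.{u} (AX X))} (h₁ : PTors fsT G₁) (h₂ : PTors fsT G₂)
    (α : (DCoh.restrictD U.ι).obj ((tX X).obj G₁) ⟶ (DCoh.restrictD U.ι).obj ((tX X).obj G₂))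
    {Z : DCoh.D (U : Scheme.{u})} (b : (DCoh.restrictD U.ι).obj ((tX X).obj G₂) ⟶ Z)
    (c : Z ⟶ ((DCoh.restrictD U.ι).obj ((tX X).obj G₁))⟦(1 : ℤ)⟧)
    (hT : Triangle.mk α b c ∈ distTriang _) :
    ∃ G₃, PTors fsT G₃ ∧ Nonempty ((DCoh.restrictD U.ι).obj ((tX X).obj G₃) ≅ Z) := by
  obtain ⟨P₁, q, γ, hP₁, hq, hqα⟩ := exists_lift_open U hU fsT h₁ (isQCohD_tX G₂) α
  obtain ⟨γ₀, rfl⟩ := (tX X).map_surjective γ
  obtain ⟨G₃, π, δ, hT₃⟩ := Pretriangulated.distinguished_cocone_triangle γ₀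
  refine ⟨G₃, ⟨DRingLib.isPerfect_obj₃ _ hT₃ hP₁.1 h₂.1, fun f hf =>
    TorsH.ext₂ _ (rot_of_distTriang _ hT₃) (h₂.2 f hf) ((hP₁.2 f hf).shift 1)⟩, ?_⟩
  exact ⟨Triangle.π₃.mapIso (isoTriangleOfIso₁₂
    ((tX X ⋙ DCoh.restrictD U.ι).mapTriangle.obj (Triangle.mk γ₀ π δ)) (Triangle.mk α b c)
    ((tX X ⋙ DCoh.restrictD U.ι).map_distinguished _ hT₃) hT (@asIso _ _ _ _ _ hq) (Iso.refl _)
    (by
      change (DCoh.restrictD U.ι).map ((tX X).map γ₀) ≫ 𝟙 _ = (DCoh.restrictD U.ι).map ((tX X).map q) ≫ α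
      rw [Category.comp_id, hqα]))⟩

/-- `F ⊕ F[1]` is the restriction of a perfect object supported on `T`. -/
theorem exists_extend_sum (U : X.Opens) (hU : IsCompact (U : Set X)) {T : Set X} (hT : IsClosed T)
    (hTc : IsCompact Tᶜ) (F : DCoh.D (U : Scheme.{u})) (hF : DCoh.IsPerfect F)
    (hFT : ∀ i : ℤ, CohB1.support (DCoh.HD F i) ⊆ {x : ↥(U : Scheme.{u}) | U.ι.base x ∈ T})
    [HasBinaryBiproduct F (F⟦(1 : ℤ)⟧)] :
    ∃ G : CochainComplex X.Modules ℤ, DCoh.IsPerfect (DCoh.toD X G) ∧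
      (∀ i : ℤ, CohB1.support (DCoh.HD (DCoh.toD X G) i) ⊆ T) ∧
      Nonempty (DerivedCategory.Q.obj ((DCoh.restrictCx U).obj G) ≅ F ⊞ F⟦(1 : ℤ)⟧) := by
  obtain ⟨fsT, hfsT⟩ := exists_list_zeroLocus hT hTc
  obtain ⟨G₀, i, r, hG₀, hir⟩ := exists_retract U hU hT hfsT F hF hFT
  obtain ⟨Z, b, c, hZ⟩ := Pretriangulated.distinguished_cocone_triangle
    (𝟙 ((DCoh.restrictD U.ι).obj ((tX X).obj G₀)) - r ≫ i)
  obtain ⟨e⟩ := nonempty_cone_idem i r hir b c hZ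
  obtain ⟨G₃, hG₃, ⟨e'⟩⟩ := exists_res_cone U hU hG₀ hG₀ _ b c hZ
  let E := (tX X).obj G₃
  let eQ := DerivedCategory.Q.objObjPreimageIso E
  refine ⟨DerivedCategory.Q.objPreimage E, PerfLib.isPerfect_of_iso eQ.symm (isPerfect_tX hG₃.1),
    fun k x hx => ?_, ⟨((Scheme.Modules.restrictFunctor U.ι).mapDerivedCategoryFactors.app _).symm ≪≫
      (DCoh.restrictD U.ι).mapIso eQ ≪≫ e' ≪≫ e⟩⟩
  rw [hfsT]
  exact (torsAll_iff_support fsT G₃).1 hG₃.2 k fun h => hx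
    ((DCohRestrLib.subsingleton_stalk_of_iso
      ((DerivedCategory.homologyFunctor X.Modules k).mapIso eQ) x).2 h)

end Groth.Agent.KoszOrthLib
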