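import Groth.Agent.PerfCompLib.Fac
import Mathlib.CategoryTheory.Triangulated.Generators
import Mathlib.CategoryTheory.EssentiallySmall

/-!
# Compact objects of a sum-closed class lie in the thick subcategory of a compact generator
-/

set_option autoImplicit false
set_option linter.style.haveILetI false
set_option linter.unusedSectionVars false

universe u v w

open CategoryTheory CategoryTheory.Limits CategoryTheory.Pretriangulated
open scoped ZeroObject
open PerfCompLib (FinFac cut proj)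

namespace Groth.Agent.KoszOrthLib

variable {D : Type w} [Category.{v} D] [Preadditive D] [HasZeroObject D] [HasShift D ℤ]
  [∀ n : ℤ, (shiftFunctor D n).Additive] [Pretriangulated D] [HasCoproducts.{u} D]

/-- Maps from `K` into small sums of members of `P` factor through finite subfamilies. -/
def Cpt (P : D → Prop) (K : D) : Prop :=
  ∀ (ι : Type u) (X : ι → D), (∀ i, P (X i)) → FinFac X K

variable {P : D → Prop}

theorem Cpt.shift (hshift : ∀ (L : D) (n : ℤ), P L → P (L⟦n⟧)) {K : D} (h : Cpt.{u} P K) (n : ℤ) :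
    Cpt.{u} P (K⟦n⟧) := fun ι X hX =>
  FinFac.shift (n := -n) (by omega) (h ι _ fun i => hshift _ _ (hX i))

/-- A map killed in a compact target of finite support factors through the subcategory. -/
theorem exists_fac_sum (Q : ObjectProperty D) [Q.IsTriangulated] [Q.IsClosedUnderIsomorphisms]
    [HasBinaryBiproducts D] {ι : Type u} (Y : ι → D) (hY : ∀ i, Q (Y i) ∧ Cpt.{u} P (Y i)) {C : D}
    (x : ∀ i, C ⟶ Y i) (S : Finset ι) :
    ∃ (M : D) (g : C ⟶ M) (h : M ⟶ ∐ Y), Q M ∧ Cpt.{u} P M ∧ g ≫ h = ∑ k ∈ S, x k ≫ Sigma.ι Y k := by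
  classical
  induction S using Finset.induction with
  | empty =>
    exact ⟨0, 0, 0, Q.prop_of_isZero (isZero_zero D), fun κ X _ => FinFac.of_isZero (isZero_zero D),
      by simp⟩
  | insert a S ha ih =>
    obtain ⟨M, g, h, hM, hMc, hgh⟩ := ih
    refine ⟨Y a ⊞ M, biprod.lift (x a) g, biprod.desc (Sigma.ι Y a) h,
      Q.ext_of_isTriangulatedClosed₂ _ (binaryBiproductTriangle_distinguished (Y a) M) (hY a).1 hM,
      fun κ X hX => FinFac.biprod ((hY a).2 κ X hX) (hMc κ X hX), ?_⟩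
    rw [biprod.lift_desc, hgh, Finset.sum_insert ha]

/-- One step of the tower kills all maps from shifts of `G`. -/
theorem exists_kill (hsum : ∀ (ι : Type u) (X : ι → D), (∀ i, P (X i)) → P (∐ X))
    (hshift : ∀ (L : D) (n : ℤ), P L → P (L⟦n⟧))
    (hcone : ∀ T : Triangle D, T ∈ distTriang D → P T.obj₁ → P T.obj₂ → P T.obj₃)
    {G : D} (hG : P G) (hsmall : ∀ (n : ℤ) (L : D), P L → Small.{u} (G⟦n⟧ ⟶ L)) {L : D} (hL : P L) :
    ∃ (L' : D) (f : L ⟶ L'), P L' ∧ (∀ (n : ℤ) (φ : G⟦n⟧ ⟶ L), φ ≫ f = 0) ∧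
      ∃ (κ : Type u) (m : κ → ℤ) (y : (∐ fun k => G⟦m k⟧) ⟶ L)
        (δ : L' ⟶ (∐ fun k => G⟦m k⟧)⟦(1 : ℤ)⟧), Triangle.mk y f δ ∈ distTriang D := by
  haveI := fun n => hsmall n L hL
  let κ : Type u := Σ n : ℤ, Shrink.{u} (G⟦n⟧ ⟶ L)
  let y : (∐ fun k : κ => G⟦k.1⟧) ⟶ L := Sigma.desc fun k => (equivShrink _).symm k.2
  obtain ⟨L', f, δ, hT⟩ := distinguished_cocone_triangle y
  refine ⟨L', f, hcone _ hT (hsum κ _ fun k => hshift _ _ hG) hL, fun n φ => ?_,
    κ, fun k => k.1, y, δ, hT⟩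
  have h : φ = Sigma.ι (fun k : κ => G⟦k.1⟧) ⟨n, equivShrink _ φ⟩ ≫ y := by
    simp [y]
  rw [h, Category.assoc]
  exact (congrArg (_ ≫ ·) (comp_distTriang_mor_zero₁₂ _ hT)).trans comp_zero

/-- A compact member of `P` lies in every thick subcategory containing a compact generator of `P`. -/
theorem prop_of_generator [IsTriangulated D] [HasBinaryBiproducts D]
    (hsum : ∀ (ι : Type u) (X : ι → D), (∀ i, P (X i)) → P (∐ X))
    (hshift : ∀ (L : D) (n : ℤ), P L → P (L⟦n⟧))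
    (hcone : ∀ T : Triangle D, T ∈ distTriang D → P T.obj₁ → P T.obj₂ → P T.obj₃)
    {G : D} (hG : P G) (hGc : Cpt.{u} P G)
    (hsmall : ∀ (n : ℤ) (L : D), P L → Small.{u} (G⟦n⟧ ⟶ L))
    (hgen : ∀ L : D, P L → (∀ (n : ℤ) (φ : G⟦n⟧ ⟶ L), φ = 0) → IsZero L)
    (Q : ObjectProperty D) [Q.IsTriangulated] [Q.IsClosedUnderIsomorphisms]
    [Q.IsStableUnderRetracts] (hQ : Q G) {C : D} (hC : P C) (hCc : Cpt.{u} P C) : Q C := by
  classical
  choose nx fn hnx hkill htri using fun L : Subtype P => exists_kill hsum hshift hcone hG hsmall L.2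
  let St : ℕ → Subtype P := fun n => Nat.rec ⟨C, hC⟩ (fun _ s => ⟨nx s, hnx s⟩) n
  let X : ULift.{u} ℕ → D := fun i => (St i.down).1
  let f : ∀ n, X ⟨n⟩ ⟶ X ⟨n + 1⟩ := fun n => fn (St n)
  let σ : ∐ X ⟶ ∐ X := Sigma.desc fun i => f i.down ≫ Sigma.ι X ⟨i.down + 1⟩
  have hσ₀ : σ ≫ proj X ⟨0⟩ = 0 := Sigma.hom_ext _ _ fun i => by
    rw [comp_zero, Sigma.ι_desc_assoc, Category.assoc]
    simp [proj]
  have hσ : ∀ m, σ ≫ proj X ⟨m + 1⟩ = proj X ⟨m⟩ ≫ f m := fun m => Sigma.hom_ext _ _ fun i => by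
    obtain ⟨n⟩ := i
    rw [Sigma.ι_desc_assoc]
    rcases eq_or_ne n m with rfl | h
    · simp [proj]
    · simp [proj, h]
  have hGσ : ∀ (n : ℤ) (y : G⟦n⟧ ⟶ ∐ X), y ≫ σ = 0 := fun n y => by
    obtain ⟨S, hS⟩ := hGc.shift hshift n _ X (fun i => (St i.down).2) y
    rw [← hS, PerfCompLib.cut_eq_sum, Preadditive.comp_sum, Preadditive.sum_comp]
    refine Finset.sum_eq_zero fun k _ => ?_
    simp only [Category.assoc, σ, Sigma.ι_desc]
    have h0 : (y ≫ proj X k) ≫ f k.down = 0 := hkill (St k.down) n _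
    simpa using congrArg (· ≫ Sigma.ι X ⟨k.down + 1⟩) h0
  obtain ⟨W, q, δ, hT⟩ := distinguished_cocone_triangle (𝟙 (∐ X) - σ)
  have hPX : P (∐ X) := hsum _ X fun i => (St i.down).2
  have hW : IsZero W := hgen W (hcone _ hT hPX hPX) fun n φ => by
    have hδ : φ ≫ δ = 0 := by
      let e := (shiftFunctorAdd' D (n - 1) 1 n (by omega)).app G
      obtain ⟨y, hy⟩ := (shiftFunctor D (1 : ℤ)).map_surjective (e.inv ≫ φ ≫ δ)
      have h1 : (shiftFunctor D (1 : ℤ)).map (y ≫ (𝟙 (∐ X) - σ)) = 0 := by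
        rw [Functor.map_comp, hy, Category.assoc, Category.assoc]
        exact (congrArg (fun z => e.inv ≫ φ ≫ z) (comp_distTriang_mor_zero₃₁ _ hT)).trans
          ((congrArg (e.inv ≫ ·) comp_zero).trans comp_zero)
      have h2 := (shiftFunctor D (1 : ℤ)).map_injective (h1.trans (Functor.map_zero _ _ _).symm)
      rw [Preadditive.comp_sub, Category.comp_id, hGσ, sub_zero] at h2
      rw [h2, Functor.map_zero] at hy
      exact zero_of_epi_comp e.inv hy.symm
    obtain ⟨z, hz⟩ := Triangle.coyoneda_exact₃ _ hT φ hδ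
    change G⟦n⟧ ⟶ ∐ X at z
    change φ = z ≫ q at hz
    have h1 : z ≫ (𝟙 (∐ X) - σ) = z := by rw [Preadditive.comp_sub, Category.comp_id, hGσ, sub_zero]
    rw [hz, ← h1, Category.assoc]
    exact (congrArg (z ≫ ·) (comp_distTriang_mor_zero₁₂ _ hT)).trans comp_zero
  obtain ⟨z, hz⟩ := Triangle.coyoneda_exact₂ _ hT (Sigma.ι X ⟨0⟩) (hW.eq_of_tgt _ _)
  change C ⟶ ∐ X at z
  change Sigma.ι X ⟨0⟩ = z ≫ (𝟙 (∐ X) - σ) at hz
  let c : ∀ n, C ⟶ X ⟨n⟩ := fun n => z ≫ proj X ⟨n⟩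
  have hc0 : c 0 = 𝟙 C := by
    have h := congrArg (· ≫ proj X ⟨0⟩) hz
    simp only [Category.assoc, Preadditive.sub_comp, Category.id_comp, hσ₀, sub_zero] at h
    exact h.symm.trans (by simp [proj]; rfl)
  have hcs : ∀ m, c (m + 1) = c m ≫ f m := fun m => by
    have h := congrArg (· ≫ proj X ⟨m + 1⟩) hz
    simp only [Category.assoc, Preadditive.sub_comp, Category.id_comp, hσ, Preadditive.comp_sub] at h
    have h0 : Sigma.ι X ⟨0⟩ ≫ proj X ⟨m + 1⟩ = 0 := by simp [proj]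
    rw [h0] at h
    exact (sub_eq_zero.1 h.symm).trans (Category.assoc _ _ _).symm
  have hfac : ∀ (n : ℕ) (C' : D), Cpt.{u} P C' → ∀ φ : C' ⟶ C, φ ≫ c n = 0 →
      ∃ (M : D) (g : C' ⟶ M) (h : M ⟶ C), Q M ∧ g ≫ h = φ := by
    intro n
    induction n with
    | zero =>
      intro C' _ φ hφ
      refine ⟨0, 0, 0, Q.prop_of_isZero (isZero_zero D), ?_⟩
      rw [hc0] at hφ
      simpa using hφ.symm.trans rfl
    | succ n ih =>
      intro C' hC' φ hφ
      rw [hcs] at hφ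
      obtain ⟨κ, m, y, d, hTn⟩ := htri (St n)
      obtain ⟨a, ha⟩ := Triangle.coyoneda_exact₂ _ hTn (φ ≫ c n) ((Category.assoc _ _ _).trans hφ)
      change C' ⟶ ∐ (fun k => G⟦m k⟧) at a
      change φ ≫ c n = a ≫ y at ha
      obtain ⟨S, hS⟩ := hC' κ _ (fun k => hshift G (m k) hG) a
      rw [PerfCompLib.cut_eq_sum, Preadditive.comp_sum] at hS
      simp only [← Category.assoc] at hS
      obtain ⟨P₁, g₁, h₁, hP₁, hP₁c, hgh⟩ := exists_fac_sum (P := P) Q (fun k => G⟦m k⟧)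
        (fun k => ⟨Q.le_shift (m k) _ hQ, hGc.shift hshift (m k)⟩)
        (fun k => a ≫ proj (fun k => G⟦m k⟧) k) S
      rw [hS] at hgh
      obtain ⟨C'', i, w, hC''⟩ := distinguished_cocone_triangle₁ g₁
      have hC''c : Cpt.{u} P C'' := fun ι' X' hX' =>
        FinFac.ext₂ _ (inv_rot_of_distTriang _ hC'') (hP₁c.shift hshift (-1) ι' X' hX') (hC' ι' X' hX')
      have hiz : (i ≫ φ) ≫ c n = 0 := by
        have hig : i ≫ g₁ = 0 := comp_distTriang_mor_zero₁₂ _ hC''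
        rw [Category.assoc, ha, ← hgh, Category.assoc, reassoc_of% hig, zero_comp]
      obtain ⟨P₀, g₀, h₀, hP₀, hψ⟩ := ih C'' hC''c (i ≫ φ) hiz
      obtain ⟨M, p, q', hM⟩ := distinguished_cocone_triangle (biprod.lift (-g₀) i)
      have hsnd := rot_of_distTriang _ (binaryBiproductTriangle_distinguished P₀ C')
      let o := Triangulated.someOctahedron (biprod.lift_snd (-g₀) i) hM hsnd hC''
      have hkill' : biprod.lift (-g₀) i ≫ Limits.biprod.desc h₀ φ = 0 := by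
        rw [biprod.lift_desc, Preadditive.neg_comp, hψ]
        exact neg_add_cancel _
      obtain ⟨h, hh⟩ : ∃ h : M ⟶ C, Limits.biprod.desc h₀ φ = p ≫ h :=
        Triangle.yoneda_exact₂ _ hM _ hkill'
      refine ⟨M, biprod.inr ≫ p, h,
        Q.ext_of_isTriangulatedClosed₁ _ o.mem hP₁ (Q.le_shift (1 : ℤ) _ hP₀), ?_⟩
      rw [Category.assoc, ← hh, biprod.inr_desc]
  obtain ⟨S, hS⟩ := hCc _ X (fun i => (St i.down).2) z
  obtain ⟨n, hn⟩ : ∃ n : ℕ, (⟨n⟩ : ULift.{u} ℕ) ∉ S :=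
    ⟨S.sup ULift.down + 1, fun h => by
      have h' : S.sup ULift.down + 1 ≤ S.sup ULift.down :=
        Finset.le_sup (s := S) (f := ULift.down) h
      omega⟩
  have hcn : c n = 0 := by
    have h0 : cut X S ≫ proj X ⟨n⟩ = 0 := Sigma.hom_ext _ _ fun i => by
      rw [← Category.assoc, PerfCompLib.ι_cut, comp_zero]
      split_ifs with hi
      · have hne : i ≠ ⟨n⟩ := fun e => hn (e ▸ hi)
        simp [proj, hne]
      · rw [zero_comp]
    change z ≫ proj X ⟨n⟩ = 0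
    rw [← hS, Category.assoc, h0, comp_zero]
  obtain ⟨M, g, h, hM, hgh⟩ := hfac n C hCc (𝟙 C) (by rw [hcn, comp_zero])
  exact ObjectProperty.prop_of_retract Q ({ i := g, r := h, retract := hgh } : Retract C M) hM

end Groth.Agent.KoszOrthLib
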