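import Groth.Agent.KoszOrthLib.Tower

/-!
# Killing maps from compact objects into objects of a compactly generated subcategory
-/

set_option autoImplicit false
set_option linter.style.haveILetI false
set_option linter.unusedSectionVars false
universe u v w
open CategoryTheory CategoryTheory.Limits CategoryTheory.Pretriangulated
open scoped ZeroObject
open PerfCompLib (FinFac cut proj)

namespace Groth.Agent.KoszOrthLib

variable {D : Type w} [Category.{v} D] [Preadditive D] [HasZeroObject D] [HasShift D ℤ]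
  [∀ n : ℤ, (shiftFunctor D n).Additive] [Pretriangulated D] [HasCoproducts.{u} D]

variable {P : D → Prop}

/-- A map from a compact object into a member of `P` is killed by a map with cone in the
subcategory generated by a compact generator of `P`. -/
theorem exists_trW_kill [IsTriangulated D] [HasBinaryBiproducts D]
    (hsum : ∀ (ι : Type u) (X : ι → D), (∀ i, P (X i)) → P (∐ X))
    (hshift : ∀ (L : D) (n : ℤ), P L → P (L⟦n⟧))
    (hcone : ∀ T : Triangle D, T ∈ distTriang D → P T.obj₁ → P T.obj₂ → P T.obj₃)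
    {G : D} (hG : P G) (hGc : Cpt.{u} P G)
    (hsmall : ∀ (n : ℤ) (L : D), P L → Small.{u} (G⟦n⟧ ⟶ L))
    (hgen : ∀ L : D, P L → (∀ (n : ℤ) (φ : G⟦n⟧ ⟶ L), φ = 0) → IsZero L)
    (Q : ObjectProperty D) [Q.IsTriangulated] [Q.IsClosedUnderIsomorphisms] (hQ : Q G)
    {C : D} (hCc : Cpt.{u} P C) {L₀ : D} (hL₀ : P L₀) (ξ : C ⟶ L₀) :
    ∃ (C' : D) (w : C' ⟶ C), Q.trW w ∧ Cpt.{u} P C' ∧ w ≫ ξ = 0 := by
  classical
  choose nx fn hnx hkill htri using fun L : Subtype P => exists_kill hsum hshift hcone hG hsmall L.2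
  let St : ℕ → Subtype P := fun n => Nat.rec ⟨L₀, hL₀⟩ (fun _ s => ⟨nx s, hnx s⟩) n
  let X : ULift.{u} ℕ → D := fun i => (St i.down).1
  let f : ∀ n, X ⟨n⟩ ⟶ X ⟨n + 1⟩ := fun n => fn (St n)
  let σ : ∐ X ⟶ ∐ X := Sigma.desc fun i => f i.down ≫ Sigma.ι X ⟨i.down + 1⟩
  have hσ₀ : σ ≫ proj X ⟨0⟩ = 0 := Sigma.hom_ext _ _ fun i => by
    rw [comp_zero, Sigma.ι_desc_assoc, Category.assoc]
    simp [proj]
  have hσ : ∀ m, σ ≫ proj X ⟨m + 1⟩ = proj X ⟨m⟩ ≫ f m := fun m => Sigma.hom_ext _ _ fun i => by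
    obtain ⟨n⟩ := i
    rw [Sigma.ι_desc_assoc]
    rcases eq_or_ne n m with rfl | h
    · simp [proj]
    · simp [proj, h]
  have hGσ : ∀ (n : ℤ) (y : G⟦n⟧ ⟶ ∐ X), y ≫ σ = 0 := fun n y => by
    obtain ⟨S, hS⟩ := hGc.shift hshift n _ X (fun i => (St i.down).2) y
    rw [← hS, PerfCompLib.cut_eq_sum, Preadditive.comp_sum, Preadditive.sum_comp]
    refine Finset.sum_eq_zero fun k _ => ?_
    simp only [Category.assoc, σ, Sigma.ι_desc]
    have h0 : (y ≫ proj X k) ≫ f k.down = 0 := hkill (St k.down) n _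
    simpa using congrArg (· ≫ Sigma.ι X ⟨k.down + 1⟩) h0
  obtain ⟨W, q, δ, hT⟩ := distinguished_cocone_triangle (𝟙 (∐ X) - σ)
  have hPX : P (∐ X) := hsum _ X fun i => (St i.down).2
  have hW : IsZero W := hgen W (hcone _ hT hPX hPX) fun n φ => by
    have hδ : φ ≫ δ = 0 := by
      let e := (shiftFunctorAdd' D (n - 1) 1 n (by omega)).app G
      obtain ⟨y, hy⟩ := (shiftFunctor D (1 : ℤ)).map_surjective (e.inv ≫ φ ≫ δ)
      have h1 : (shiftFunctor D (1 : ℤ)).map (y ≫ (𝟙 (∐ X) - σ)) = 0 := by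
        rw [Functor.map_comp, hy, Category.assoc, Category.assoc]
        exact (congrArg (fun z => e.inv ≫ φ ≫ z) (comp_distTriang_mor_zero₃₁ _ hT)).trans
          ((congrArg (e.inv ≫ ·) comp_zero).trans comp_zero)
      have h2 := (shiftFunctor D (1 : ℤ)).map_injective (h1.trans (Functor.map_zero _ _ _).symm)
      rw [Preadditive.comp_sub, Category.comp_id, hGσ, sub_zero] at h2
      rw [h2, Functor.map_zero] at hy
      exact zero_of_epi_comp e.inv hy.symm
    obtain ⟨z, hz⟩ := Triangle.coyoneda_exact₃ _ hT φ hδ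
    change G⟦n⟧ ⟶ ∐ X at z
    change φ = z ≫ q at hz
    have h1 : z ≫ (𝟙 (∐ X) - σ) = z := by rw [Preadditive.comp_sub, Category.comp_id, hGσ, sub_zero]
    rw [hz, ← h1, Category.assoc]
    exact (congrArg (z ≫ ·) (comp_distTriang_mor_zero₁₂ _ hT)).trans comp_zero
  obtain ⟨z₀, hz⟩ := Triangle.coyoneda_exact₂ _ hT (Sigma.ι X ⟨0⟩) (hW.eq_of_tgt _ _)
  change L₀ ⟶ ∐ X at z₀
  change Sigma.ι X ⟨0⟩ = z₀ ≫ (𝟙 (∐ X) - σ) at hz
  let c : ∀ n, C ⟶ X ⟨n⟩ := fun n => (ξ ≫ z₀) ≫ proj X ⟨n⟩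
  have hc0 : c 0 = ξ := by
    have h := congrArg (fun t => ξ ≫ t ≫ proj X ⟨0⟩) hz
    simp only [Category.assoc, Preadditive.sub_comp, Category.id_comp, hσ₀, sub_zero] at h
    refine (Category.assoc _ _ _).trans (h.symm.trans ?_)
    simp [proj]
    exact Category.comp_id _
  have hcs : ∀ m, c (m + 1) = c m ≫ f m := fun m => by
    have h := congrArg (fun t => ξ ≫ t ≫ proj X ⟨m + 1⟩) hz
    simp only [Category.assoc, Preadditive.sub_comp, Category.id_comp, hσ, Preadditive.comp_sub] at h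
    have h0 : Sigma.ι X ⟨0⟩ ≫ proj X ⟨m + 1⟩ = 0 := by simp [proj]
    rw [h0, comp_zero] at h
    simp only [c, Category.assoc]
    exact sub_eq_zero.1 h.symm
  obtain ⟨S, hS⟩ := hCc _ X (fun i => (St i.down).2) (ξ ≫ z₀)
  have hstep : ∀ (k n : ℕ), n + k = S.sup ULift.down + 1 →
      ∃ (C' : D) (w : C' ⟶ C), Q.trW w ∧ Cpt.{u} P C' ∧ w ≫ c n = 0 := by
    intro k
    induction k with
    | zero =>
      intro n hn
      have hnS : (⟨n⟩ : ULift.{u} ℕ) ∉ S := fun h => by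
        have h' : n ≤ S.sup ULift.down := Finset.le_sup (s := S) (f := ULift.down) h
        omega
      have h0 : cut X S ≫ proj X ⟨n⟩ = 0 := Sigma.hom_ext _ _ fun i => by
        rw [← Category.assoc, PerfCompLib.ι_cut, comp_zero]
        split_ifs with hi
        · have hne : i ≠ ⟨n⟩ := fun e => hnS (e ▸ hi)
          simp [proj, hne]
        · rw [zero_comp]
      refine ⟨C, 𝟙 C, MorphismProperty.id_mem Q.trW C, hCc, ?_⟩
      rw [Category.id_comp]
      change (ξ ≫ z₀) ≫ proj X ⟨n⟩ = 0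
      rw [← hS, Category.assoc, h0, comp_zero]
    | succ k ih =>
      intro n hn
      obtain ⟨C', w, hw, hC', hkill⟩ := ih (n + 1) (by omega)
      rw [hcs, ← Category.assoc] at hkill
      obtain ⟨κ, m, y, d, hTn⟩ := htri (St n)
      obtain ⟨a, ha⟩ := Triangle.coyoneda_exact₂ _ hTn (w ≫ c n) hkill
      change C' ⟶ ∐ (fun k => G⟦m k⟧) at a
      change w ≫ c n = a ≫ y at ha
      obtain ⟨S', hS'⟩ := hC' κ _ (fun k => hshift G (m k) hG) a
      rw [PerfCompLib.cut_eq_sum, Preadditive.comp_sum] at hS'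
      simp only [← Category.assoc] at hS'
      obtain ⟨P₁, g₁, h₁, hP₁, hP₁c, hgh⟩ := exists_fac_sum (P := P) Q (fun k => G⟦m k⟧)
        (fun k => ⟨Q.le_shift (m k) _ hQ, hGc.shift hshift (m k)⟩)
        (fun k => a ≫ proj (fun k => G⟦m k⟧) k) S'
      rw [hS'] at hgh
      obtain ⟨C'', i, w', hC''⟩ := distinguished_cocone_triangle₁ g₁
      have hC''c : Cpt.{u} P C'' := fun ι' X' hX' =>
        FinFac.ext₂ _ (inv_rot_of_distTriang _ hC'') (hP₁c.shift hshift (-1) ι' X' hX') (hC' ι' X' hX')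
      have hi : Q.trW i := ⟨_, _, _, hC'', hP₁⟩
      refine ⟨C'', i ≫ w, MorphismProperty.comp_mem _ _ _ hi hw, hC''c, ?_⟩
      have hig : i ≫ g₁ = 0 := comp_distTriang_mor_zero₁₂ _ hC''
      rw [Category.assoc, ha, ← hgh, Category.assoc, reassoc_of% hig, zero_comp]
  obtain ⟨C', w, hw, hC', hkill⟩ := hstep (S.sup ULift.down + 1) 0 (by omega)
  exact ⟨C', w, hw, hC', by rw [hc0] at hkill; exact hkill⟩

end Groth.Agent.KoszOrthLib
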