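import Groth.Agent.KoszOrthLib.AmpleGen
import Groth.Agent.DescLib.FF

/-!
# Twists in a window generate all the others
-/

set_option autoImplicit false
set_option linter.style.haveILetI false
set_option backward.isDefEq.respectTransparency false
set_option backward.isDefEq.respectTransparency.types false
set_option maxHeartbeats 1000000

universe u v' u'

open CategoryTheory CategoryTheory.Limits AlgebraicGeometry TopologicalSpace CategoryTheory.Pretriangulated
open scoped ZeroObject

attribute [local instance] HasDerivedCategory.standard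

namespace Groth.Agent.KoszOrthLib

/-- A class of objects containing zero in which, along any triangle, the outer vertices follow from the others. -/
structure TriClosed {D : Type u'} [Category.{v'} D] [HasZeroObject D] [HasShift D ℤ] [Preadditive D]
    [∀ n : ℤ, (shiftFunctor D n).Additive] [Pretriangulated D] (Q : D → Prop) : Prop where
  of_iso : ∀ {A B : D}, (A ≅ B) → Q A → Q B
  zero : Q 0
  obj₁ : ∀ (T : Triangle D), T ∈ distTriang _ → Q T.obj₂ → Q T.obj₃ → Q T.obj₁
  obj₃ : ∀ (T : Triangle D), T ∈ distTriang _ → Q T.obj₁ → Q T.obj₂ → Q T.obj₃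

variable {X : Scheme.{u}} (L : X.Modules) [PreservesFiniteLimits (DCoh.tensorRightMod L)]
  [PreservesFiniteColimits (DCoh.tensorRightMod L)]

/-- One more twist, on either side. -/
theorem nonempty_iterT_succ : ∀ (k : ℕ) (E : DCoh.D X),
    Nonempty ((iterT L k).obj ((TD L).obj E) ≅ (iterT L (k + 1)).obj E)
  | 0, _ => ⟨Iso.refl _⟩
  | k + 1, E => by
    obtain ⟨e⟩ := nonempty_iterT_succ k E
    exact ⟨(TD L).mapIso e⟩

theorem support_obj₃_sD (hL : PicF.IsInvertible L) (σ : Γ(L, ⊤)) {E C : DCoh.D X} {S : Set X}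
    (h : (TD L).obj E ⟶ C) (h' : C ⟶ E⟦(1 : ℤ)⟧) (hT : Triangle.mk ((sD L σ).app E) h h' ∈ distTriang _)
    (hE : ∀ i : ℤ, CohB1.support (DCoh.HD E i) ⊆ S) (hS : IsClosed S) (i : ℤ) :
    CohB1.support (DCoh.HD C i) ⊆
      S ∩ {y | ¬ AmpleLib.GenAt L σ (show y ∈ (⊤ : X.Opens) from trivial)} := by
  intro y hy
  refine ⟨support_obj₃_subset _ hT hS hE (fun j => (support_HD_TD hL E j).trans_subset (hE j)) i hy,
    fun hg => ?_⟩
  let U := CycPBLib.genLocus' σ hL
  haveI := isIso_restrictD_sD L σ hL U (fun z hz => hz.2) E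
  have hz : IsZero ((DCoh.restrictD U.ι).obj C) :=
    (((DCoh.restrictD U.ι).mapTriangle.obj (Triangle.mk ((sD L σ).app E) h h')).isZero₃_iff_isIso₁
      ((DCoh.restrictD U.ι).map_distinguished _ hT)).2 ‹_›
  exact (DCohRestrLib.isZero_restrictD_iff U C).1 hz i y ⟨trivial, hg⟩ hy

/-- If sections in the list generate wherever `E` is supported, `E` follows from as many of its twists. -/
theorem prop_of_twists (hL : PicF.IsInvertible L) {Q : DCoh.D X → Prop} (hQ : TriClosed Q) :
    ∀ (l : List Γ(L, ⊤)) (E : DCoh.D X) (S : Set X), IsClosed S →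
      (∀ i : ℤ, CohB1.support (DCoh.HD E i) ⊆ S) →
      (∀ y ∈ S, ∃ σ ∈ l, AmpleLib.GenAt L σ (show y ∈ (⊤ : X.Opens) from trivial)) →
      (∀ r : ℕ, 1 ≤ r → r ≤ l.length → Q ((iterT L r).obj E)) → Q E
  | [], E, S, _, hE, hl, _ => by
    refine hQ.of_iso (IsZero.iso (isZero_zero _) ((DCohRestrLib.isZero_iff_HD E).2 fun i => ?_)) hQ.zero
    rw [DCohRestrLib.isZero_iff_support_empty, Set.eq_empty_iff_forall_notMem]
    intro y hy
    obtain ⟨σ, hσ, -⟩ := hl y (hE i hy)
    simp at hσ
  | σ :: l, E, S, hS, hE, hl, hr => by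
    obtain ⟨C, h, h', hT⟩ := distinguished_cocone_triangle ((sD L σ).app E)
    have hQC : Q C := by
      refine prop_of_twists hL hQ l C
        (S ∩ {y | ¬ AmpleLib.GenAt L σ (show y ∈ (⊤ : X.Opens) from trivial)})
        (hS.inter (TwistLib.isOpen_genAt hL σ).isClosed_compl)
        (support_obj₃_sD L hL σ h h' hT hE hS) (fun y hy => ?_) fun r h1 h2 => ?_
      · obtain ⟨τ, hτ, hg⟩ := hl y hy.1
        rcases List.mem_cons.1 hτ with rfl | hτ'
        · exact absurd hg hy.2
        · exact ⟨τ, hτ', hg⟩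
      · obtain ⟨d, hd⟩ := exists_iterT_triangle L _ _ _ hT r
        obtain ⟨e⟩ := nonempty_iterT_succ L r E
        exact hQ.obj₃ _ hd (hr r h1 (by simp; omega))
          (hQ.of_iso e.symm (hr (r + 1) (by omega) (by simp; omega)))
    exact hQ.obj₁ _ hT (hr 1 le_rfl (by simp)) hQC

theorem isEquivalence_TD {L : X.Modules} [PreservesFiniteLimits (DCoh.tensorRightMod L)]
    [PreservesFiniteColimits (DCoh.tensorRightMod L)] (hL : PicF.IsInvertible L) :
    (TD L).IsEquivalence := by
  haveI := isEquivalence_tensorRightMod hL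
  let e := (DCoh.tensorRightMod L).asEquivalence
  let G := e.inverse
  haveI : e.functor.Additive := inferInstanceAs (DCoh.tensorRightMod L).Additive
  haveI : G.Additive := e.toAdjunction.right_adjoint_additive
  haveI : (e.functor ⋙ e.inverse).Additive := inferInstanceAs (DCoh.tensorRightMod L ⋙ G).Additive
  haveI : (e.inverse ⋙ e.functor).Additive := inferInstanceAs (G ⋙ DCoh.tensorRightMod L).Additive
  haveI : PreservesFiniteLimits (DCoh.tensorRightMod L ⋙ G) := comp_preservesFiniteLimits _ _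
  haveI : PreservesFiniteColimits (DCoh.tensorRightMod L ⋙ G) := comp_preservesFiniteColimits _ _
  haveI : PreservesFiniteLimits (G ⋙ DCoh.tensorRightMod L) := comp_preservesFiniteLimits _ _
  haveI : PreservesFiniteColimits (G ⋙ DCoh.tensorRightMod L) := comp_preservesFiniteColimits _ _
  letI : Localization.Lifting DerivedCategory.Q (HomologicalComplex.quasiIso X.Modules (ComplexShape.up ℤ))
      ((𝟭 X.Modules).mapHomologicalComplex (ComplexShape.up ℤ) ⋙ DerivedCategory.Q) (𝟭 (DCoh.D X)) :=
    ⟨Functor.rightUnitor _ ≪≫ (Functor.leftUnitor _).symm ≪≫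
      Functor.isoWhiskerRight (Functor.mapHomologicalComplexIdIso X.Modules (ComplexShape.up ℤ)).symm _⟩
  let idIso : (𝟭 X.Modules).mapDerivedCategory ≅ 𝟭 (DCoh.D X) :=
    Localization.liftNatIso DerivedCategory.Q (HomologicalComplex.quasiIso X.Modules (ComplexShape.up ℤ))
      ((𝟭 X.Modules).mapHomologicalComplex (ComplexShape.up ℤ) ⋙ DerivedCategory.Q)
      ((𝟭 X.Modules).mapHomologicalComplex (ComplexShape.up ℤ) ⋙ DerivedCategory.Q) _ _ (Iso.refl _)
  exact (CategoryTheory.Equivalence.mk (TD L) G.mapDerivedCategory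
    (idIso.symm ≪≫ Groth.DescLib.mapDerivedIso e.unitIso ≪≫ (Groth.DescLib.mapDerivedCompIso (DCoh.tensorRightMod L) G).symm)
    (Groth.DescLib.mapDerivedCompIso G (DCoh.tensorRightMod L) ≪≫ Groth.DescLib.mapDerivedIso e.counitIso ≪≫ idIso)
    ).isEquivalence_functor

theorem isEquivalence_iterT {L : X.Modules} [PreservesFiniteLimits (DCoh.tensorRightMod L)]
    [PreservesFiniteColimits (DCoh.tensorRightMod L)] (hL : PicF.IsInvertible L) :
    ∀ k, (iterT L k).IsEquivalence
  | 0 => inferInstanceAs (𝟭 (DCoh.D X)).IsEquivalence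
  | k + 1 => by
    haveI := isEquivalence_iterT hL k
    haveI := isEquivalence_TD hL
    exact inferInstanceAs (iterT L k ⋙ TD L).IsEquivalence

end Groth.Agent.KoszOrthLib
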